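import Groth.Agent.SiteCoh.DirectImage
import Groth.Prelude.Def_CohTop
import Mathlib.CategoryTheory.Sites.LeftExact
import Mathlib.Topology.Sheaves.SheafCondition.UniqueGluing

/-!
Higher direct images vanish when classes die locally; closed embeddings.
-/

universe u

open CategoryTheory Category Limits Opposite Abelian

namespace Groth.Agent.SiteCoh

variable {C D : Type u} [SmallCategory C] [SmallCategory D] {J : GrothendieckTopology C}
  {K : GrothendieckTopology D} (u : D ⥤ C) [u.IsContinuous K J]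

lemma isZero_sheafify_of_locally_zero (P : Dᵒᵖ ⥤ AddCommGrpCat.{u})
    (h : ∀ (V : D) (x : P.obj (op V)), ∃ S ∈ K V, ∀ ⦃W : D⦄ (g : W ⟶ V), S.arrows g → P.map g.op x = 0) :
    IsZero ((presheafToSheaf K AddCommGrpCat.{u}).obj P) := by
  have hG : ∀ (G : Sheaf K AddCommGrpCat.{u}) (t : P ⟶ G.obj), t = 0 := fun G t => by
    ext V x
    obtain ⟨S, hS, hk⟩ := h V.unop x
    have hsep := ((isSheaf_iff_isSheaf_of_type _ _).1
      ((sheafCompose K (forget AddCommGrpCat.{u})).obj G).property S hS).isSeparatedFor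
    refine hsep.ext fun W g hg => ?_
    change G.obj.map g.op (t.app V x) = G.obj.map g.op 0
    refine ((NatTrans.naturality_apply t g.op x).symm.trans ?_).trans (map_zero _).symm
    exact (congr_arg (t.app (op W)) (hk g hg)).trans (map_zero _)
  rw [IsZero.iff_id_eq_zero]
  apply ((sheafificationAdjunction K AddCommGrpCat.{u}).homEquiv _ _).injective
  exact (hG _ _).trans (hG _ _).symm

theorem isZero_rpush_of_locKilled {F : Sheaf J AddCommGrpCat.{u}} {q : ℕ} (h : LocKilled K u F q) :
    IsZero ((CohSite.Rpush J K u q).obj F) := by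
  refine IsZero.of_iso (isZero_sheafify_of_locally_zero _ fun V x => ?_) (rpushIso u F q)
  exact h V x

section Space

open TopologicalSpace

variable {X : TopCat.{u}}

lemma subsingleton_sections_bot (G : CohTop.Ab X) : Subsingleton (G.obj.obj (op (⊥ : Opens X))) := by
  refine ⟨fun a b => ?_⟩
  have hsep := ((isSheaf_iff_isSheaf_of_type _ _).1
      ((sheafCompose (Opens.grothendieckTopology X) (forget AddCommGrpCat.{u})).obj G).property
      (⊥ : Sieve (⊥ : Opens X)) (fun x hx => hx.elim)).isSeparatedFor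
  exact hsep.ext fun W g hg => hg.elim

lemma subsingleton_ext_bot (F : CohTop.Ab X) (n : ℕ) :
    Subsingleton (Ext (CohCx.freeSheaf (Opens.grothendieckTopology X) (⊥ : Opens X)) F n) := by
  have h0 : IsZero (CohCx.freeSheaf (Opens.grothendieckTopology X) (⊥ : Opens X)) := by
    rw [IsZero.iff_id_eq_zero]
    exact (secEquiv (⊥ : Opens X) _).injective ((subsingleton_sections_bot _).elim _ _)
  exact ⟨fun a b => by rw [← Ext.mk₀_id_comp a, ← Ext.mk₀_id_comp b, h0.eq_of_src (𝟙 _) 0,
    Ext.mk₀_zero, Ext.zero_comp, Ext.zero_comp]⟩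

theorem closedEmbedding_locKilled {Y : TopCat.{u}} (f : X ⟶ Y) (hf : Topology.IsClosedEmbedding f)
    (F : CohTop.Ab X) (q : ℕ) : LocKilled (Opens.grothendieckTopology Y) (Opens.map f) F (q + 1) := by
  intro V ξ
  let T : Sieve V :=
    { arrows := fun W g =>
        (Ext.mk₀ (CohCx.freeSheafMap (Opens.grothendieckTopology X) ((Opens.map f).map g))).comp ξ (zero_add (q + 1)) = 0
      downward_closed := fun {W W'} g h k => by
        rw [Functor.map_comp]
        have he : CohCx.freeSheafMap (Opens.grothendieckTopology X) ((Opens.map f).map k ≫ (Opens.map f).map g) =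
            CohCx.freeSheafMap (Opens.grothendieckTopology X) ((Opens.map f).map k) ≫
              CohCx.freeSheafMap (Opens.grothendieckTopology X) ((Opens.map f).map g) := by
          simp only [CohCx.freeSheafMap, Functor.map_comp, Functor.whiskerRight_comp]
        rw [he, ← Ext.mk₀_comp_mk₀, Ext.comp_assoc _ _ _ (zero_add 0) (zero_add _) (by omega), h, Ext.comp_zero] }
  refine ⟨T, fun y hy => ?_, fun W g hg => hg⟩
  by_cases hr : y ∈ Set.range f
  · obtain ⟨z, rfl⟩ := hr
    obtain ⟨S, hS, hk⟩ := exists_sieve_comp_eq_zero q F ξ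
    obtain ⟨U', i, hi, hz⟩ := hS z hy
    obtain ⟨W₀, hW₀, he⟩ := hf.isInducing.isOpen_iff.mp U'.isOpen
    refine ⟨V ⊓ ⟨W₀, hW₀⟩, homOfLE inf_le_left, ?_, hy, ?_⟩
    · have hle : (Opens.map f).obj (V ⊓ ⟨W₀, hW₀⟩) ≤ U' := fun w hw => by
        have : w ∈ f ⁻¹' W₀ := hw.2
        rwa [he] at this
      exact hk _ (S.downward_closed hi (homOfLE hle))
    · have : z ∈ f ⁻¹' W₀ := by rw [he]; exact hz
      exact this
  · refine ⟨V ⊓ ⟨(Set.range f)ᶜ, hf.isClosed_range.isOpen_compl⟩, homOfLE inf_le_left, ?_, hy, hr⟩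
    have hbot : (Opens.map f).obj (V ⊓ ⟨(Set.range f)ᶜ, hf.isClosed_range.isOpen_compl⟩) = ⊥ :=
      eq_bot_iff.mpr fun w hw => (hw.2 ⟨w, rfl⟩).elim
    have := subsingleton_ext_bot F (q + 1)
    rw [← hbot] at this
    exact Subsingleton.elim _ _

end Space

end Groth.Agent.SiteCoh
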