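import Groth.Agent.SiteCoh.Cech
import Mathlib.CategoryTheory.Sites.IsSheafFor
import Mathlib.CategoryTheory.Sites.EpiMono
import Mathlib.CategoryTheory.Sites.Spaces

/-!
Čech cohomology of a covering family: gluing, lifting sections, dimension shifting.
-/

universe u v

open CategoryTheory Category Limits Opposite

namespace Groth.Agent.SiteCoh

variable {C : Type u} [SmallCategory C] {J : GrothendieckTopology C}
  {D : Type u} [Category.{v} D] [HasFiniteProducts D]

/-- A covering of `U` by the images of a family of objects of `D`, which sees all overlaps. -/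
structure CoverData (J : GrothendieckTopology C) (Φ : D ⥤ C) {ι : Type u} (Y : ι → D) (U : C) : Type u where
  /-- the maps of the cover -/
  c : ∀ i, Φ.obj (Y i) ⟶ U
  comp : ∀ (i j : ι) (d : D) (f : d ⟶ Y i) (g : d ⟶ Y j), Φ.map f ≫ c i = Φ.map g ≫ c j
  lift : ∀ (i j : ι) (Z : C) (f : Z ⟶ Φ.obj (Y i)) (g : Z ⟶ Φ.obj (Y j)), f ≫ c i = g ≫ c j →
    ∃ (d : D) (f' : d ⟶ Y i) (g' : d ⟶ Y j) (k : Z ⟶ Φ.obj d), k ≫ Φ.map f' = f ∧ k ≫ Φ.map g' = g
  cover : Sieve.ofArrows (fun i => Φ.obj (Y i)) c ∈ J U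

variable {Φ : D ⥤ C} {ι : Type u} {Y : ι → D} {U : C}

/-- Restriction of a presheaf on `C` to `D`. -/
abbrev res' (Φ : D ⥤ C) (F : Sheaf J AddCommGrpCat.{u}) : Dᵒᵖ ⥤ AddCommGrpCat.{u} := Φ.op ⋙ F.obj

/-- A natural map restricted to `D`. -/
abbrev resMap' (Φ : D ⥤ C) {F G : Sheaf J AddCommGrpCat.{u}} (f : F ⟶ G) : res' Φ F ⟶ res' Φ G :=
  Functor.whiskerLeft Φ.op f.hom

variable (c : CoverData J Φ Y U) (F : Sheaf J AddCommGrpCat.{u})

/-- The augmentation of the Čech complex. -/
noncomputable def aug (s : F.obj.obj (op U)) : Cochain Y (res' Φ F) 0 :=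
  fun a => F.obj.map (Φ.map (Pi.π (Y ∘ a) 0) ≫ c.c (a 0)).op s

lemma cd_one_apply (x : Cochain Y (res' Φ F) 0) (a : Fin 2 → ι) :
    cd Y (res' Φ F) x a = (res' Φ F).map (tupleDrop Y a 0).op (x (a ∘ (0 : Fin 2).succAbove)) -
      (res' Φ F).map (tupleDrop Y a 1).op (x (a ∘ (1 : Fin 2).succAbove)) := by
  simp [cd_sum, Fin.sum_univ_two, sub_eq_add_neg]
  rfl

lemma cd_aug (s : F.obj.obj (op U)) : cd Y (res' Φ F) (aug c F s) = 0 := by
  funext a
  rw [cd_one_apply, Pi.zero_apply, sub_eq_zero]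
  simp only [aug, Functor.comp_map, Functor.op_map, Quiver.Hom.unop_op, ← ConcreteCategory.comp_apply,
    ← Functor.map_comp, ← op_comp]
  congr 3
  simp only [← Category.assoc, ← Functor.map_comp]
  congr 1
  exact c.comp _ _ _ _ _

/-- The value of a `0`-cochain along a map into one member of the family. -/
noncomputable def val0 (x : Cochain Y (res' Φ F) 0) (i : ι) {d : D} (f : d ⟶ Y i) : F.obj.obj (op (Φ.obj d)) :=
  (res' Φ F).map (Pi.lift fun _ => f : d ⟶ tupleProd Y (n := 0) (fun _ => i)).op (x fun _ => i)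

lemma map_eq_val0 (x : Cochain Y (res' Φ F) 0) {d : D} (a : Fin 1 → ι) (i : ι) (ha : a 0 = i)
    (m : d ⟶ tupleProd Y a) (f : d ⟶ Y i) (hm : m ≫ Pi.π (Y ∘ a) 0 ≫ eqToHom (congr_arg Y ha) = f) :
    (res' Φ F).map m.op (x a) = val0 F x i f := by
  obtain rfl : a = fun _ => i := funext fun k => by rw [Subsingleton.elim k 0]; exact ha
  unfold val0
  congr 3
  refine congr_arg Quiver.Hom.op (Pi.hom_ext (f := fun _ : Fin 1 => Y i) _ _ fun k => ?_)
  obtain rfl : k = 0 := Subsingleton.elim _ _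
  refine Eq.trans ?_ (Pi.lift_π (f := fun _ : Fin 1 => Y i) (fun _ => f) 0).symm
  exact (congr_arg (m ≫ ·) (Category.comp_id _).symm).trans hm

include c in
lemma exists_aug (x : Cochain Y (res' Φ F) 0) (hx : cd Y (res' Φ F) x = 0) : ∃ s, aug c F s = x := by
  have hF : Presieve.IsSheafFor (F.obj ⋙ forget AddCommGrpCat.{u})
      (Presieve.ofArrows (fun i => Φ.obj (Y i)) c.c) := by
    rw [Presieve.isSheafFor_iff_generate]
    exact (isSheaf_iff_isSheaf_of_type _ _).1
      ((sheafCompose J (forget AddCommGrpCat.{u})).obj F).property _ c.cover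
  rw [Presieve.isSheafFor_arrows_iff] at hF
  obtain ⟨s, hs, -⟩ := hF (fun i => val0 F x i (𝟙 (Y i))) (by
    intro i j Z gi gj he
    obtain ⟨d, f, g, k, rfl, rfl⟩ := c.lift i j Z gi gj he
    change F.obj.map (k ≫ Φ.map f).op (val0 F x i (𝟙 _)) = F.obj.map (k ≫ Φ.map g).op (val0 F x j (𝟙 _))
    have key : ∀ (l : ι) (e : d ⟶ Y l), F.obj.map (Φ.map e).op (val0 F x l (𝟙 _)) = val0 F x l e := by
      intro l e
      change ((res' Φ F).map e.op) ((res' Φ F).map _ (x _)) = (res' Φ F).map _ (x _)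
      rw [← ConcreteCategory.comp_apply, ← Functor.map_comp, ← op_comp]
      refine congr_arg (fun q => (res' Φ F).map (Quiver.Hom.op q) (x _)) ?_
      exact Pi.hom_ext _ _ fun _ => by simp
    simp only [op_comp, Functor.map_comp, ConcreteCategory.comp_apply, key]
    congr 1
    let b : Fin 2 → ι := ![i, j]
    let m : d ⟶ tupleProd Y b := Pi.lift (Fin.cases (motive := fun k => d ⟶ Y (b k)) f
      (Fin.cases (motive := fun k => d ⟶ Y (b k.succ)) g (fun k => k.elim0)))
    have h0 := congr_arg ((res' Φ F).map m.op) (congr_fun hx b)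
    rw [cd_one_apply, map_sub, Pi.zero_apply, map_zero, sub_eq_zero, ← ConcreteCategory.comp_apply,
      ← ConcreteCategory.comp_apply, ← Functor.map_comp, ← Functor.map_comp, ← op_comp, ← op_comp] at h0
    rw [map_eq_val0 F x (b ∘ (0 : Fin 2).succAbove) j (by simp [b]) _ g ?_,
      map_eq_val0 F x (b ∘ (1 : Fin 2).succAbove) i (by simp [b]) _ f ?_] at h0
    · exact h0.symm
    · rw [Category.assoc, ← Category.assoc (tupleDrop _ _ _), Pi.lift_π]
      simp only [m, Pi.lift_π_assoc]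
      exact Category.comp_id _
    · rw [Category.assoc, ← Category.assoc (tupleDrop _ _ _), Pi.lift_π]
      simp only [m, Pi.lift_π_assoc]
      exact Category.comp_id _)
  refine ⟨s, funext fun a => ?_⟩
  have h1 : F.obj.map (c.c (a 0)).op s = val0 F x (a 0) (𝟙 _) := hs (a 0)
  change F.obj.map (Φ.map (Pi.π (Y ∘ a) 0) ≫ c.c (a 0)).op s = x a
  rw [op_comp, Functor.map_comp, ConcreteCategory.comp_apply, h1]
  change (res' Φ F).map (Pi.π (Y ∘ a) 0).op ((res' Φ F).map _ (x _)) = x a
  rw [← ConcreteCategory.comp_apply, ← Functor.map_comp, ← op_comp]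
  refine (map_eq_val0 F x (fun _ => a 0) (a 0) rfl _ (Pi.π (Y ∘ a) 0) (by simp)).trans ?_
  refine (map_eq_val0 F x a (a 0) rfl (𝟙 _) (Pi.π (Y ∘ a) 0) (by simp)).symm.trans ?_
  simp

include c in
lemma aug_injective : Function.Injective (aug c F) := by
  intro s t h
  have hF : Presieve.IsSeparatedFor (F.obj ⋙ forget AddCommGrpCat.{u})
      (Presieve.ofArrows (fun i => Φ.obj (Y i)) c.c) := by
    have := (isSheaf_iff_isSheaf_of_type _ _).1
      ((sheafCompose J (forget AddCommGrpCat.{u})).obj F).property _ c.cover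
    exact ((Presieve.isSheafFor_iff_generate _).mpr this).isSeparatedFor
  refine hF.ext fun Z f hf => ?_
  cases hf with | mk i => ?_
  have := congr_arg ((res' Φ F).map (Pi.lift fun _ => 𝟙 (Y i) : Y i ⟶ tupleProd Y (n := 0) (fun _ => i)).op)
    (congr_fun h fun _ => i)
  simp only [aug, Functor.comp_map, Functor.op_map, Quiver.Hom.unop_op, ← ConcreteCategory.comp_apply,
    ← Functor.map_comp, ← op_comp] at this
  have e : Φ.map (Pi.lift fun _ => 𝟙 (Y i) : Y i ⟶ tupleProd Y (n := 0) (fun _ => i)) ≫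
      Φ.map (Pi.π (Y ∘ fun _ : Fin 1 => i) 0) ≫ c.c i = c.c i := by
    rw [← Category.assoc, ← Functor.map_comp, Pi.lift_π, CategoryTheory.Functor.map_id]
    exact Category.id_comp _
  rw [e] at this
  exact this

lemma cmap_aug {F G : Sheaf J AddCommGrpCat.{u}} (f : F ⟶ G) (s : F.obj.obj (op U)) :
    cmap (resMap' Φ f) (aug c F s) = aug c G (f.hom.app (op U) s) :=
  funext fun _ => NatTrans.naturality_apply f.hom _ s

section Sections

variable {S : ShortComplex (Sheaf J AddCommGrpCat.{u})} (hS : S.ShortExact)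

include hS in
omit [HasFiniteProducts D] in
lemma sections_injective (V : C) : Function.Injective (S.f.hom.app (op V)) := by
  intro s t h
  have := hS.mono_f
  apply (secEquiv V S.X₁).symm.injective
  rw [← cancel_mono S.f]
  exact (secEquiv V S.X₂).injective (by simpa [secEquiv_comp] using h)

include hS in
omit [HasFiniteProducts D] in
lemma sections_exact (V : C) (x : S.X₂.obj.obj (op V)) (hx : S.g.hom.app (op V) x = 0) :
    ∃ y, S.f.hom.app (op V) y = x := by
  have := hS.mono_f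
  obtain ⟨ψ, hψ⟩ := KernelFork.IsLimit.lift' hS.fIsKernel ((secEquiv V S.X₂).symm x)
    ((secEquiv V S.X₃).injective (by simp [secEquiv_comp, hx]))
  refine ⟨secEquiv V S.X₁ ψ, ?_⟩
  rw [← secEquiv_comp]
  exact (congr_arg (secEquiv V S.X₂) hψ).trans (AddEquiv.apply_symm_apply _ _)

lemma zero_apply' {V : C} (x : S.X₁.obj.obj (op V)) : S.g.hom.app (op V) (S.f.hom.app (op V) x) = 0 :=
  ConcreteCategory.congr_hom (NatTrans.congr_app (congr_arg (fun m => m.hom) S.zero) (op V)) x

include hS c in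
/-- Lifting a section, given local lifts on a family without first Čech cohomology. -/
lemma exists_lift_of_cechExact (h : CechExact Y (res' Φ S.X₁) 0) (s : S.X₃.obj.obj (op U))
    (hloc : ∀ i, ∃ t, S.g.hom.app (op (Φ.obj (Y i))) t = S.X₃.obj.map (c.c i).op s) :
    ∃ t, S.g.hom.app (op U) t = s := by
  choose t ht using hloc
  let x : Cochain Y (res' Φ S.X₂) 0 := fun a => (res' Φ S.X₂).map (Pi.π (Y ∘ a) 0).op (t (a 0))
  have hx : cmap (resMap' Φ S.g) x = aug c S.X₃ s := funext fun a => by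
    refine (NatTrans.naturality_apply S.g.hom _ _).trans ?_
    refine (congr_arg _ (ht (a 0))).trans ?_
    simp [aug]
  have hd : ∀ a, S.g.hom.app (op (Φ.obj (tupleProd Y a))) (cd Y (res' Φ S.X₂) x a) = 0 := fun a => by
    change cmap (resMap' Φ S.g) (cd Y (res' Φ S.X₂) x) a = 0
    rw [cmap_cd, hx, cd_aug]; rfl
  choose w hw using fun a => sections_exact hS _ _ (hd a)
  have hw' : cmap (resMap' Φ S.f) w = cd Y (res' Φ S.X₂) x := funext hw
  have hdw : cd Y (res' Φ S.X₁) w = 0 := funext fun a => sections_injective hS _ (by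
    change cmap (resMap' Φ S.f) (cd Y (res' Φ S.X₁) w) a = S.f.hom.app _ 0
    rw [cmap_cd, hw', cd_cd, map_zero]; rfl)
  obtain ⟨v, hv⟩ := h w hdw
  obtain ⟨r, hr⟩ := exists_aug c S.X₂ (x - cmap (resMap' Φ S.f) v) (by
    rw [cd_sub, ← cmap_cd, hv, hw', sub_self])
  refine ⟨r, aug_injective c S.X₃ ?_⟩
  rw [← cmap_aug, hr, cmap_sub, hx]
  refine sub_eq_self.mpr (funext fun a => ?_)
  exact zero_apply' (v a)

include hS in
/-- Dimension shifting for Čech cohomology. -/
lemma cechExact_shift (hsurj : ∀ (n : ℕ) (a : Fin (n + 1) → ι),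
      Function.Surjective (S.g.hom.app (op (Φ.obj (tupleProd Y a)))))
    (n : ℕ) (h₂ : CechExact Y (res' Φ S.X₂) n) (h₁ : CechExact Y (res' Φ S.X₁) (n + 1)) :
    CechExact Y (res' Φ S.X₃) n := by
  intro z hz
  choose x hx using fun a => hsurj (n + 1) a (z a)
  have hx' : cmap (resMap' Φ S.g) x = z := funext hx
  have hd : ∀ a, S.g.hom.app (op (Φ.obj (tupleProd Y a))) (cd Y (res' Φ S.X₂) x a) = 0 := fun a => by
    change cmap (resMap' Φ S.g) (cd Y (res' Φ S.X₂) x) a = 0
    rw [cmap_cd, hx', hz]; rfl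
  choose w hw using fun a => sections_exact hS _ _ (hd a)
  have hw' : cmap (resMap' Φ S.f) w = cd Y (res' Φ S.X₂) x := funext hw
  have hdw : cd Y (res' Φ S.X₁) w = 0 := funext fun a => sections_injective hS _ (by
    change cmap (resMap' Φ S.f) (cd Y (res' Φ S.X₁) w) a = S.f.hom.app _ 0
    rw [cmap_cd, hw', cd_cd, map_zero]; rfl)
  obtain ⟨v, hv⟩ := h₁ w hdw
  obtain ⟨y, hy⟩ := h₂ (x - cmap (resMap' Φ S.f) v) (by rw [cd_sub, ← cmap_cd, hv, hw', sub_self])
  refine ⟨cmap (resMap' Φ S.g) y, ?_⟩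
  rw [← cmap_cd, hy, cmap_sub, hx']
  refine sub_eq_self.mpr (funext fun a => ?_)
  exact zero_apply' (v a)

end Sections

/-- The covering data attached to a family over `U`. -/
noncomputable def overData [HasPullbacks C] {V : C} {κ : Type u} (Z : κ → Over V)
    (hZ : Sieve.ofArrows (fun i => (Z i).left) (fun i => (Z i).hom) ∈ J V) :
    CoverData J (Over.forget V) Z V where
  c i := (Z i).hom
  comp _i _j _d f g := (Over.w f).trans (Over.w g).symm
  lift i _j W f g h := ⟨Over.mk (f ≫ (Z i).hom), Over.homMk f rfl, Over.homMk g h.symm, 𝟙 W,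
    Category.id_comp _, Category.id_comp _⟩
  cover := hZ

/-- The covering data attached to a family of opens. -/
noncomputable def opensData {X : TopCat.{u}} {κ : Type u} (V : κ → TopologicalSpace.Opens X) :
    CoverData (Opens.grothendieckTopology X) (𝟭 (TopologicalSpace.Opens X)) V (iSup V) where
  c i := homOfLE (le_iSup V i)
  comp _i _j _d _f _g := Subsingleton.elim _ _
  lift _i _j W f g _ := ⟨W, f, g, 𝟙 W, Category.id_comp _, Category.id_comp _⟩
  cover := fun x hx => by
    obtain ⟨i, hi⟩ := TopologicalSpace.Opens.mem_iSup.1 hx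
    exact ⟨V i, homOfLE (le_iSup V i), Sieve.ofArrows_mk (fun i => V i) _ i, hi⟩

end Groth.Agent.SiteCoh
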