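import Groth.Agent.SiteCoh.Basic

/-!
Cohomology on a terminal object agrees with global cohomology.
-/

universe u

open CategoryTheory Category Limits Opposite Abelian

namespace Groth.Agent.SiteCoh

variable {C : Type u} [SmallCategory C] (J : GrothendieckTopology C) {T : C} (hT : IsTerminal T)

/-- The constant sheaf with value the integers. -/
noncomputable abbrev constZ : Sheaf J AddCommGrpCat.{u} :=
  (constantSheaf J AddCommGrpCat.{u}).obj (AddCommGrpCat.of (ULift ℤ))

/-- Maps out of the constant sheaf are sections over a terminal object. -/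
noncomputable def constHom (F : Sheaf J AddCommGrpCat.{u}) : (constZ J ⟶ F) ≃+ F.obj.obj (op T) :=
  AddEquiv.trans ((constantSheafAdj J AddCommGrpCat hT).homAddEquiv _ F) (AddCommGrpCat.uliftZMultiplesAddEquiv _)

lemma constHom_comp {F G : Sheaf J AddCommGrpCat.{u}} (φ : constZ J ⟶ F) (f : F ⟶ G) :
    constHom J hT G (φ ≫ f) = f.hom.app (op T) (constHom J hT F φ) := by
  simp only [constHom, AddEquiv.trans_apply]
  rfl

/-- The free sheaf on a terminal object is the constant sheaf. -/
noncomputable def freeTerminalIso : CohCx.freeSheaf J T ≅ constZ J where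
  hom := (secEquiv T (constZ J)).symm (constHom J hT _ (𝟙 _))
  inv := (constHom J hT _).symm (gen J T)
  hom_inv_id := (secEquiv T (CohCx.freeSheaf J T)).injective (by
    rw [secEquiv_comp, AddEquiv.apply_symm_apply, ← constHom_comp, Category.id_comp,
      AddEquiv.apply_symm_apply]
    rfl)
  inv_hom_id := (constHom J hT _).injective (by
    rw [constHom_comp, AddEquiv.apply_symm_apply]
    exact ((secEquiv T (constZ J)).apply_symm_apply _))

/-- Cohomology on a terminal object is global cohomology. -/
noncomputable def huTerminalEquiv (F : Sheaf J AddCommGrpCat.{u}) (n : ℕ) :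
    Sheaf.H.{u} F n ≃+ CohSite.HU F n T :=
  (((extFunctor n).mapIso (freeTerminalIso J hT).op).app F).addCommGroupIsoToAddEquiv

end Groth.Agent.SiteCoh
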