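import Groth.Agent.SiteCoh.Cover
import Mathlib.CategoryTheory.Sites.EpiMono
import Mathlib.Topology.Sheaves.Flasque
import Mathlib.CategoryTheory.Limits.Lattice

/-!
Surjectivity on sections from vanishing of first Čech cohomology, Cartan's criterion, flasque sheaves.
-/

universe u v

open CategoryTheory Category Limits Opposite TopologicalSpace

namespace Groth.Agent.SiteCoh

variable {C : Type u} [SmallCategory C] {J : GrothendieckTopology C}

lemma exists_sieve_lift {S : ShortComplex (Sheaf J AddCommGrpCat.{u})} (hS : S.ShortExact) {U : C}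
    (s : S.X₃.obj.obj (op U)) : ∃ T ∈ J U, ∀ ⦃V : C⦄ (f : V ⟶ U), T f →
      ∃ t, S.g.hom.app (op V) t = S.X₃.obj.map f.op s := by
  have := hS.epi_g
  have : Sheaf.IsLocallySurjective S.g := (Sheaf.isLocallySurjective_iff_epi' AddCommGrpCat.{u} S.g).mpr this
  exact ⟨Presheaf.imageSieve S.g.hom s, Presheaf.imageSieve_mem J S.g.hom s, fun V f hf => hf⟩

lemma lift_restrict {S : ShortComplex (Sheaf J AddCommGrpCat.{u})} {U V W : C} (f : V ⟶ U) (g : W ⟶ V)
    (s : S.X₃.obj.obj (op U)) (h : ∃ t, S.g.hom.app (op V) t = S.X₃.obj.map f.op s) :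
    ∃ t, S.g.hom.app (op W) t = S.X₃.obj.map (g ≫ f).op s := by
  obtain ⟨t, ht⟩ := h
  exact ⟨S.X₂.obj.map g.op t, by
    rw [NatTrans.naturality_apply, ht, ← ConcreteCategory.comp_apply, ← Functor.map_comp, ← op_comp]⟩

lemma surjective_of_cech [HasPullbacks C] {S : ShortComplex (Sheaf J AddCommGrpCat.{u})} (hS : S.ShortExact) (U : C)
    (h : ∀ T ∈ J U, ∃ (ι : Type u) (Y : ι → Over U), (∀ i, T.arrows (Y i).hom) ∧
      Sieve.ofArrows (fun i => (Y i).left) (fun i => (Y i).hom) ∈ J U ∧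
      CechExact Y (res' (Over.forget U) S.X₁) 0) :
    Function.Surjective (S.g.hom.app (op U)) := by
  intro s
  obtain ⟨T, hT, hl⟩ := exists_sieve_lift hS s
  obtain ⟨ι, Y, hYT, hYc, hY⟩ := h T hT
  exact exists_lift_of_cechExact (overData Y hYc) hS hY s fun i => hl _ (hYT i)

/-- Cartan's criterion on a site with fibre products. -/
theorem cartan [HasPullbacks C] (B : Set C) (Cov : ∀ (U : C) (ι : Type u), (ι → Over U) → Prop)
    (h1 : ∀ (U : C) (ι : Type u) (Y : ι → Over U), Cov U ι Y → U ∈ B ∧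
      Sieve.ofArrows (fun i => (Y i).left) (fun i => (Y i).hom) ∈ J U ∧
      ∀ (p : ℕ) (a : Fin (p + 1) → ι), (∏ᶜ fun k => Y (a k)).left ∈ B)
    (h2 : ∀ U ∈ B, ∀ T ∈ J U, ∃ (ι : Type u) (Y : ι → Over U), Cov U ι Y ∧ ∀ i, T.arrows (Y i).hom)
    (F : Sheaf J AddCommGrpCat.{u})
    (h3 : ∀ (U : C) (ι : Type u) (Y : ι → Over U), Cov U ι Y → ∀ p : ℕ, CechExact Y (res' (Over.forget U) F) p)
    (U : C) (hU : U ∈ B) (p : ℕ) : Subsingleton (CohSite.HU F (p + 1) U) := by
  let P : Sheaf J AddCommGrpCat.{u} → Prop := fun G =>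
    ∀ (U : C) (ι : Type u) (Y : ι → Over U), Cov U ι Y → ∀ p : ℕ, CechExact Y (res' (Over.forget U) G) p
  have hsurj : ∀ G, P G → ∀ V ∈ B, Function.Surjective ((embedSeq G).g.hom.app (op V)) := fun G hG V hV =>
    surjective_of_cech (embedSeq_shortExact G) V fun T hT => by
      obtain ⟨ι, Y, hY, hYT⟩ := h2 V hV T hT
      exact ⟨ι, Y, hYT, (h1 _ _ _ hY).2.1, hG _ _ _ hY 0⟩
  refine acyclic_of_class B P hsurj (fun G hG V ι Y hY p => ?_) F h3 U hU p
  exact cechExact_shift (embedSeq_shortExact G)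
    (fun n a => hsurj G hG _ ((h1 _ _ _ hY).2.2 n a)) p
    (cechExact_sheaf_injective_over J _ Y p) (hG _ _ _ hY (p + 1))

section Opens

variable {X : TopCat.{u}}

lemma tupleProd_eq_iInf {ι : Type u} (V : ι → Opens X) {n : ℕ} (a : Fin (n + 1) → ι) :
    tupleProd V a = ⨅ k, V (a k) :=
  le_antisymm (le_iInf fun k => leOfHom (Pi.π (V ∘ a) k))
    (leOfHom (Pi.lift fun k => homOfLE (iInf_le (fun k => V (a k)) k)))

lemma surjective_of_cech_opens {S : ShortComplex (Sheaf (Opens.grothendieckTopology X) AddCommGrpCat.{u})}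
    (hS : S.ShortExact) (U : Opens X)
    (h : ∀ (ι : Type u) (V : ι → Opens X), iSup V = U → ∃ (κ : Type u) (W : κ → Opens X),
      iSup W = U ∧ (∀ k, ∃ i, W k ≤ V i) ∧ CechExact W (res' (𝟭 (Opens X)) S.X₁) 0) :
    Function.Surjective (S.g.hom.app (op U)) := by
  intro s
  obtain ⟨T, hT, hl⟩ := exists_sieve_lift hS s
  let V : {W : Opens X // ∃ f : W ⟶ U, T f} → Opens X := fun W => W.1
  obtain ⟨κ, W, hW, hr, hWc⟩ := h _ V (le_antisymm (iSup_le fun W => leOfHom W.2.choose)
    (fun x hx => by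
      obtain ⟨V', f, hf, hxV⟩ := hT x hx
      exact Opens.mem_iSup.2 ⟨⟨V', f, hf⟩, hxV⟩))
  subst hW
  refine exists_lift_of_cechExact (opensData W) hS hWc s fun k => ?_
  obtain ⟨i, hi⟩ := hr k
  obtain ⟨f, hf⟩ := i.2
  exact lift_restrict f (homOfLE hi) s (hl f hf)

/-- Cartan's criterion for opens of a space. -/
theorem cartanOpens (B : Set (Opens X)) (Cov : ∀ (ι : Type u), (ι → Opens X) → Prop)
    (h1 : ∀ (ι : Type u) (V : ι → Opens X), Cov ι V → iSup V ∈ B ∧
      ∀ (p : ℕ) (a : Fin (p + 1) → ι), (iInf fun k => V (a k)) ∈ B)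
    (h2 : ∀ U ∈ B, ∀ (κ : Type u) (W : κ → Opens X), iSup W = U →
      ∃ (ι : Type u) (V : ι → Opens X), Cov ι V ∧ iSup V = U ∧ ∀ i, ∃ k, V i ≤ W k)
    (F : Sheaf (Opens.grothendieckTopology X) AddCommGrpCat.{u})
    (h3 : ∀ (ι : Type u) (V : ι → Opens X), Cov ι V → ∀ p : ℕ, CechExact V (res' (𝟭 (Opens X)) F) p)
    (U : Opens X) (hU : U ∈ B) (p : ℕ) : Subsingleton (CohSite.HU F (p + 1) U) := by
  let P : Sheaf (Opens.grothendieckTopology X) AddCommGrpCat.{u} → Prop := fun G =>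
    ∀ (ι : Type u) (V : ι → Opens X), Cov ι V → ∀ p : ℕ, CechExact V (res' (𝟭 (Opens X)) G) p
  have hsurj : ∀ G, P G → ∀ V ∈ B, Function.Surjective ((embedSeq G).g.hom.app (op V)) := fun G hG V hV =>
    surjective_of_cech_opens (embedSeq_shortExact G) V fun κ W hW => by
      obtain ⟨ι, V', hC, hV', hr⟩ := h2 V hV κ W hW
      exact ⟨ι, V', hV', hr, hG _ _ hC 0⟩
  refine acyclic_of_class B P hsurj (fun G hG ι V hV p => ?_) F h3 U hU p
  refine cechExact_shift (embedSeq_shortExact G) (fun n a => hsurj G hG _ ?_) p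
    (cechExact_sheaf_injective (Opens.grothendieckTopology X) _ V p) (hG _ _ hV (p + 1))
  exact (tupleProd_eq_iInf V a) ▸ (h1 _ _ hV).2 n a

/-- Restrictions of an injective abelian sheaf are surjective. -/
lemma injective_isFlasque (I : Sheaf (Opens.grothendieckTopology X) AddCommGrpCat.{u}) [Injective I] :
    TopCat.Sheaf.IsFlasque I where
  epi {U V} i := by
    refine (AddCommGrpCat.epi_iff_surjective _).mpr fun t => ?_
    have : Injective I.obj :=
      Injective.injective_of_adjoint (sheafificationAdjunction _ AddCommGrpCat.{u}) I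
    let c := toCoind I.obj
    let r := Injective.factorThru (𝟙 I.obj) c
    classical
    let φ : (coind fun W => I.obj.obj (op W)).obj U := fun W _ =>
      if h : W ≤ V.unop then I.obj.map (homOfLE h).op t else 0
    have hφ : (coind fun W => I.obj.obj (op W)).map i φ = c.app V t := funext fun W => funext fun g => by
      change φ W (g ≫ i.unop) = I.obj.map g.op t
      exact dif_pos (leOfHom g)
    refine ⟨r.app U φ, ?_⟩
    rw [← NatTrans.naturality_apply, hφ]
    exact ConcreteCategory.congr_hom (NatTrans.congr_app (Injective.comp_factorThru (𝟙 I.obj) c) V) t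

/-- Flasque sheaves are acyclic on every open. -/
theorem flasque_acyclic (F : Sheaf (Opens.grothendieckTopology X) AddCommGrpCat.{u}) [TopCat.Sheaf.IsFlasque F]
    (U : Opens X) (p : ℕ) : Subsingleton (CohSite.HU F (p + 1) U) := by
  refine acyclic_of_class Set.univ (fun G => TopCat.Sheaf.IsFlasque G) (fun G hG V _ => ?_) (fun G hG => ?_)
    F ‹_› U trivial p
  · have : TopCat.Sheaf.IsFlasque (embedSeq G).X₁ := hG
    exact (AddCommGrpCat.epi_iff_surjective _).mp (TopCat.Sheaf.IsFlasque.epi_of_shortExact (embedSeq_shortExact G))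
  · have : TopCat.Sheaf.IsFlasque (embedSeq G).X₁ := hG
    have : TopCat.Sheaf.IsFlasque (embedSeq G).X₂ := injective_isFlasque _
    exact TopCat.Sheaf.IsFlasque.of_shortExact_of_isFlasque₁₂ (embedSeq_shortExact G)

end Opens

end Groth.Agent.SiteCoh
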