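import Groth.Agent.SiteCoh.Compare

/-!
Comparison of cohomology along an additive functor which is exact on a class of sheaves.
-/

universe u

open CategoryTheory Category Limits Opposite Abelian

namespace Groth.Agent.SiteCoh

variable {C C' : Type u} [SmallCategory C] [SmallCategory C'] {J : GrothendieckTopology C}
  {J' : GrothendieckTopology C'}
  (R : Sheaf J AddCommGrpCat.{u} ⥤ Sheaf J' AddCommGrpCat.{u}) [R.PreservesZeroMorphisms]
  {U : C} {U' : C'}
  (e : ∀ F : Sheaf J AddCommGrpCat.{u}, F.obj.obj (op U) ≃+ (R.obj F).obj.obj (op U'))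
  (he : ∀ {F G : Sheaf J AddCommGrpCat.{u}} (f : F ⟶ G) (s : F.obj.obj (op U)),
    e G (f.hom.app (op U) s) = (R.map f).hom.app (op U') (e F s))

include e he in
/-- Dimension shifting comparison, relative to a class of sheaves. -/
theorem hu_compare_class (P : Sheaf J AddCommGrpCat.{u} → Prop)
    (hS : ∀ F, P F → ((embedSeq F).map R).ShortExact)
    (hI : ∀ (I : Sheaf J AddCommGrpCat.{u}), Injective I → ∀ q, Subsingleton (CohSite.HU (R.obj I) (q + 1) U'))
    (hquot : ∀ F, P F → P (embedSeq F).X₃) (n : ℕ) : ∀ F : Sheaf J AddCommGrpCat.{u}, P F →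
    Nonempty (CohSite.HU F n U ≃+ CohSite.HU (R.obj F) n U') := by
  induction n with
  | zero => exact fun F _ => ⟨((hu0 F U).trans (e F)).trans (hu0 (R.obj F) U').symm⟩
  | succ n ih =>
    intro F hF
    have h := embedSeq_shortExact F
    have h' := hS _ hF
    have hX : ∀ q, Subsingleton (CohSite.HU (embedSeq F).X₂ (q + 1) U) :=
      fun q => subsingleton_ext_injective _ _ q
    have hX' : ∀ q, Subsingleton (CohSite.HU ((embedSeq F).map R).X₂ (q + 1) U') :=
      fun q => hI _ (embedSeq_injective F) q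
    rcases n with _ | n
    · obtain ⟨ψ, hψs, hψk⟩ := hu_one_presentation (U := U) h hX
      obtain ⟨ψ', hψs', hψk'⟩ := hu_one_presentation (U := U') h' hX'
      refine ⟨equivOfKerEq ψ (ψ'.comp (e (embedSeq F).X₃).toAddMonoidHom) hψs
        (hψs'.comp (e (embedSeq F).X₃).surjective) fun x => (hψk x).trans ?_⟩
      refine Iff.trans ?_ (hψk' (e (embedSeq F).X₃ x)).symm
      constructor
      · rintro ⟨y, rfl⟩
        exact ⟨e (embedSeq F).X₂ y, (he (embedSeq F).g y).symm⟩
      · rintro ⟨y, hy⟩
        refine ⟨(e (embedSeq F).X₂).symm y, (e (embedSeq F).X₃).injective ((he (embedSeq F).g _).trans ?_)⟩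
        exact (congr_arg _ ((e (embedSeq F).X₂).apply_symm_apply y)).trans hy
    · obtain ⟨a⟩ := hu_shift (U := U) h hX n
      obtain ⟨b⟩ := hu_shift (U := U') h' hX' n
      obtain ⟨c⟩ := ih (embedSeq F).X₃ (hquot F hF)
      exact ⟨(a.symm.trans c).trans b⟩

include e he in
theorem hu_compare (hS : ∀ S : ShortComplex (Sheaf J AddCommGrpCat.{u}), S.ShortExact → (S.map R).ShortExact)
    (hI : ∀ I : Sheaf J AddCommGrpCat.{u}, Injective I → Injective (R.obj I)) (n : ℕ)
    (F : Sheaf J AddCommGrpCat.{u}) : Nonempty (CohSite.HU F n U ≃+ CohSite.HU (R.obj F) n U') :=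
  hu_compare_class R e he (fun _ => True) (fun F _ => hS _ (embedSeq_shortExact F))
    (fun I h q => have := hI I h; subsingleton_ext_injective _ _ q) (fun _ _ => trivial) n F trivial

end Groth.Agent.SiteCoh
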