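import Groth.Agent.SiteCoh.DirectImage
import Groth.Agent.SiteCoh.ShiftCompare
import Groth.Agent.SiteCoh.Cartan
import Groth.Agent.SiteCoh.Terminal
import Groth.Prelude.Def_CohTop

/-!
Cohomology of a space as cohomology of a direct image.
-/

universe u

open CategoryTheory Category Limits Opposite TopologicalSpace

namespace Groth.Agent.SiteCoh

variable {X Y : TopCat.{u}} (f : X ⟶ Y)

lemma push_injective_acyclic (I : CohTop.Ab X) [Injective I] (V : Opens Y) (q : ℕ) :
    Subsingleton (CohSite.HU ((CohTop.push f).obj I) (q + 1) V) :=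
  have := injective_isFlasque I
  have : TopCat.Sheaf.IsFlasque ((CohTop.push f).obj I) := TopCat.Sheaf.IsFlasque.pushforward_isFlasque I f
  flasque_acyclic _ V q

theorem leray_edge (F : CohTop.Ab X) (hF : DirectAcyclic (Opens.grothendieckTopology Y) (Opens.map f) F) (p : ℕ) :
    Nonempty (CohTop.H F p ≃+ CohTop.H ((CohTop.push f).obj F) p) := by
  obtain ⟨e⟩ := hu_compare_class (CohTop.push f) (U := (Opens.map f).obj ⊤) (U' := (⊤ : Opens Y))
    (fun G => AddEquiv.refl _) (fun _ _ => rfl)
    (DirectAcyclic (Opens.grothendieckTopology Y) (Opens.map f))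
    (fun G hG => directAcyclic_shortExact (Opens.map f) hG)
    (fun I hI q => @push_injective_acyclic _ _ f I hI ⊤ q)
    (fun G hG => directAcyclic_quotient (Opens.map f) hG) p F hF
  exact ⟨((huTerminalEquiv (Opens.grothendieckTopology X) (T := (Opens.map f).obj ⊤) isTerminalTop F p).trans e).trans
    (huTerminalEquiv (Opens.grothendieckTopology Y) isTerminalTop ((CohTop.push f).obj F) p).symm⟩

end Groth.Agent.SiteCoh
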