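import Groth.Agent.SiteCoh.Over
import Groth.Agent.SiteCoh.ShiftCompare
import Groth.Prelude.Def_CohTop
import Mathlib.Topology.Sheaves.Over

/-!
Restriction of abelian sheaves to an open subspace.
-/

universe u

open CategoryTheory Category Limits Opposite TopologicalSpace

namespace Groth.Agent.SiteCoh

variable {X : TopCat.{u}} (U : Opens X)

lemma restrFunctor_injective (I : CohTop.Ab X) [Injective I] : Injective ((CohTop.restrFunctor U).obj I) :=
  (U.sheafEquivOver (A := AddCommGrpCat.{u})).map_injective_iff _ |>.mpr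
    (restrU_injective (Opens.grothendieckTopology X) U I)

lemma restrFunctor_shortExact {S : ShortComplex (CohTop.Ab X)} (hS : S.ShortExact) :
    (S.map (CohTop.restrFunctor U)).ShortExact := by
  have h := restrU_shortExact (Opens.grothendieckTopology X) U hS
  exact h.map_of_exact (U.sheafEquivOver (A := AddCommGrpCat.{u})).functor

lemma restr_top_eq : op U = op ((U.overEquivalence.inverse.obj ⊤).left) := by
  congr 1
  ext x
  exact ⟨fun hx => ⟨⟨x, hx⟩, trivial, rfl⟩, fun ⟨y, _, hy⟩ => hy ▸ y.2⟩

/-- Sections over `U` as global sections of the restriction. -/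
noncomputable def restrTop (F : CohTop.Ab X) :
    F.obj.obj (op U) ≃+ ((CohTop.restrFunctor U).obj F).obj.obj (op (⊤ : Opens U)) :=
  (F.obj.mapIso (eqToIso (restr_top_eq U))).addCommGroupIsoToAddEquiv

theorem hu_restr (F : CohTop.Ab X) (n : ℕ) :
    Nonempty (CohTop.HU F n U ≃+ CohTop.H (CohTop.restr F U) n) := by
  obtain ⟨e⟩ := hu_compare (CohTop.restrFunctor U) (U := U) (U' := (⊤ : Opens U)) (restrTop U)
    (fun f s => (NatTrans.naturality_apply f.hom (eqToHom (restr_top_eq U)) s).symm)
    (fun _ h => restrFunctor_shortExact U h) (fun I hI => @restrFunctor_injective _ U I hI) n F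
  exact ⟨e.trans (huTerminalEquiv _ isTerminalTop (CohTop.restr F U) n).symm⟩

end Groth.Agent.SiteCoh
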