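import Groth.Prelude.Def_CohTop
import Mathlib.CategoryTheory.Sites.LocallyBijective
import Mathlib.Topology.Irreducible

/-!
Constant sheaves on irreducible spaces are flasque.
-/

universe u

open CategoryTheory Category Limits Opposite TopologicalSpace

namespace Groth.Agent.SiteCoh

variable (X : TopCat.{u}) (A : Type u) [AddCommGroup A]

/-- The presheaf with value `A` on nonempty opens and `0` on the empty one. -/
def genericPre : (Opens X)ᵒᵖ ⥤ AddCommGrpCat.{u} where
  obj U := AddCommGrpCat.of (PLift ((U.unop : Set X).Nonempty) → A)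
  map i := AddCommGrpCat.ofHom
    (AddMonoidHom.mk' (fun s h => s ⟨h.down.mono (leOfHom i.unop)⟩) fun _ _ => rfl)

/-- The canonical map from the constant presheaf. -/
def toGenericPre : (Functor.const (Opens X)ᵒᵖ).obj (AddCommGrpCat.of A) ⟶ genericPre X A where
  app U := AddCommGrpCat.ofHom (AddMonoidHom.mk' (fun a _ => a) fun _ _ => rfl)

variable [IrreducibleSpace X]

lemma genericPre_isSheaf : Presheaf.IsSheaf (Opens.grothendieckTopology X) (genericPre X A) := by
  rw [Presheaf.isSheaf_iff_isSheaf_forget _ _ (forget AddCommGrpCat.{u}), isSheaf_iff_isSheaf_of_type]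
  intro U S hS x hx
  have cover : ∀ h : PLift ((U : Set X).Nonempty), ∃ (V : Opens X) (f : V ⟶ U), S f ∧ (V : Set X).Nonempty :=
    fun h => by
      obtain ⟨p, hp⟩ := h.down
      obtain ⟨V, f, hf, hpV⟩ := hS p hp
      exact ⟨V, f, hf, p, hpV⟩
  choose V f hf hne using cover
  refine ⟨fun h => x (f h) (hf h) ⟨hne h⟩, fun W g hg => funext fun hW => ?_, fun s hs => funext fun h => ?_⟩
  · let h' : PLift ((U : Set X).Nonempty) := ⟨hW.down.mono (leOfHom g)⟩
    have hmeet : ((V h' ⊓ W : Opens X) : Set X).Nonempty :=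
      nonempty_preirreducible_inter (V h').2 W.2 (hne h') hW.down
    exact congr_fun (hx (homOfLE inf_le_left : V h' ⊓ W ⟶ V h') (homOfLE inf_le_right) (hf h') hg
      (Subsingleton.elim _ _)) ⟨hmeet⟩
  · exact congr_fun (hs (f h) (hf h)) ⟨hne h⟩

/-- The sheaf with value `A` on nonempty opens. -/
def genericSheaf : Sheaf (Opens.grothendieckTopology X) AddCommGrpCat.{u} :=
  ⟨genericPre X A, genericPre_isSheaf X A⟩

instance genericSheaf_isFlasque : TopCat.Sheaf.IsFlasque (genericSheaf X A) where
  epi {U V} i := (AddCommGrpCat.epi_iff_surjective _).mpr fun t => by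
    classical
    refine ⟨fun _ => if h : (V.unop : Set X).Nonempty then t ⟨h⟩ else 0, funext fun h => ?_⟩
    exact dif_pos h.down

/-- The constant sheaf on an irreducible space. -/
noncomputable def constIsoGeneric : CohTop.const X A ≅ genericSheaf X A := by
  let J := Opens.grothendieckTopology X
  have : Presheaf.IsLocallyInjective J (toGenericPre X A) := ⟨fun {U} a b h p hp => by
    refine ⟨U.unop, 𝟙 _, ?_, hp⟩
    exact congr_fun h ⟨⟨p, hp⟩⟩⟩
  have : Presheaf.IsLocallySurjective J (toGenericPre X A) := ⟨fun {U} s p hp => by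
    exact ⟨U, 𝟙 _, ⟨s ⟨⟨p, hp⟩⟩, funext fun h => rfl⟩, hp⟩⟩
  have := (J.W_iff (toGenericPre X A)).mp (J.W_of_isLocallyBijective (toGenericPre X A))
  exact @asIso _ _ _ _ ((presheafToSheaf J AddCommGrpCat.{u}).map (toGenericPre X A)) this ≪≫
    (asIso (sheafificationAdjunction J AddCommGrpCat.{u}).counit).app (genericSheaf X A)

lemma const_isFlasque : TopCat.Sheaf.IsFlasque (CohTop.const X A) where
  epi {U V} i := by
    have : Epi ((genericSheaf X A).obj.map i) := (genericSheaf_isFlasque X A).epi i
    let e := (constIsoGeneric X A)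
    have h : (CohTop.const X A).obj.map i = e.hom.hom.app U ≫ (genericSheaf X A).obj.map i ≫ e.inv.hom.app V := by
      refine Eq.trans ?_ (congr_arg (e.hom.hom.app U ≫ ·) (e.inv.hom.naturality i).symm)
      refine Eq.trans ?_ (Category.assoc _ _ _)
      have h' := NatTrans.congr_app (congr_arg (fun m => m.hom) e.hom_inv_id) U
      exact ((congr_arg (· ≫ (CohTop.const X A).obj.map i) h').trans (Category.id_comp _)).symm
    have h1 : IsIso (e.hom.hom.app U) := inferInstanceAs (IsIso (((sheafToPresheaf _ _).mapIso e).app U).hom)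
    have h2 : IsIso (e.inv.hom.app V) := inferInstanceAs (IsIso (((sheafToPresheaf _ _).mapIso e).app V).inv)
    rw [h]
    infer_instance

end Groth.Agent.SiteCoh
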