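import Groth.Agent.SiteCoh.Cartan
import Mathlib.Algebra.Homology.HomologySequence
import Mathlib.Algebra.Homology.HomologicalComplexAbelian
import Mathlib.GroupTheory.QuotientGroup.Basic

/-!
Čech cohomology equals cohomology when all overlaps are acyclic.
-/

universe u v

open CategoryTheory Category Limits Opposite Abelian

namespace Groth.Agent.SiteCoh

variable {C : Type u} [SmallCategory C] {J : GrothendieckTopology C}
  {D : Type u} [Category.{v} D] [HasFiniteProducts D] {Φ : D ⥤ C} {ι : Type u} {Y : ι → D} {U : C}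

/-- The map of Čech complexes induced by a map of presheaves. -/
noncomputable abbrev cechMap {P Q : Dᵒᵖ ⥤ AddCommGrpCat.{u}} (f : P ⟶ Q) : cechCx Y P ⟶ cechCx Y Q :=
  (cechComplexFunctor Y).map f

lemma cochainEquiv_map {P Q : Dᵒᵖ ⥤ AddCommGrpCat.{u}} (f : P ⟶ Q) (n : ℕ) (x : (cechCx Y P).X n) :
    cochainEquiv Y Q n ((cechMap f).f n x) = cmap f (cochainEquiv Y P n x) := by
  funext a
  rw [cochainEquiv_apply]
  refine Eq.trans ?_ (congr_arg (f.app _) (cochainEquiv_apply Y P n x a).symm)
  exact ConcreteCategory.congr_hom (Limits.Pi.map_π (f := fun a : Fin (n + 1) → ι => P.obj (op (tupleProd Y a)))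
    (g := fun a : Fin (n + 1) → ι => Q.obj (op (tupleProd Y a))) (fun a => f.app _) a) x

variable (Y)

/-- The Čech short complex of a short complex of sheaves. -/
noncomputable abbrev cechSeq (Φ : D ⥤ C) {S : ShortComplex (Sheaf J AddCommGrpCat.{u})} :
    ShortComplex (CochainComplex AddCommGrpCat.{u} ℕ) :=
  ShortComplex.mk (cechMap (Y := Y) (resMap' Φ S.f)) (cechMap (Y := Y) (resMap' Φ S.g)) (by
    ext n x
    refine (cochainEquiv Y _ n).injective ?_
    change cochainEquiv Y _ n ((cechMap (Y := Y) (resMap' Φ S.g)).f n ((cechMap (Y := Y) (resMap' Φ S.f)).f n x)) =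
      cochainEquiv Y _ n 0
    rw [cochainEquiv_map, cochainEquiv_map, map_zero]
    exact funext fun a => zero_apply' _)

lemma cechSeq_shortExact (Φ : D ⥤ C) {S : ShortComplex (Sheaf J AddCommGrpCat.{u})} (hS : S.ShortExact)
    (hsurj : ∀ (n : ℕ) (a : Fin (n + 1) → ι), Function.Surjective (S.g.hom.app (op (Φ.obj (tupleProd Y a))))) :
    (cechSeq Y Φ (S := S)).ShortExact := by
  refine HomologicalComplex.shortExact_of_degreewise_shortExact _ fun n => ?_
  refine @ShortComplex.ShortExact.mk _ _ _ _ ?_ ?_ ?_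
  · rw [ShortComplex.ab_exact_iff]
    intro x hx
    choose w hw using fun a => sections_exact hS _ (cochainEquiv Y _ n x a) (by
      have := congr_fun ((cochainEquiv_map (resMap' Φ S.g) n x).symm.trans
        ((congr_arg _ hx).trans (map_zero _))) a
      exact this)
    refine ⟨(cochainEquiv Y _ n).symm w, (cochainEquiv Y _ n).injective ?_⟩
    exact (cochainEquiv_map _ n _).trans ((congr_arg _ (AddEquiv.apply_symm_apply _ w)).trans (funext hw))
  · refine (AddCommGrpCat.mono_iff_injective _).mpr fun x y h => (cochainEquiv Y _ n).injective ?_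
    funext a
    have := congr_fun ((cochainEquiv_map _ n x).symm.trans ((congr_arg _ h).trans (cochainEquiv_map _ n y))) a
    exact sections_injective hS _ this
  · refine (AddCommGrpCat.epi_iff_surjective _).mpr fun z => ?_
    choose w hw using fun a => hsurj n a (cochainEquiv Y _ n z a)
    refine ⟨(cochainEquiv Y _ n).symm w, (cochainEquiv Y _ n).injective ?_⟩
    exact (cochainEquiv_map _ n _).trans ((congr_arg _ (AddEquiv.apply_symm_apply _ w)).trans (funext hw))

variable {Y} (c : CoverData J Φ Y U)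

lemma aug_add (F : Sheaf J AddCommGrpCat.{u}) (s t : F.obj.obj (op U)) :
    aug c F (s + t) = aug c F s + aug c F t :=
  funext fun _ => map_add _ s t

/-- The augmentation into degree zero. -/
noncomputable def augHom (F : Sheaf J AddCommGrpCat.{u}) : F.obj.obj (op U) ⟶ (cechCx Y (res' Φ F)).X 0 :=
  AddCommGrpCat.ofHom (AddMonoidHom.mk' (fun s => (cochainEquiv Y _ 0).symm (aug c F s))
    fun s t => by rw [aug_add, map_add]; rfl)

lemma augHom_d (F : Sheaf J AddCommGrpCat.{u}) : augHom c F ≫ (cechCx Y (res' Φ F)).d 0 1 = 0 := by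
  ext s
  refine (cochainEquiv Y _ 1).injective ?_
  refine (cochainEquiv_d Y _ 0 _).trans ((congr_arg (cd Y (res' Φ F)) ?_).trans ((cd_aug c F s).trans (map_zero _).symm))
  exact AddEquiv.apply_symm_apply _ _

/-- The augmentation into Čech cohomology of degree zero. -/
noncomputable def augH (F : Sheaf J AddCommGrpCat.{u}) :
    F.obj.obj (op U) ⟶ (cechCx Y (res' Φ F)).homology 0 :=
  (cechCx Y (res' Φ F)).liftCycles (augHom c F) 1 (by simp) (augHom_d c F) ≫ (cechCx Y (res' Φ F)).homologyπ 0

include c in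
lemma augH_bijective (F : Sheaf J AddCommGrpCat.{u}) : Function.Bijective (augH c F) := by
  let K := cechCx Y (res' Φ F)
  have : IsIso (K.homologyπ 0) := K.isIso_homologyπ _ 0 rfl (K.shape _ _ (by simp))
  have hl : Function.Bijective (K.liftCycles (augHom c F) 1 (by simp) (augHom_d c F)) := by
    have hi : ∀ s, K.iCycles 0 (K.liftCycles (augHom c F) 1 (by simp) (augHom_d c F) s) = augHom c F s :=
      fun s => ConcreteCategory.congr_hom (K.liftCycles_i (augHom c F) 1 (by simp) (augHom_d c F)) s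
    refine ⟨fun s t h => aug_injective c F ((cochainEquiv Y _ 0).symm.injective ?_), fun z => ?_⟩
    · exact (hi s).symm.trans ((congr_arg (K.iCycles 0) h).trans (hi t))
    · obtain ⟨s, hs⟩ := exists_aug c F (cochainEquiv Y _ 0 (K.iCycles 0 z))
        ((d_eq_zero_iff Y _ 0 _).mp (ConcreteCategory.congr_hom (K.iCycles_d 0 1) z))
      refine ⟨s, (AddCommGrpCat.mono_iff_injective (K.iCycles 0)).mp inferInstance ((hi s).trans ?_)⟩
      exact (cochainEquiv Y _ 0).symm_apply_eq.mpr hs
  exact ((ConcreteCategory.isIso_iff_bijective (K.homologyπ 0)).mp inferInstance).comp hl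

lemma augH_natural {F G : Sheaf J AddCommGrpCat.{u}} (f : F ⟶ G) :
    f.hom.app (op U) ≫ augH c G =
      augH c F ≫ HomologicalComplex.homologyMap (cechMap (Y := Y) (resMap' Φ f)) 0 := by
  simp only [augH, Category.assoc, HomologicalComplex.homologyπ_naturality]
  rw [← Category.assoc, ← Category.assoc]
  congr 1
  rw [← cancel_mono ((cechCx Y (res' Φ G)).iCycles 0), Category.assoc, Category.assoc,
    HomologicalComplex.cyclesMap_i, HomologicalComplex.liftCycles_i, HomologicalComplex.liftCycles_i_assoc]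
  ext s
  refine (cochainEquiv Y _ 0).injective ?_
  refine (AddEquiv.apply_symm_apply _ _).trans ?_
  exact ((cochainEquiv_map _ 0 _).trans ((congr_arg _ (AddEquiv.apply_symm_apply _ _)).trans (cmap_aug c f s))).symm

/-- Two surjections out of the same group with the same kernel have isomorphic targets. -/
noncomputable def equivOfKerEq {A B B' : Type*} [AddCommGroup A] [AddCommGroup B] [AddCommGroup B']
    (f : A →+ B) (g : A →+ B') (hf : Function.Surjective f) (hg : Function.Surjective g)
    (h : ∀ x, f x = 0 ↔ g x = 0) :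
    B ≃+ B' :=
  (QuotientAddGroup.quotientKerEquivOfSurjective f hf).symm.trans
    ((QuotientAddGroup.quotientAddEquivOfEq (AddSubgroup.ext h)).trans (QuotientAddGroup.quotientKerEquivOfSurjective g hg))

variable {S : ShortComplex (Sheaf J AddCommGrpCat.{u})} (hS : S.ShortExact)
  (hX : ∀ q : ℕ, Subsingleton (CohSite.HU S.X₂ (q + 1) U))

include hS hX in
/-- First cohomology as a cokernel on sections. -/
lemma hu_one_presentation :
    ∃ ψ : S.X₃.obj.obj (op U) →+ Ext (CohCx.freeSheaf J U) S.X₁ 1, Function.Surjective ψ ∧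
      ∀ x, ψ x = 0 ↔ ∃ y, S.g.hom.app (op U) y = x := by
  let P := CohCx.freeSheaf J U
  let e := (secEquiv U S.X₃).symm
  let ψ : S.X₃.obj.obj (op U) →+ Ext P S.X₁ 1 :=
    (hS.extClass.postcomp P (zero_add 1)).comp ((Ext.addEquiv₀ (X := P) (Y := S.X₃)).symm.toAddMonoidHom.comp e.toAddMonoidHom)
  have hψ : ∀ x, ψ x = (Ext.mk₀ (e x)).comp hS.extClass (zero_add 1) := fun x => rfl
  refine ⟨ψ, fun x => ?_, fun x => ⟨fun hx => ?_, ?_⟩⟩
  · have : Subsingleton (Ext P S.X₂ 1) := hX 0
    obtain ⟨x₃, hx₃⟩ := Ext.covariant_sequence_exact₁ P hS (n₁ := 1) x (Subsingleton.elim _ _) (zero_add 1)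
    obtain ⟨φ, rfl⟩ := (Ext.mk₀_bijective _ _).2 x₃
    exact ⟨secEquiv U S.X₃ φ, by rw [hψ, AddEquiv.symm_apply_apply]; exact hx₃⟩
  · obtain ⟨x₂, hx₂⟩ := Ext.covariant_sequence_exact₃ P hS (Ext.mk₀ (e x)) (zero_add 1) ((hψ x).symm.trans hx)
    obtain ⟨φ, rfl⟩ := (Ext.mk₀_bijective _ _).2 x₂
    refine ⟨secEquiv U S.X₂ φ, ?_⟩
    rw [← secEquiv_comp, show φ ≫ S.g = e x from
      (Ext.mk₀_bijective _ _).1 (by rw [← Ext.mk₀_comp_mk₀]; exact hx₂)]
    exact (secEquiv U S.X₃).apply_symm_apply x
  · rintro ⟨y, rfl⟩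
    rw [hψ, show e (S.g.hom.app (op U) y) = (secEquiv U S.X₂).symm y ≫ S.g from (secEquiv U S.X₃).injective
      (by rw [secEquiv_comp, AddEquiv.apply_symm_apply, AddEquiv.apply_symm_apply]),
      ← Ext.mk₀_comp_mk₀, Ext.comp_assoc _ _ _ (zero_add 0) (zero_add 1) (by omega), hS.comp_extClass, Ext.comp_zero]

omit [HasFiniteProducts D] in
include hS hX in
/-- Connecting isomorphism for cohomology over an object. -/
lemma hu_shift (n : ℕ) : Nonempty (CohSite.HU S.X₃ (n + 1) U ≃+ CohSite.HU S.X₁ (n + 1 + 1) U) :=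
  have : Subsingleton (Ext (CohCx.freeSheaf J U) S.X₂ (n + 1)) := hX n
  have : Subsingleton (Ext (CohCx.freeSheaf J U) S.X₂ (n + 1 + 1)) := hX (n + 1)
  ⟨shiftEquiv hS (CohCx.freeSheaf J U) (n + 1)⟩

include c in
/-- Čech cohomology computes cohomology if all overlaps are acyclic. -/
theorem cech_equiv (hinj : ∀ (I : Sheaf J AddCommGrpCat.{u}), Injective I → ∀ n, CechExact Y (res' Φ I) n)
    (p : ℕ) : ∀ (F : Sheaf J AddCommGrpCat.{u}),
      (∀ (n : ℕ) (a : Fin (n + 1) → ι) (q : ℕ), Subsingleton (CohSite.HU F (q + 1) (Φ.obj (tupleProd Y a)))) →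
      Nonempty ((cechCx Y (res' Φ F)).homology p ≃+ CohSite.HU F p U) := by
  induction p using Nat.strong_induction_on with
  | _ p ih =>
    intro F hF
    rcases p with _ | p
    · exact ⟨(AddEquiv.ofBijective (augH c F).hom (augH_bijective c F)).symm.trans (hu0 F U).symm⟩
    have hS := embedSeq_shortExact F
    have hsurj : ∀ (n : ℕ) (a : Fin (n + 1) → ι),
        Function.Surjective ((embedSeq F).g.hom.app (op (Φ.obj (tupleProd Y a)))) := fun n a =>
      have : Subsingleton (CohSite.HU (embedSeq F).X₁ 1 (Φ.obj (tupleProd Y a))) := hF n a 0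
      sections_surjective hS _
    have hK := cechSeq_shortExact Y Φ hS hsurj
    have hz : ∀ n, IsZero ((cechSeq Y Φ (S := embedSeq F)).X₂.homology (n + 1)) := fun n =>
      (isZero_cech_iff Y _ n).mpr (hinj _ inferInstance n)
    rcases p with _ | p
    · obtain ⟨ψ, hψs, hψk⟩ := hu_one_presentation (U := U) hS (fun q => subsingleton_ext_injective _ _ q)
      have hπ : Function.Surjective (hK.δ 0 1 rfl) :=
        (AddCommGrpCat.epi_iff_surjective _).mp (hK.epi_δ 0 1 rfl (hz 0))
      let φ : (embedSeq F).X₃.obj.obj (op U) →+ (cechCx Y (res' Φ F)).homology 1 :=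
        (hK.δ 0 1 rfl).hom.comp (augH c (embedSeq F).X₃).hom
      refine ⟨equivOfKerEq φ ψ (hπ.comp (augH_bijective c _).2) hψs fun x => Iff.trans ?_ (hψk x).symm⟩
      constructor
      · intro hx
        obtain ⟨w, hw⟩ := (ShortComplex.ab_exact_iff _).mp (hK.homology_exact₃ 0 1 rfl) _ hx
        obtain ⟨y, rfl⟩ := (augH_bijective c _).2 w
        refine ⟨y, (augH_bijective c _).1 ?_⟩
        exact (ConcreteCategory.congr_hom (augH_natural c (embedSeq F).g) y).trans hw
      · rintro ⟨y, rfl⟩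
        change hK.δ 0 1 rfl (augH c (embedSeq F).X₃ _) = 0
        refine (congr_arg (hK.δ 0 1 rfl) (ConcreteCategory.congr_hom (augH_natural c (embedSeq F).g) y)).trans ?_
        exact ConcreteCategory.congr_hom (hK.comp_δ 0 1 rfl) _
    · obtain ⟨e⟩ := ih (p + 1) (by omega) (embedSeq F).X₃ fun n a q => acyclic_quotient _ (hF n a) q
      obtain ⟨s⟩ := hu_shift (U := U) hS (fun q => subsingleton_ext_injective _ _ q) p
      exact ⟨((hK.δIso (p + 1) (p + 1 + 1) rfl (hz p) (hz (p + 1))).addCommGroupIsoToAddEquiv.symm.trans e).trans s⟩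

end Groth.Agent.SiteCoh
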