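import Groth.Agent.SiteCoh.Basic
import Mathlib.CategoryTheory.Abelian.Injective.Ext
import Mathlib.CategoryTheory.Abelian.RightDerived
import Mathlib.Algebra.Homology.ShortComplex.Ab
import Mathlib.CategoryTheory.Abelian.FunctorCategory

/-!
The cohomology presheaves as homology of the presheaf complex of an injective resolution, and higher
direct images as sheafified cohomology presheaves.
-/

universe w' v' u' u

open CategoryTheory Category Limits Opposite Abelian

namespace Groth.Agent.SiteCoh

variable {C : Type u} [SmallCategory C] {J : GrothendieckTopology C}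
  {F : Sheaf J AddCommGrpCat.{u}} (R : InjectiveResolution F)

/-- The complex of presheaves underlying an injective resolution. -/
noncomputable abbrev preCx : CochainComplex (Cᵒᵖ ⥤ AddCommGrpCat.{u}) ℕ :=
  ((sheafToPresheaf J AddCommGrpCat.{u}).mapHomologicalComplex _).obj R.cocomplex

open CochainComplex HomComplex in
lemma eq_zero_of_extMk_eq_zero {A : Type u'} [Category.{v'} A] [Abelian A] [HasExt.{w'} A] {X Y : A} (R : InjectiveResolution Y)
    (f : X ⟶ R.cocomplex.X 0) (hf : f ≫ R.cocomplex.d 0 1 = 0) (h : R.extMk f 1 rfl hf = 0) : f = 0 := by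
  simp only [← R.extEquivCohomologyClass.apply_eq_iff_eq, InjectiveResolution.extEquivCohomologyClass_extMk,
    InjectiveResolution.extEquivCohomologyClass_zero, CohomologyClass.mk_eq_zero_iff] at h
  rw [Cocycle.fromSingleMk_mem_coboundaries_iff _ _ _ _ _ (-1) (by simp)] at h
  obtain ⟨g, hg⟩ := h
  have : g = 0 := (R.cochainComplex.isZero_of_isStrictlyGE 0 (-1) (by simp)).eq_of_tgt _ _
  rw [this, zero_comp] at hg
  rw [← cancel_mono (R.cochainComplexXIso 0 0 rfl).inv, zero_comp]
  exact hg.symm

/-- The section underlying a cycle. -/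
noncomputable def cyc (n : ℕ) (U : C) (z : ((preCx R).cycles n).obj (op U)) :
    (R.cocomplex.X n).obj.obj (op U) :=
  ((preCx R).iCycles n).app (op U) z

lemma cyc_def (n : ℕ) (U : C) (z : ((preCx R).cycles n).obj (op U)) :
    cyc R n U z = ((preCx R).iCycles n).app (op U) z := rfl

lemma cyc_add (n : ℕ) (U : C) (a b : ((preCx R).cycles n).obj (op U)) :
    cyc R n U (a + b) = cyc R n U a + cyc R n U b :=
  map_add (((preCx R).iCycles n).app (op U)).hom a b

lemma cyc_injective (n : ℕ) (U : C) : Function.Injective (cyc R n U) :=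
  (AddCommGrpCat.mono_iff_injective (((preCx R).iCycles n).app (op U))).mp inferInstance

lemma cyc_d (n : ℕ) (U : C) (z : ((preCx R).cycles n).obj (op U)) :
    (R.cocomplex.d n (n + 1)).hom.app (op U) (cyc R n U z) = 0 :=
  ConcreteCategory.congr_hom (NatTrans.congr_app ((preCx R).iCycles_d n (n + 1)) (op U)) z

variable (F) in
/-- The cohomology presheaf (a definition, to keep kernel checks cheap). -/
noncomputable def hPre (n : ℕ) : Cᵒᵖ ⥤ AddCommGrpCat.{u} := Sheaf.cohomologyPresheaf.{u} F n

lemma extMk_congr {A : Type*} [Category A] [Abelian A] [HasExt.{u} A] {X Y : A} (R : InjectiveResolution Y)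
    {n : ℕ} {f g : X ⟶ R.cocomplex.X n} (m : ℕ) (hm : n + 1 = m) (hf) (hg) (h : f = g) :
    R.extMk f m hm hf = R.extMk g m hm hg := by
  subst h; rfl

lemma sec_hf (n : ℕ) (U : C) (s : (R.cocomplex.X n).obj.obj (op U))
    (hs : (R.cocomplex.d n (n + 1)).hom.app (op U) s = 0) :
    (secEquiv U (R.cocomplex.X n)).symm s ≫ R.cocomplex.d n (n + 1) = 0 :=
  (secEquiv U _).injective (((secEquiv_comp _ _).trans
    ((congr_arg ((R.cocomplex.d n (n + 1)).hom.app (op U)) ((secEquiv U _).apply_symm_apply s)).trans hs)).trans
      (map_zero _).symm)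

/-- The class of a closed section. -/
noncomputable def secClass (n : ℕ) (U : C) (s : (R.cocomplex.X n).obj.obj (op U))
    (hs : (R.cocomplex.d n (n + 1)).hom.app (op U) s = 0) : Ext (CohCx.freeSheaf J U) F n :=
  R.extMk ((secEquiv U (R.cocomplex.X n)).symm s) (n + 1) rfl (sec_hf R n U s hs)

lemma secClass_add (n : ℕ) (U : C) (s t : (R.cocomplex.X n).obj.obj (op U)) (hs ht hst) :
    secClass R n U (s + t) hst = secClass R n U s hs + secClass R n U t ht :=
  (extMk_congr R _ _ _ _ (map_add (secEquiv U _).symm s t)).trans (R.add_extMk _ _ _ _ _ _).symm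

/-- The class of a cycle. -/
noncomputable def classOf (n : ℕ) (U : C) (z : ((preCx R).cycles n).obj (op U)) :
    Ext (CohCx.freeSheaf J U) F n :=
  secClass R n U (cyc R n U z) (cyc_d R n U z)

lemma classOf_add (n : ℕ) (U : C) (a b : ((preCx R).cycles n).obj (op U)) :
    classOf R n U (a + b) = classOf R n U a + classOf R n U b := by
  refine Eq.trans ?_ (secClass_add R n U (cyc R n U a) (cyc R n U b) _ _ ?_)
  · simp only [classOf, cyc_add]
  · rw [← cyc_add]; exact cyc_d R n U _

lemma classOf_map (n : ℕ) {U V : Cᵒᵖ} (a : U ⟶ V) (z : ((preCx R).cycles n).obj U) :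
    classOf R n V.unop (((preCx R).cycles n).map a z) =
      (Ext.mk₀ (CohCx.freeSheafMap J a.unop)).comp (classOf R n U.unop z) (zero_add n) := by
  rw [classOf, classOf, secClass, secClass, InjectiveResolution.mk₀_comp_extMk]
  refine extMk_congr R _ _ _ _ ((secEquiv V.unop _).injective ?_)
  rw [secEquiv_freeSheafMap, AddEquiv.apply_symm_apply, AddEquiv.apply_symm_apply]
  exact NatTrans.naturality_apply ((preCx R).iCycles n) a z

/-- The class of a cycle, as a map of presheaves. -/
noncomputable def classMap (n : ℕ) : (preCx R).cycles n ⟶ hPre F n where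
  app U := AddCommGrpCat.ofHom (AddMonoidHom.mk' (classOf R n U.unop) (classOf_add R n U.unop))
  naturality U V a := by
    ext z
    exact classOf_map R n a z

lemma exists_cycle (n : ℕ) (U : C) (s : (R.cocomplex.X n).obj.obj (op U))
    (hs : (R.cocomplex.d n (n + 1)).hom.app (op U) s = 0) :
    ∃ z, cyc R n U z = s := by
  have h : ofSection ((preCx R).X n) s ≫ (preCx R).d n (n + 1) = 0 := by
    ext V : 2
    refine AddCommGrpCat.hom_ext (FreeAbelianGroup.lift_ext _ _ fun (g : V.unop ⟶ U) => ?_)
    change (R.cocomplex.d n (n + 1)).hom.app V (FreeAbelianGroup.lift _ (FreeAbelianGroup.of g)) = 0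
    refine (congr_arg ((R.cocomplex.d n (n + 1)).hom.app V) (FreeAbelianGroup.lift_apply_of _ _)).trans ?_
    exact (NatTrans.naturality_apply (R.cocomplex.d n (n + 1)).hom g.op s).trans
      ((congr_arg ((R.cocomplex.X (n + 1)).obj.map g.op) hs).trans (map_zero _))
  refine ⟨((preCx R).liftCycles (ofSection ((preCx R).X n) s) (n + 1) (by simp) h).app (op U)
    (FreeAbelianGroup.of (𝟙 U)), ?_⟩
  refine (ConcreteCategory.congr_hom (NatTrans.congr_app
    ((preCx R).liftCycles_i (ofSection ((preCx R).X n) s) (n + 1) (by simp) h) (op U)) _).trans ?_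
  refine (FreeAbelianGroup.lift_apply_of _ _).trans ?_
  exact ConcreteCategory.congr_hom ((R.cocomplex.X n).obj.map_id (op U)) s

lemma toCycles_classMap (i n : ℕ) : (preCx R).toCycles i n ≫ classMap R n = 0 := by
  by_cases hi : i + 1 = n
  · subst hi
    ext U x
    change classOf R (i + 1) U.unop (((preCx R).toCycles i (i + 1)).app U x) = 0
    rw [classOf, secClass, R.extMk_eq_zero_iff _ _ _ _ i rfl]
    refine ⟨(secEquiv U.unop _).symm x, (secEquiv U.unop _).injective ?_⟩
    refine (secEquiv_comp _ _).trans ?_
    refine (congr_arg ((R.cocomplex.d i (i + 1)).hom.app U) ((secEquiv U.unop _).apply_symm_apply x)).trans ?_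
    refine Eq.trans ?_ ((secEquiv U.unop _).apply_symm_apply _).symm
    exact (ConcreteCategory.congr_hom (NatTrans.congr_app ((preCx R).toCycles_i i (i + 1)) U) x).symm
  · rw [show (preCx R).toCycles i n = 0 by
      rw [← cancel_mono ((preCx R).iCycles n), HomologicalComplex.toCycles_i, zero_comp]
      exact (preCx R).shape _ _ hi, zero_comp]

/-- Homology of the presheaf complex maps to the cohomology presheaf. -/
noncomputable def homologyToCohomology (n : ℕ) : (preCx R).homology n ⟶ hPre F n :=
  ((preCx R).homologyIsCokernel ((ComplexShape.up ℕ).prev n) n rfl).desc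
    (CokernelCofork.ofπ (classMap R n) (toCycles_classMap R _ n))

lemma homologyπ_homologyToCohomology (n : ℕ) :
    (preCx R).homologyπ n ≫ homologyToCohomology R n = classMap R n :=
  ((preCx R).homologyIsCokernel ((ComplexShape.up ℕ).prev n) n rfl).fac _ WalkingParallelPair.one

instance isIso_homologyToCohomology (n : ℕ) : IsIso (homologyToCohomology R n) := by
  have : ∀ U, IsIso ((homologyToCohomology R n).app U) := fun U => by
    have hπ : Function.Surjective (((preCx R).homologyπ n).app U) :=
      (AddCommGrpCat.epi_iff_surjective _).mp inferInstance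
    have key : ∀ z, (homologyToCohomology R n).app U (((preCx R).homologyπ n).app U z) = classOf R n U.unop z :=
      fun z => ConcreteCategory.congr_hom (NatTrans.congr_app (homologyπ_homologyToCohomology R n) U) z
    refine (ConcreteCategory.isIso_iff_bijective _).mpr ⟨(injective_iff_map_eq_zero _).mpr fun y hy => ?_, fun x => ?_⟩
    · obtain ⟨z, rfl⟩ := hπ y
      rw [key] at hy
      rcases n with _ | p
      · have hz : cyc R 0 U.unop z = 0 :=
          (secEquiv U.unop _).symm.injective
            ((eq_zero_of_extMk_eq_zero R _ (sec_hf R 0 U.unop _ (cyc_d R 0 U.unop z)) hy).trans (map_zero _).symm)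
        have h0 : cyc R 0 U.unop 0 = 0 := map_zero (((preCx R).iCycles 0).app U).hom
        rw [cyc_injective R 0 U.unop (hz.trans h0.symm)]
        exact map_zero _
      · obtain ⟨g, hg⟩ := (R.extMk_eq_zero_iff _ (p + 1 + 1) rfl
          (sec_hf R (p + 1) U.unop _ (cyc_d R (p + 1) U.unop z)) p rfl).mp hy
        have hz : ((preCx R).toCycles p (p + 1)).app U (secEquiv U.unop _ g) = z := by
          apply cyc_injective R (p + 1) U.unop
          refine (ConcreteCategory.congr_hom (NatTrans.congr_app ((preCx R).toCycles_i p (p + 1)) U) _).trans ?_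
          refine (secEquiv_comp g (R.cocomplex.d p (p + 1))).symm.trans ?_
          rw [hg, AddEquiv.apply_symm_apply]
        rw [← hz]
        exact ConcreteCategory.congr_hom
          (NatTrans.congr_app ((preCx R).toCycles_comp_homologyπ p (p + 1)) U) _
    · obtain ⟨f, hf, rfl⟩ := R.extMk_surjective (X := CohCx.freeSheaf J U.unop) x (n + 1) rfl
      obtain ⟨z, hz⟩ := exists_cycle R n U.unop (secEquiv U.unop _ f) (by
        rw [← secEquiv_comp, hf, map_zero])
      refine ⟨((preCx R).homologyπ n).app U z,
        (key z).trans (extMk_congr R _ _ (sec_hf R n U.unop _ (cyc_d R n U.unop z)) hf ?_)⟩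
      exact ((secEquiv U.unop _).symm_apply_eq).mpr hz
  exact NatIso.isIso_of_isIso_app _

variable (F) in
/-- The cohomology presheaf is the homology of the sections of an injective resolution. -/
noncomputable def homologyIsoCohomology (n : ℕ) :
    (preCx (injectiveResolution F)).homology n ≅ hPre F n :=
  asIso (homologyToCohomology (injectiveResolution F) n)

variable {D : Type u} [SmallCategory D] {K : GrothendieckTopology D} (u : D ⥤ C) [u.IsContinuous K J]

/-- Higher direct images are the sheafifications of the cohomology presheaves. -/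
noncomputable def rpushIso (F : Sheaf J AddCommGrpCat.{u}) (i : ℕ) :
    (CohSite.Rpush J K u i).obj F ≅
      (presheafToSheaf K AddCommGrpCat.{u}).obj (u.op ⋙ hPre F i) :=
  let R := injectiveResolution F
  let W := (Functor.whiskeringLeft Dᵒᵖ Cᵒᵖ AddCommGrpCat.{u}).obj u.op
  let G := presheafToSheaf K AddCommGrpCat.{u}
  let K' := ((CohSite.push J K u).mapHomologicalComplex (ComplexShape.up ℕ)).obj R.cocomplex
  let P' := ((sheafToPresheaf K AddCommGrpCat.{u}).mapHomologicalComplex (ComplexShape.up ℕ)).obj K'
  R.isoRightDerivedObj (CohSite.push J K u) i ≪≫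
    (HomologicalComplex.homologyFunctor _ _ i).mapIso
      ((NatIso.mapHomologicalComplex (asIso (sheafificationAdjunction K AddCommGrpCat.{u}).counit)
        (ComplexShape.up ℕ)).app K').symm ≪≫
    (P'.sc i).mapHomologyIso G ≪≫
    G.mapIso (((preCx R).sc i).mapHomologyIso W ≪≫ W.mapIso (homologyIsoCohomology F i))

end Groth.Agent.SiteCoh
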