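import Groth.Agent.SiteCoh.AcyclicCx
import Groth.Agent.SiteCoh.DirectTop

/-!
Cohomology as global sections of an acyclic higher direct image.
-/

universe u

open CategoryTheory Category Limits Opposite TopologicalSpace Abelian

namespace Groth.Agent.SiteCoh

section Site

variable {C C' : Type u} [SmallCategory C] [SmallCategory C'] {J : GrothendieckTopology C}
  {J' : GrothendieckTopology C'} (u : C' ⥤ C) [u.IsContinuous J' J]
  {F : Sheaf J AddCommGrpCat.{u}} (R : InjectiveResolution F) (U' : C')

/-- The pushed-forward resolution. -/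
noncomputable abbrev pushCx : CochainComplex (Sheaf J' AddCommGrpCat.{u}) ℕ :=
  ((CohSite.push J J' u).mapHomologicalComplex (ComplexShape.up ℕ)).obj R.cocomplex

/-- Closed sections of degree `n`. -/
noncomputable abbrev closedSec (n : ℕ) : AddSubgroup ((R.cocomplex.X n).obj.obj (op (u.obj U'))) :=
  ((R.cocomplex.d n (n + 1)).hom.app (op (u.obj U'))).hom.ker

theorem homology_sections (hK : ∀ n, Acyc U' ((pushCx u R (J' := J')).X n))
    (hH : ∀ n, Acyc U' ((pushCx u R (J' := J')).homology n)) (n : ℕ) :
    Nonempty (Ext (CohCx.freeSheaf J (u.obj U')) F n ≃+ ((pushCx u R (J' := J')).homology n).obj.obj (op U')) := by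
  let K := pushCx u R (J' := J')
  have hinj : Function.Injective ((K.iCycles n).hom.app (op U')) := by
    have : Mono (K.iCycles n).hom := inferInstanceAs (Mono ((sheafToPresheaf _ _).map (K.iCycles n)))
    exact (AddCommGrpCat.mono_iff_injective _).mp inferInstance
  choose z hz using fun s : closedSec u R U' n => exists_cycle_section (U := U') K n s.1 s.2
  let ψ₁ : closedSec u R U' n →+ Ext (CohCx.freeSheaf J (u.obj U')) F n :=
    AddMonoidHom.mk' (fun s => secClass R n _ s.1 s.2) fun s t => secClass_add R n _ s.1 t.1 s.2 t.2 (s + t).2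
  let ψ₂ : closedSec u R U' n →+ (K.homology n).obj.obj (op U') :=
    AddMonoidHom.mk' (fun s => (K.homologyπ n).hom.app (op U') (z s)) fun s t => by
      have h : z (s + t) = z s + z t := hinj ((hz (s + t)).trans
        ((congr_arg₂ (· + ·) (hz s) (hz t)).symm.trans (map_add ((K.iCycles n).hom.app (op U')).hom _ _).symm))
      exact (congr_arg _ h).trans (map_add ((K.homologyπ n).hom.app (op U')).hom _ _)
  have h₁ : Function.Surjective ψ₁ := fun e => by
    obtain ⟨φ, hφ, rfl⟩ := R.extMk_surjective (X := CohCx.freeSheaf J (u.obj U')) e (n + 1) rfl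
    have hc : (R.cocomplex.d n (n + 1)).hom.app (op (u.obj U')) (secEquiv _ _ φ) = 0 :=
      (secEquiv_comp φ (R.cocomplex.d n (n + 1))).symm.trans ((congr_arg (secEquiv _ _) hφ).trans (map_zero _))
    exact ⟨⟨secEquiv _ _ φ, hc⟩, extMk_congr R _ _ (sec_hf R n _ _ hc) hφ (AddEquiv.symm_apply_apply _ φ)⟩
  have h₂ : Function.Surjective ψ₂ := fun x => by
    obtain ⟨c, rfl⟩ := homologyπ_surjective K hK hH n x
    have hc : (R.cocomplex.d n (n + 1)).hom.app (op (u.obj U')) ((K.iCycles n).hom.app (op U') c) = 0 :=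
      ConcreteCategory.congr_hom
        (NatTrans.congr_app (congr_arg (fun (m : K.cycles n ⟶ K.X (n + 1)) => m.hom) (K.iCycles_d n (n + 1))) (op U')) c
    let a : closedSec u R U' n := ⟨(K.iCycles n).hom.app (op U') c, hc⟩
    have ha : z a = c := hinj (hz a)
    exact ⟨a, congr_arg ((K.homologyπ n).hom.app (op U')) ha⟩
  refine ⟨equivOfKerEq ψ₁ ψ₂ h₁ h₂ fun s => ?_⟩
  rcases n with _ | p
  · constructor
    · intro hs
      have h0 : (secEquiv _ (R.cocomplex.X 0)).symm s.1 = 0 :=
        eq_zero_of_extMk_eq_zero R _ (sec_hf R 0 _ s.1 s.2) hs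
      have h0' : s = 0 := Subtype.ext ((secEquiv _ _).symm.injective (h0.trans (map_zero _).symm))
      rw [h0', map_zero]
    · intro hs
      have hπ : Function.Injective ((K.homologyπ 0).hom.app (op U')) := by
        have : IsIso (K.homologyπ 0).hom := inferInstanceAs (IsIso ((sheafToPresheaf _ _).map (K.homologyπ 0)))
        exact ((ConcreteCategory.isIso_iff_bijective _).mp inferInstance).1
      have h0 : z s = 0 := hπ (hs.trans (map_zero _).symm)
      have h0' : s = 0 := Subtype.ext ((hz s).symm.trans ((congr_arg _ h0).trans (map_zero _)))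
      rw [h0', map_zero]
  · constructor
    · intro hs
      obtain ⟨g, hg⟩ := (R.extMk_eq_zero_iff _ (p + 1 + 1) rfl (sec_hf R (p + 1) _ s.1 s.2) p rfl).mp hs
      have h : (K.toCycles p (p + 1)).hom.app (op U') (secEquiv (u.obj U') (R.cocomplex.X p) g) = z s := by
        refine hinj (Eq.trans ?_ (hz s).symm)
        refine (ConcreteCategory.congr_hom (NatTrans.congr_app
          (congr_arg (fun (m : K.X p ⟶ K.X (p + 1)) => m.hom) (K.toCycles_i p (p + 1))) (op U')) _).trans ?_
        exact (secEquiv_comp g (R.cocomplex.d p (p + 1))).symm.trans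
          ((congr_arg (secEquiv _ _) hg).trans (AddEquiv.apply_symm_apply _ _))
      refine (congr_arg ((K.homologyπ (p + 1)).hom.app (op U')) h.symm).trans ?_
      exact (ConcreteCategory.congr_hom (NatTrans.congr_app
        (congr_arg (fun (m : K.X p ⟶ K.homology (p + 1)) => m.hom) (K.toCycles_comp_homologyπ p (p + 1))) (op U')) _)
    · intro hs
      obtain ⟨k, hk⟩ := homologyπ_eq_zero K hK hH p (z s) hs
      refine (R.extMk_eq_zero_iff _ (p + 1 + 1) rfl (sec_hf R (p + 1) _ s.1 s.2) p rfl).mpr
        ⟨(secEquiv _ _).symm k, (secEquiv _ _).injective ?_⟩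
      refine (secEquiv_comp _ _).trans ?_
      refine (congr_arg ((R.cocomplex.d p (p + 1)).hom.app (op (u.obj U'))) (AddEquiv.apply_symm_apply _ k)).trans ?_
      refine Eq.trans ?_ (AddEquiv.apply_symm_apply _ _).symm
      refine Eq.trans ?_ ((congr_arg _ hk).trans (hz s))
      exact (ConcreteCategory.congr_hom (NatTrans.congr_app
        (congr_arg (fun (m : K.X p ⟶ K.X (p + 1)) => m.hom) (K.toCycles_i p (p + 1))) (op U')) _).symm

end Site

variable {X Y : TopCat.{u}} (f : X ⟶ Y)

theorem leray_top (F : CohTop.Ab X)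
    (h : ∀ p q : ℕ, Subsingleton (CohTop.H ((CohTop.Rpush f q).obj F) (p + 1))) (q : ℕ) :
    Nonempty (CohTop.H F q ≃+ ((CohTop.Rpush f q).obj F).obj.obj (op ⊤)) := by
  let R := injectiveResolution F
  let e := fun n => R.isoRightDerivedObj (CohTop.push f) n
  obtain ⟨a⟩ := homology_sections (Opens.map f) R (J' := Opens.grothendieckTopology Y) (⊤ : Opens Y)
    (fun n p => push_injective_acyclic f (R.cocomplex.X n) ⊤ p)
    (fun n => acyc_of_iso (e n) fun p => (huTerminalEquiv (Opens.grothendieckTopology Y) isTerminalTop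
      ((CohTop.Rpush f n).obj F) (p + 1)).toEquiv.subsingleton_congr.mp (h p n)) q
  exact ⟨((huTerminalEquiv (Opens.grothendieckTopology X) (T := (Opens.map f).obj ⊤) isTerminalTop F q).trans a).trans
    ((((sheafToPresheaf _ _).mapIso (e q)).app (op ⊤)).symm.addCommGroupIsoToAddEquiv)⟩

end Groth.Agent.SiteCoh
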