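import Groth.Agent.SiteCoh.Basic
import Mathlib.CategoryTheory.Preadditive.Injective.Basic
import Mathlib.CategoryTheory.Abelian.FunctorCategory
import Mathlib.CategoryTheory.Sites.Whiskering
import Mathlib.CategoryTheory.Adjunction.Whiskering

/-!
Coinduced (injective) presheaves and the sieve criterion for acyclicity on all objects.
-/

universe v u

open CategoryTheory Category Limits Opposite Abelian

namespace Groth.Agent.SiteCoh

variable {C : Type u} [SmallCategory C]

/-- Presheaves viewed as sheaves for the trivial topology. -/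
noncomputable abbrev botify (C : Type u) [SmallCategory C] :
    (Cᵒᵖ ⥤ AddCommGrpCat.{u}) ⥤ Sheaf (⊥ : GrothendieckTopology C) AddCommGrpCat.{u} :=
  (sheafBotEquivalence AddCommGrpCat.{u}).inverse

instance : (botify C).IsEquivalence :=
  inferInstanceAs ((sheafBotEquivalence AddCommGrpCat.{u}).inverse.IsEquivalence)

variable (J : GrothendieckTopology C)

/-- Sheaves for `J` viewed as sheaves for the trivial topology. -/
noncomputable abbrev toBot : Sheaf J AddCommGrpCat.{u} ⥤ Sheaf (⊥ : GrothendieckTopology C) AddCommGrpCat.{u} :=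
  sheafToPresheaf J AddCommGrpCat.{u} ⋙ botify C

variable {J}

instance injective_toBot (I : Sheaf J AddCommGrpCat.{u}) [Injective I] : Injective ((toBot J).obj I) :=
  have : Injective ((sheafToPresheaf J AddCommGrpCat.{u}).obj I) :=
    Injective.injective_of_adjoint (sheafificationAdjunction J AddCommGrpCat.{u}) I
  (sheafBotEquivalence AddCommGrpCat.{u}).symm.map_injective_iff _ |>.mpr this

/-- Maps out of the free sheaf on a presheaf of sets. -/
noncomputable def freeHom (J : GrothendieckTopology C) (K : Cᵒᵖ ⥤ Type u) (G : Sheaf J AddCommGrpCat.{u}) :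
    ((presheafToSheaf J AddCommGrpCat.{u}).obj (K ⋙ AddCommGrpCat.free.{u}) ⟶ G) ≃
      (K ⟶ G.obj ⋙ forget AddCommGrpCat.{u}) :=
  ((sheafificationAdjunction J AddCommGrpCat.{u}).homEquiv _ _).trans
    ((AddCommGrpCat.adj.{u}.whiskerRight Cᵒᵖ).homEquiv _ _)

lemma freeHom_comp (K : Cᵒᵖ ⥤ Type u) {G G' : Sheaf J AddCommGrpCat.{u}}
    (φ : (presheafToSheaf J AddCommGrpCat.{u}).obj (K ⋙ AddCommGrpCat.free.{u}) ⟶ G) (g : G ⟶ G') :
    freeHom J K G' (φ ≫ g) = freeHom J K G φ ≫ Functor.whiskerRight g.hom (forget AddCommGrpCat.{u}) := by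
  simp only [freeHom, Equiv.trans_apply, Adjunction.homEquiv_naturality_right]
  exact Adjunction.homEquiv_naturality_right _ _ _

/-- Maps out of the free presheaf on a presheaf of sets, in the category of sheaves for the trivial topology. -/
noncomputable def botHom (K : Cᵒᵖ ⥤ Type u) (P : Cᵒᵖ ⥤ AddCommGrpCat.{u}) :
    ((presheafToSheaf (⊥ : GrothendieckTopology C) AddCommGrpCat.{u}).obj (K ⋙ AddCommGrpCat.free.{u}) ⟶
      (botify C).obj P) ≃ (K ⟶ P ⋙ forget AddCommGrpCat.{u}) :=
  freeHom (⊥ : GrothendieckTopology C) K ((botify C).obj P)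

lemma botHom_comp (K : Cᵒᵖ ⥤ Type u) {P P' : Cᵒᵖ ⥤ AddCommGrpCat.{u}}
    (φ : (presheafToSheaf (⊥ : GrothendieckTopology C) AddCommGrpCat.{u}).obj (K ⋙ AddCommGrpCat.free.{u}) ⟶
      (botify C).obj P) (g : P ⟶ P') :
    botHom K P' (φ ≫ (botify C).map g) = botHom K P φ ≫ Functor.whiskerRight g (forget AddCommGrpCat.{u}) :=
  freeHom_comp (J := (⊥ : GrothendieckTopology C)) K φ ((botify C).map g)

/-- `toBot` of a short exact sequence which is exact on all sections. -/
lemma toBot_shortExact {S : ShortComplex (Sheaf J AddCommGrpCat.{u})} (hS : S.ShortExact)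
    (h : ∀ U, Function.Surjective (S.g.hom.app (op U))) : (S.map (toBot J)).ShortExact := by
  have := hS.mono_f
  have hg : Epi (S.map (toBot J)).g := by
    have : Epi S.g.hom := by
      have : ∀ U, Epi (S.g.hom.app U) := fun U => (AddCommGrpCat.epi_iff_surjective _).mpr (h U.unop)
      exact NatTrans.epi_of_epi_app _
    exact inferInstanceAs (Epi ((botify C).map S.g.hom))
  have hf : Mono (S.map (toBot J)).f := inferInstanceAs (Mono ((toBot J).map S.f))
  exact { exact := ShortComplex.exact_of_f_is_kernel _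
            (KernelFork.mapIsLimit _ hS.fIsKernel (toBot J))
          mono_f := hf, epi_g := hg }

variable (J)

/-- Vanishing of the presheaf Ext groups out of covering sieves. -/
def SieveAcyclic (G : Sheaf (⊥ : GrothendieckTopology C) AddCommGrpCat.{u}) : Prop :=
  ∀ (X : C) (R : Sieve X), R ∈ J X → ∀ q : ℕ,
    Subsingleton (CohCx.HK (J := (⊥ : GrothendieckTopology C)) ⟨R.functor, Presheaf.isSheaf_bot _⟩ G (q + 1))

variable {J}

lemma isSheafFor_forget (F : Sheaf J AddCommGrpCat.{u}) {X : C} (R : Sieve X) (hR : R ∈ J X) :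
    Presieve.IsSheafFor (F.obj ⋙ forget AddCommGrpCat.{u}) (R : Presieve X) :=
  (isSheaf_iff_isSheaf_of_type _ _).1 ((sheafCompose J (forget AddCommGrpCat.{u})).obj F).property R hR

lemma sieve_ext_zero_of_acyclic (q : ℕ) : ∀ (F : Sheaf J AddCommGrpCat.{u}),
    (∀ (X : C) (p : ℕ), Subsingleton (CohSite.HU F (p + 1) X)) →
    ∀ (X : C) (R : Sieve X), R ∈ J X →
    Subsingleton (CohCx.HK (J := (⊥ : GrothendieckTopology C)) ⟨R.functor, Presheaf.isSheaf_bot _⟩
      ((toBot J).obj F) (q + 1)) := by
  induction q with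
  | zero =>
    intro F hF X R hR
    have hsurj : ∀ U, Function.Surjective ((embedSeq F).g.hom.app (op U)) := fun U =>
      have : Subsingleton (CohSite.HU (embedSeq F).X₁ 1 U) := hF U 0
      sections_surjective (embedSeq_shortExact F) U
    have hE := toBot_shortExact (embedSeq_shortExact F) hsurj
    have : Injective ((embedSeq F).map (toBot J)).X₂ := inferInstanceAs (Injective ((toBot J).obj (embedSeq F).X₂))
    refine subsingleton_ext_one_of_lift hE _ fun φ => ?_
    let φ' : R.functor ⟶ (embedSeq F).X₃.obj ⋙ forget AddCommGrpCat.{u} := botHom _ _ φ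
    have hs := isSheafFor_forget (embedSeq F).X₃ R hR
    obtain ⟨t, ht⟩ := hsurj X (yonedaEquiv (hs.extend φ'))
    let ψ' : R.functor ⟶ (embedSeq F).X₂.obj ⋙ forget AddCommGrpCat.{u} :=
      R.functorInclusion ≫ yonedaEquiv.symm t
    refine ⟨(botHom R.functor (embedSeq F).X₂.obj).symm ψ', (botHom R.functor (embedSeq F).X₃.obj).injective ?_⟩
    refine (botHom_comp R.functor _ (embedSeq F).g.hom).trans ?_
    rw [Equiv.apply_symm_apply]
    change ψ' ≫ Functor.whiskerRight (embedSeq F).g.hom _ = φ'
    refine Eq.trans ?_ (hs.functorInclusion_comp_extend φ')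
    simp only [ψ', Category.assoc]
    congr 1
    apply yonedaEquiv.injective
    rw [← ht, yonedaEquiv_comp]
    simp
  | succ q ih =>
    intro F hF X R hR
    have hsurj : ∀ U, Function.Surjective ((embedSeq F).g.hom.app (op U)) := fun U =>
      have : Subsingleton (CohSite.HU (embedSeq F).X₁ 1 U) := hF U 0
      sections_surjective (embedSeq_shortExact F) U
    have hE := toBot_shortExact (embedSeq_shortExact F) hsurj
    have : Injective ((embedSeq F).map (toBot J)).X₂ := inferInstanceAs (Injective ((toBot J).obj (embedSeq F).X₂))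
    have := ih _ (fun X p => acyclic_quotient X (hF X) p) X R hR
    exact @subsingleton_ext_succ _ _ _ _ _ hE _ (q + 1) _ this

/-- An embedding into an injective whose cokernel presheaf is a sheaf. -/
lemma exists_seq_of_sieveAcyclic (F : Sheaf J AddCommGrpCat.{u}) (hF : SieveAcyclic J ((toBot J).obj F)) :
    ∃ S : ShortComplex (Sheaf J AddCommGrpCat.{u}), ∃ _ : S.ShortExact, S.X₁ = F ∧ Injective S.X₂ ∧
      (∀ U, Function.Surjective (S.g.hom.app (op U))) ∧ SieveAcyclic J ((toBot J).obj S.X₃) := by
  let ι : F.obj ⟶ (Injective.under F).obj := (Injective.ι F).hom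
  have : Mono ι := inferInstanceAs (Mono ((sheafToPresheaf J _).map (Injective.ι F)))
  let E₀ : ShortComplex (Cᵒᵖ ⥤ AddCommGrpCat.{u}) :=
    ShortComplex.mk ι (cokernel.π ι) (cokernel.condition _)
  have hE₀ : E₀.ShortExact :=
    { exact := ShortComplex.exact_of_g_is_cokernel _ (cokernelIsCokernel _) }
  let E := E₀.map (botify C)
  have hE : E.ShortExact := hE₀.map_of_exact (botify C)
  have hE₂ : Injective E.X₂ := inferInstanceAs (Injective ((toBot J).obj (Injective.under F)))
  let π : (Injective.under F).obj ⟶ cokernel ι := cokernel.π ι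
  have hπ : ∀ U : Cᵒᵖ, Function.Surjective (π.app U) := fun U =>
    (AddCommGrpCat.epi_iff_surjective _).mp inferInstance
  have hexact : ∀ (U : Cᵒᵖ) (x : (Injective.under F).obj.obj U), π.app U x = 0 → ∃ y, ι.app U y = x :=
    fun U x hx => (ShortComplex.ab_exact_iff _).mp
      (hE₀.exact.map ((evaluation Cᵒᵖ AddCommGrpCat.{u}).obj U)) x hx
  have hinj : ∀ (U : Cᵒᵖ), Function.Injective (ι.app U) := fun U =>
    (AddCommGrpCat.mono_iff_injective _).mp inferInstance
  have hsheaf : Presheaf.IsSheaf J (cokernel ι) := by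
    rw [Presheaf.isSheaf_iff_isSheaf_forget (s := forget AddCommGrpCat.{u}),
      isSheaf_iff_isSheaf_of_type]
    intro X R hR
    rw [Presieve.isSheafFor_iff_yonedaSheafCondition]
    intro φ
    have := hF X R hR 0
    obtain ⟨ψ, hψ⟩ := @exists_lift_of_subsingleton_ext_one _ _ _ _ E hE _ this
      ((botHom R.functor (cokernel ι)).symm φ)
    have hψ' : botHom R.functor (Injective.under F).obj ψ ≫ Functor.whiskerRight π (forget AddCommGrpCat.{u}) = φ :=
      (botHom_comp R.functor ψ π).symm.trans
        ((congr_arg (botHom R.functor (cokernel ι)) hψ).trans (Equiv.apply_symm_apply _ φ))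
    have hI := isSheafFor_forget (Injective.under F) R hR
    let χ : yoneda.obj X ⟶ (Injective.under F).obj ⋙ forget AddCommGrpCat.{u} :=
      hI.extend (botHom R.functor (Injective.under F).obj ψ)
    refine ⟨χ ≫ Functor.whiskerRight π (forget AddCommGrpCat.{u}), ?_, ?_⟩
    · exact ((Category.assoc _ _ _).symm.trans
        (congr_arg (· ≫ Functor.whiskerRight π (forget AddCommGrpCat.{u})) (hI.functorInclusion_comp_extend _))).trans hψ'
    · intro g hg
      apply yonedaEquiv.injective
      let c : (Injective.under F).obj.obj (op X) := yonedaEquiv χ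
      obtain ⟨a, ha⟩ := hπ _ (yonedaEquiv g)
      have hres : ∀ (Y : C) (f : Y ⟶ X), R f →
          π.app (op Y) ((Injective.under F).obj.map f.op (a - c)) = 0 := by
        intro Y f hf
        rw [NatTrans.naturality_apply, map_sub, map_sub, ha, sub_eq_zero]
        have k : R.functorInclusion ≫ g = R.functorInclusion ≫ χ ≫ Functor.whiskerRight π (forget AddCommGrpCat.{u}) :=
          hg.trans ((((Category.assoc _ _ _).symm.trans
            (congr_arg (· ≫ Functor.whiskerRight π (forget AddCommGrpCat.{u})) (hI.functorInclusion_comp_extend _))).trans hψ').symm)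
        have h1 : g.app (op Y) f = π.app (op Y) (χ.app (op Y) f) :=
          ConcreteCategory.congr_hom (NatTrans.congr_app k (op Y)) ⟨f, hf⟩
        refine (yonedaEquiv_naturality g f).trans ?_
        refine Eq.trans ?_ (NatTrans.naturality_apply π f.op c)
        refine Eq.trans ?_ (congr_arg (π.app (op Y)) (yonedaEquiv_naturality χ f).symm)
        refine Eq.trans ?_ (h1.trans ?_)
        · exact congr_arg (fun e => g.app (op Y) e) (Category.id_comp f)
        · exact congr_arg (fun e => π.app (op Y) (χ.app (op Y) e)) (Category.id_comp f).symm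
      choose y hy using fun Y f hf => hexact (op Y) _ (hres Y f hf)
      have hFs := isSheafFor_forget F R hR
      obtain ⟨b, hb, -⟩ := hFs (fun Y f hf => y Y f hf) (by
        intro Y₁ Y₂ Z g₁ g₂ f₁ f₂ h₁ h₂ he
        apply hinj
        change ι.app _ (F.obj.map _ _) = ι.app _ (F.obj.map _ _)
        rw [NatTrans.naturality_apply, NatTrans.naturality_apply, hy, hy,
          ← ConcreteCategory.comp_apply, ← ConcreteCategory.comp_apply, ← Functor.map_comp,
          ← Functor.map_comp, ← op_comp, ← op_comp, he])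
      have hab : a - c = ι.app (op X) b := by
        refine hI.isSeparatedFor.ext fun Y f hf => ?_
        change (Injective.under F).obj.map f.op _ = (Injective.under F).obj.map f.op _
        rw [← NatTrans.naturality_apply, ← hy Y f hf]
        exact congr_arg (ι.app (op Y)) (hb f hf).symm
      rw [← ha, yonedaEquiv_comp]
      have h0 : π.app (op X) (ι.app (op X) b) = 0 := by
        rw [← ConcreteCategory.comp_apply, ← NatTrans.comp_app, cokernel.condition]; rfl
      rw [← hab, map_sub, sub_eq_zero] at h0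
      exact h0
  let S : ShortComplex (Sheaf J AddCommGrpCat.{u}) :=
    ShortComplex.mk (Injective.ι F) (X₃ := ⟨cokernel ι, hsheaf⟩) ⟨π⟩ (by
      ext : 1; exact cokernel.condition ι)
  have hS : S.ShortExact := by
    refine { exact := ?_, mono_f := inferInstanceAs (Mono (Injective.ι F)), epi_g := ?_ }
    · have : Mono E₀.f := inferInstanceAs (Mono ι)
      refine ShortComplex.exact_of_f_is_kernel _ (KernelFork.IsLimit.ofι' _ _ (fun {W} k hk => ?_))
      have hk' : k.hom ≫ E₀.g = 0 := congr_arg (fun m : W ⟶ S.X₃ => m.hom) hk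
      exact ⟨⟨hE₀.fIsKernel.lift (KernelFork.ofι k.hom hk')⟩, by
        ext : 1; exact hE₀.fIsKernel.fac (KernelFork.ofι k.hom hk') WalkingParallelPair.zero⟩
    · exact (sheafToPresheaf J AddCommGrpCat.{u}).epi_of_epi_map (f := (⟨π⟩ : Injective.under F ⟶ (⟨cokernel ι, hsheaf⟩ : Sheaf J AddCommGrpCat.{u}))) (inferInstanceAs (Epi π))
  refine ⟨S, hS, rfl, inferInstanceAs (Injective (Injective.under F)), fun U => hπ _, ?_⟩
  intro X R hR q
  have : Subsingleton (CohCx.HK (J := (⊥ : GrothendieckTopology C)) ⟨R.functor, Presheaf.isSheaf_bot _⟩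
      E.X₁ (q + 1 + 1)) := hF X R hR (q + 1)
  exact @subsingleton_ext_quotient _ _ _ _ E hE _ (q + 1) _ this

lemma acyclic_of_sieveAcyclic (p : ℕ) : ∀ (F : Sheaf J AddCommGrpCat.{u}),
    SieveAcyclic J ((toBot J).obj F) → ∀ X : C, Subsingleton (CohSite.HU F (p + 1) X) := by
  induction p with
  | zero =>
    intro F hF X
    obtain ⟨S, hS, rfl, hI, hsurj, -⟩ := exists_seq_of_sieveAcyclic F hF
    exact subsingleton_ext_one_of_lift hS (CohCx.freeSheaf J X) ((exists_lift_iff_surjective X).mpr (hsurj X))
  | succ p ih =>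
    intro F hF X
    obtain ⟨S, hS, rfl, hI, -, hQ⟩ := exists_seq_of_sieveAcyclic F hF
    have : Subsingleton (Ext (CohCx.freeSheaf J X) S.X₃ (p + 1)) := ih _ hQ X
    exact subsingleton_ext_succ hS (CohCx.freeSheaf J X) (p + 1)

theorem acyclic_iff_sieveAcyclic (F : Sheaf J AddCommGrpCat.{u}) :
    (∀ (X : C) (q : ℕ), Subsingleton (CohSite.HU F (q + 1) X)) ↔ SieveAcyclic J ((toBot J).obj F) :=
  ⟨fun h X R hR q => sieve_ext_zero_of_acyclic q F h X R hR,
    fun h X q => acyclic_of_sieveAcyclic q F h X⟩

end Groth.Agent.SiteCoh
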