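import Groth.Agent.SiteCoh.Derived
import Groth.Agent.SiteCoh.Criterion

/-!
Vanishing of higher direct images of acyclic sheaves; totally acyclic sheaves are acyclic on objects.
-/

universe u

open CategoryTheory Category Limits Opposite Abelian

namespace Groth.Agent.SiteCoh

variable {C : Type u} [SmallCategory C] {J : GrothendieckTopology C}

lemma freeHom_natK {K K' : Cᵒᵖ ⥤ Type u} (t : K ⟶ K') {G : Sheaf J AddCommGrpCat.{u}}
    (φ : (presheafToSheaf J AddCommGrpCat.{u}).obj (K' ⋙ AddCommGrpCat.free.{u}) ⟶ G) :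
    freeHom J K G ((presheafToSheaf J AddCommGrpCat.{u}).map (Functor.whiskerRight t AddCommGrpCat.free.{u}) ≫ φ) =
      t ≫ freeHom J K' G φ := by
  simp only [freeHom, Equiv.trans_apply, Adjunction.homEquiv_naturality_left]
  exact Adjunction.homEquiv_naturality_left _ _ _

instance isIso_free_toSheafify (P : Cᵒᵖ ⥤ Type u) :
    IsIso ((presheafToSheaf J AddCommGrpCat.{u}).map
      (Functor.whiskerRight (toSheafify J P) AddCommGrpCat.free.{u})) := by
  refine isIso_of_coyoneda_map_bijective _ fun G => ?_
  have hb : Function.Bijective fun t : sheafify J P ⟶ G.obj ⋙ forget AddCommGrpCat.{u} => toSheafify J P ≫ t := by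
    have hG : Presheaf.IsSheaf J (G.obj ⋙ forget AddCommGrpCat.{u}) :=
      ((sheafCompose J (forget AddCommGrpCat.{u})).obj G).property
    exact ⟨fun a b h => sheafify_hom_ext J a b hG h, fun t => ⟨sheafifyLift J t hG, toSheafify_sheafifyLift J t hG⟩⟩
  constructor
  · intro φ ψ h
    refine (freeHom J _ G).injective (hb.1 ?_)
    simpa only [freeHom_natK] using congr_arg (freeHom J P G) h
  · intro φ
    obtain ⟨t, ht⟩ := hb.2 (freeHom J P G φ)
    refine ⟨(freeHom J _ G).symm t, (freeHom J P G).injective ?_⟩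
    refine (freeHom_natK (toSheafify J P) _).trans ?_
    rw [Equiv.apply_symm_apply]
    exact ht

theorem hu_of_totallyAcyclic {F : Sheaf J AddCommGrpCat.{u}} (hF : CohCx.IsTotallyAcyclic F) (U : C) (p : ℕ) :
    Subsingleton (CohSite.HU F (p + 1) U) := by
  have h := hF ((presheafToSheaf J (Type u)).obj (yoneda.obj U)) p
  exact ((((extFunctor (p + 1)).mapIso
    (asIso ((presheafToSheaf J AddCommGrpCat.{u}).map
      (Functor.whiskerRight (toSheafify J (yoneda.obj U)) AddCommGrpCat.free.{u}))).op).app
        F).addCommGroupIsoToAddEquiv).toEquiv.subsingleton_congr.mp h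

variable {D : Type u} [SmallCategory D] {K : GrothendieckTopology D} (u : D ⥤ C) [u.IsContinuous K J]

theorem isZero_rpush_of_acyclic {F : Sheaf J AddCommGrpCat.{u}} (i : ℕ)
    (h : ∀ V : D, Subsingleton (CohSite.HU F i (u.obj V))) :
    IsZero ((CohSite.Rpush J K u i).obj F) := by
  refine IsZero.of_iso (Functor.map_isZero _ ?_) (rpushIso u F i)
  exact (Functor.isZero_iff _).mpr fun V =>
    @AddCommGrpCat.isZero_of_subsingleton _ (h V.unop)

end Groth.Agent.SiteCoh
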