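import Groth.Prelude.Def_CohCx
import Mathlib.Algebra.Homology.DerivedCategory.Ext.ExactSequences
import Mathlib.Algebra.Homology.DerivedCategory.Ext.EnoughInjectives
import Mathlib.Algebra.Category.Grp.Adjunctions

/-!
Basic tools for Ext-based cohomology on small sites: sections as maps out of free sheaves,
dimension shifting along short exact sequences.
-/

universe w v u

open CategoryTheory Category Limits Opposite

namespace Groth.Agent.SiteCoh

open Abelian

/-! ### Dimension shifting in an abelian category -/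

section Abstract

variable {A : Type u} [Category.{v} A] [Abelian A] [HasExt.{w} A] {S : ShortComplex A} (hS : S.ShortExact) (P : A)

include hS in
lemma exists_lift_of_subsingleton_ext_one [Subsingleton (Ext P S.X₁ 1)] (φ : P ⟶ S.X₃) :
    ∃ ψ : P ⟶ S.X₂, ψ ≫ S.g = φ := by
  obtain ⟨x₂, hx⟩ := Ext.covariant_sequence_exact₃ P hS (Ext.mk₀ φ) (zero_add 1)
    (Subsingleton.elim _ _)
  obtain ⟨ψ, rfl⟩ := (Ext.mk₀_bijective _ _).2 x₂
  exact ⟨ψ, (Ext.mk₀_bijective _ _).1 (by rw [← hx, Ext.mk₀_comp_mk₀])⟩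

include hS in
lemma subsingleton_ext_one_of_lift [Subsingleton (Ext P S.X₂ 1)]
    (h : ∀ φ : P ⟶ S.X₃, ∃ ψ : P ⟶ S.X₂, ψ ≫ S.g = φ) : Subsingleton (Ext P S.X₁ 1) := by
  refine subsingleton_of_forall_eq 0 fun x => ?_
  obtain ⟨x₃, rfl⟩ := Ext.covariant_sequence_exact₁ P hS x (Subsingleton.elim _ _) (zero_add 1)
  obtain ⟨φ, rfl⟩ := (Ext.mk₀_bijective _ _).2 x₃
  obtain ⟨ψ, rfl⟩ := h φ
  rw [← Ext.mk₀_comp_mk₀, Ext.comp_assoc _ _ _ (zero_add 0) (zero_add 1) (by omega),
    hS.comp_extClass, Ext.comp_zero]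

include hS in
lemma subsingleton_ext_succ (n : ℕ) [Subsingleton (Ext P S.X₂ (n + 1))]
    [Subsingleton (Ext P S.X₃ n)] : Subsingleton (Ext P S.X₁ (n + 1)) := by
  refine subsingleton_of_forall_eq 0 fun x => ?_
  obtain ⟨x₃, rfl⟩ := Ext.covariant_sequence_exact₁ P hS x (Subsingleton.elim _ _) rfl
  rw [Subsingleton.elim x₃ 0, Ext.zero_comp]

include hS in
lemma subsingleton_ext_quotient (n : ℕ) [Subsingleton (Ext P S.X₂ n)]
    [Subsingleton (Ext P S.X₁ (n + 1))] : Subsingleton (Ext P S.X₃ n) := by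
  refine subsingleton_of_forall_eq 0 fun x => ?_
  obtain ⟨x₂, rfl⟩ := Ext.covariant_sequence_exact₃ P hS x rfl (Subsingleton.elim _ _)
  rw [Subsingleton.elim x₂ 0, Ext.zero_comp]

/-- Connecting isomorphism in dimension shifting. -/
noncomputable def shiftEquiv (n : ℕ) [Subsingleton (Ext P S.X₂ n)]
    [Subsingleton (Ext P S.X₂ (n + 1))] : Ext P S.X₃ n ≃+ Ext P S.X₁ (n + 1) :=
  AddEquiv.ofBijective (hS.extClass.postcomp P rfl) (by
    constructor
    · rw [injective_iff_map_eq_zero]
      intro x hx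
      obtain ⟨x₂, rfl⟩ := Ext.covariant_sequence_exact₃ P hS x rfl hx
      rw [Subsingleton.elim x₂ 0, Ext.zero_comp]
    · intro x
      exact Ext.covariant_sequence_exact₁ P hS x (Subsingleton.elim _ _) rfl)

instance subsingleton_ext_injective (I : A) [Injective I] (n : ℕ) : Subsingleton (Ext P I (n + 1)) :=
  subsingleton_of_forall_eq 0 fun x => Ext.eq_zero_of_injective x

variable [EnoughInjectives A]

/-- A chosen short exact sequence `0 → F → I → Q → 0` with `I` injective. -/
noncomputable abbrev embedSeq (F : A) : ShortComplex A :=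
  ShortComplex.mk (Injective.ι F) (cokernel.π (Injective.ι F)) (cokernel.condition _)

omit [HasExt.{w} A] in
lemma embedSeq_shortExact (F : A) : (embedSeq F).ShortExact :=
  { exact := ShortComplex.exact_of_g_is_cokernel _ (cokernelIsCokernel _) }

instance embedSeq_injective (F : A) : Injective (embedSeq F).X₂ :=
  inferInstanceAs (Injective (Injective.under F))

end Abstract

/-! ### Sections as maps out of free sheaves -/

variable {C : Type u} [SmallCategory C] {J : GrothendieckTopology C}

/-- The universal section of `freeSheaf J U` over `U`. -/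
noncomputable def gen (J : GrothendieckTopology C) (U : C) :
    ((CohCx.freeSheaf J U).obj.obj (op U) : AddCommGrpCat.{u}) :=
  (toSheafify J (yoneda.obj U ⋙ AddCommGrpCat.free.{u})).app (op U) (FreeAbelianGroup.of (𝟙 U))

/-- The presheaf map out of the free presheaf on `U` given by a section. -/
noncomputable def ofSection (P : Cᵒᵖ ⥤ AddCommGrpCat.{u}) {U : C} (s : P.obj (op U)) :
    yoneda.obj U ⋙ AddCommGrpCat.free.{u} ⟶ P where
  app V := AddCommGrpCat.ofHom (FreeAbelianGroup.lift fun g => P.map (g : V.unop ⟶ U).op s)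
  naturality V W f := by
    ext x
    change FreeAbelianGroup.lift _ (FreeAbelianGroup.map _ x) = P.map f (FreeAbelianGroup.lift _ x)
    induction x using FreeAbelianGroup.induction_on with
    | zero => simp
    | of g => simp [← ConcreteCategory.comp_apply, ← Functor.map_comp]
    | neg g h => simp_all
    | add a b ha hb => simp_all

/-- Sections over `U` are the maps out of the free sheaf on `U`. -/
noncomputable def secEquiv (U : C) (F : Sheaf J AddCommGrpCat.{u}) :
    (CohCx.freeSheaf J U ⟶ F) ≃+ F.obj.obj (op U) where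
  toFun φ := φ.hom.app (op U) (gen J U)
  invFun s := ((sheafificationAdjunction J AddCommGrpCat.{u}).homEquiv _ F).symm (ofSection F.obj s)
  left_inv φ := by
    rw [Equiv.symm_apply_eq, Adjunction.homEquiv_unit]
    ext V : 2
    refine AddCommGrpCat.hom_ext (FreeAbelianGroup.lift_ext _ _ fun (g : V.unop ⟶ U) => ?_)
    change FreeAbelianGroup.lift _ (FreeAbelianGroup.of g) = _
    rw [FreeAbelianGroup.lift_apply_of]
    change F.obj.map g.op ((φ.hom.app (op U)) ((toSheafify J (yoneda.obj U ⋙ AddCommGrpCat.free.{u})).app (op U) _)) =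
      φ.hom.app V ((toSheafify J (yoneda.obj U ⋙ AddCommGrpCat.free.{u})).app V (FreeAbelianGroup.of g))
    refine (NatTrans.naturality_apply φ.hom g.op _).symm.trans (congr_arg (φ.hom.app V) ?_)
    refine (NatTrans.naturality_apply (toSheafify J (yoneda.obj U ⋙ AddCommGrpCat.free.{u})) g.op _).symm.trans
      (congr_arg ((toSheafify J (yoneda.obj U ⋙ AddCommGrpCat.free.{u})).app V).hom ?_)
    exact congr_arg FreeAbelianGroup.of (Category.comp_id g)
  right_inv s := by
    have h := ((sheafificationAdjunction J AddCommGrpCat.{u}).homEquiv _ F).apply_symm_apply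
      (ofSection F.obj s)
    rw [Adjunction.homEquiv_unit] at h
    have := congr_arg (fun t => (t.app (op U)) (FreeAbelianGroup.of (𝟙 U))) h
    refine this.trans ?_
    change FreeAbelianGroup.lift _ (FreeAbelianGroup.of (𝟙 U)) = s
    simp
  map_add' φ ψ := rfl

lemma secEquiv_comp {U : C} {F G : Sheaf J AddCommGrpCat.{u}} (φ : CohCx.freeSheaf J U ⟶ F) (f : F ⟶ G) :
    secEquiv U G (φ ≫ f) = f.hom.app (op U) (secEquiv U F φ) := rfl

lemma secEquiv_freeSheafMap {U V : C} (a : V ⟶ U) {F : Sheaf J AddCommGrpCat.{u}}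
    (φ : CohCx.freeSheaf J U ⟶ F) :
    secEquiv V F (CohCx.freeSheafMap J a ≫ φ) = F.obj.map a.op (secEquiv U F φ) := by
  change φ.hom.app (op V) ((CohCx.freeSheafMap J a).hom.app (op V) (gen J V)) = _
  rw [show F.obj.map a.op (secEquiv U F φ) = φ.hom.app (op V) ((CohCx.freeSheaf J U).obj.map a.op (gen J U))
    from (NatTrans.naturality_apply φ.hom a.op (gen J U)).symm]
  refine congr_arg (φ.hom.app (op V)) ?_
  refine (congr_arg (fun t => t.app (op V) (FreeAbelianGroup.of (𝟙 V)))
    (toSheafify_naturality J (Functor.whiskerRight (yoneda.map a) AddCommGrpCat.free.{u}))).symm.trans ?_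
  refine Eq.trans ?_ (NatTrans.naturality_apply (toSheafify J (yoneda.obj U ⋙ AddCommGrpCat.free.{u})) a.op _)
  refine congr_arg ((toSheafify J (yoneda.obj U ⋙ AddCommGrpCat.free.{u})).app (op V)).hom ?_
  exact congr_arg FreeAbelianGroup.of ((Category.id_comp a).trans (Category.comp_id a).symm)

/-- `H^0(U, F)` is the group of sections. -/
noncomputable def hu0 (F : Sheaf J AddCommGrpCat.{u}) (U : C) : CohSite.HU F 0 U ≃+ F.obj.obj (op U) :=
  (Ext.addEquiv₀).trans (secEquiv U F)

lemma exists_lift_iff_surjective {S : ShortComplex (Sheaf J AddCommGrpCat.{u})} (U : C) :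
    (∀ φ : CohCx.freeSheaf J U ⟶ S.X₃, ∃ ψ : CohCx.freeSheaf J U ⟶ S.X₂, ψ ≫ S.g = φ) ↔
      Function.Surjective (S.g.hom.app (op U)) := by
  constructor
  · intro h s
    obtain ⟨ψ, hψ⟩ := h ((secEquiv U S.X₃).symm s)
    exact ⟨secEquiv U S.X₂ ψ, by rw [← secEquiv_comp, hψ, AddEquiv.apply_symm_apply]⟩
  · intro h φ
    obtain ⟨t, ht⟩ := h (secEquiv U S.X₃ φ)
    exact ⟨(secEquiv U S.X₂).symm t, (secEquiv U S.X₃).injective (by
      rw [secEquiv_comp, AddEquiv.apply_symm_apply, ht])⟩

lemma sections_surjective {S : ShortComplex (Sheaf J AddCommGrpCat.{u})} (hS : S.ShortExact) (U : C)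
    [Subsingleton (CohSite.HU S.X₁ 1 U)] : Function.Surjective (S.g.hom.app (op U)) :=
  have : Subsingleton (Ext (CohCx.freeSheaf J U) S.X₁ 1) := ‹Subsingleton (CohSite.HU S.X₁ 1 U)›
  (exists_lift_iff_surjective U).mp (exists_lift_of_subsingleton_ext_one hS _)

/-- Induction principle: a property of sheaves, stable under cokernels of embeddings into injectives,
forcing surjectivity on sections over `B` of such embeddings, forces acyclicity on `B`. -/
lemma acyclic_of_class (B : Set C) (P : Sheaf J AddCommGrpCat.{u} → Prop)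
    (hsurj : ∀ F, P F → ∀ U ∈ B, Function.Surjective ((embedSeq F).g.hom.app (op U)))
    (hquot : ∀ F, P F → P (embedSeq F).X₃) (F : Sheaf J AddCommGrpCat.{u}) (hF : P F)
    (U : C) (hU : U ∈ B) (p : ℕ) : Subsingleton (CohSite.HU F (p + 1) U) := by
  induction p generalizing F with
  | zero =>
    exact subsingleton_ext_one_of_lift (embedSeq_shortExact F) (CohCx.freeSheaf J U)
      ((exists_lift_iff_surjective U).mpr (hsurj F hF U hU))
  | succ p ih =>
    have : Subsingleton (Ext (CohCx.freeSheaf J U) (embedSeq F).X₃ (p + 1)) := ih _ (hquot F hF)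
    exact subsingleton_ext_succ (embedSeq_shortExact F) (CohCx.freeSheaf J U) (p + 1)

lemma acyclic_quotient {F : Sheaf J AddCommGrpCat.{u}} (U : C)
    (hF : ∀ p : ℕ, Subsingleton (CohSite.HU F (p + 1) U)) (p : ℕ) :
    Subsingleton (CohSite.HU (embedSeq F).X₃ (p + 1) U) :=
  have : Subsingleton (Ext (CohCx.freeSheaf J U) (embedSeq F).X₁ (p + 1 + 1)) := hF (p + 1)
  subsingleton_ext_quotient (embedSeq_shortExact F) (CohCx.freeSheaf J U) (p + 1)

end Groth.Agent.SiteCoh
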