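import Groth.Agent.SiteCoh.Cech
import Groth.Agent.SiteCoh.Terminal
import Mathlib.CategoryTheory.Sites.Over
import Mathlib.CategoryTheory.Sites.EpiMono
import Mathlib.Algebra.Category.Grp.EnoughInjectives
import Mathlib.Algebra.Homology.HomologicalComplexAbelian
import Mathlib.Algebra.Homology.HomotopyCategory.KInjective

/-!
Restriction of sheaves to slice sites preserves injectives and short exact sequences.
-/

universe u

open CategoryTheory Category Limits Opposite Abelian

namespace Groth.Agent.SiteCoh

section Coind

variable {E : Type u} [Category.{u} E]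

/-- Evaluation at the identity. -/
def evId (A : E → AddCommGrpCat.{u}) (V : E) : (coind A).obj (op V) ⟶ A V :=
  AddCommGrpCat.ofHom (AddMonoidHom.mk' (fun φ => φ V (𝟙 V)) fun _ _ => rfl)

lemma injective_coind (A : E → AddCommGrpCat.{u}) [∀ V, Injective (A V)] : Injective (coind A) where
  factors {P Q} φ m hm := by
    let ψ : ∀ V, Q.obj (op V) ⟶ A V := fun V => Injective.factorThru (φ.app (op V) ≫ evId A V) (m.app (op V))
    refine ⟨{ app := fun W => AddCommGrpCat.ofHom (AddMonoidHom.mk' (fun q V f => ψ V (Q.map f.op q)) fun a b => ?_)
              naturality := fun W W' g => ?_ }, ?_⟩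
    · funext V f
      exact (congr_arg (ψ V) (map_add (Q.map f.op).hom a b)).trans (map_add (ψ V).hom _ _)
    · ext q; funext V f
      change ψ V (Q.map f.op (Q.map g q)) = ψ V (Q.map (f ≫ g.unop).op q)
      refine congr_arg (ψ V) ?_
      rw [← ConcreteCategory.comp_apply, ← Functor.map_comp]
      rfl
    · ext W p; funext V f
      change ψ V (Q.map f.op (m.app W p)) = φ.app W p V f
      rw [← NatTrans.naturality_apply m f.op p]
      refine (ConcreteCategory.congr_hom
        (Injective.comp_factorThru (φ.app (op V) ≫ evId A V) (m.app (op V))) _).trans ?_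
      refine (congr_arg (evId A V) (NatTrans.naturality_apply φ f.op p)).trans ?_
      change φ.app W p V (𝟙 V ≫ f) = φ.app W p V f
      rw [Category.id_comp]

/-- The canonical map into a coinduced presheaf of injective groups. -/
noncomputable def toCoindInj (Q : Eᵒᵖ ⥤ AddCommGrpCat.{u}) : Q ⟶ coind fun V => Injective.under (Q.obj (op V)) :=
  toCoind Q ≫
    { app := fun W => AddCommGrpCat.ofHom (AddMonoidHom.mk' (fun φ V f => Injective.ι (Q.obj (op V)) (φ V f))
        fun a b => funext fun V => funext fun f => map_add (Injective.ι (Q.obj (op V))).hom _ _)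
      naturality := fun _ _ _ => rfl }

instance mono_toCoindInj (Q : Eᵒᵖ ⥤ AddCommGrpCat.{u}) : Mono (toCoindInj Q) := by
  have : ∀ W, Mono ((toCoindInj Q).app W) := fun W => (AddCommGrpCat.mono_iff_injective _).mpr fun a b h => by
    have h' := (AddCommGrpCat.mono_iff_injective (Injective.ι (Q.obj (op W.unop)))).mp inferInstance
      (congr_fun (congr_fun h W.unop) (𝟙 _))
    change Q.map (𝟙 W.unop).op a = Q.map (𝟙 W.unop).op b at h'
    simpa using h'
  exact NatTrans.mono_of_mono_app _

end Coind

variable {C : Type u} [SmallCategory C] (J : GrothendieckTopology C) (U : C)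

lemma injective_restrict_presheaf (I : Cᵒᵖ ⥤ AddCommGrpCat.{u}) [Injective I] :
    Injective ((Over.forget U).op ⋙ I) := by
  let A : C → AddCommGrpCat.{u} := fun V => Injective.under (I.obj (op V))
  have : Injective (coind fun W : Over U => A W.left) := injective_coind _
  refine Retract.injective
    { i := toCoind ((Over.forget U).op ⋙ I) ≫
        { app := fun W => AddCommGrpCat.ofHom (AddMonoidHom.mk'
            (fun φ V f => Injective.ι (I.obj (op V.left)) (φ V f))
            fun a b => funext fun V => funext fun f => map_add (Injective.ι (I.obj (op V.left))).hom _ _)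
          naturality := fun _ _ _ => rfl }
      r := coindOverTo A U ≫ Functor.whiskerLeft (Over.forget U).op (Injective.factorThru (𝟙 I) (toCoindInj I))
      retract := ?_ }
  ext W s
  exact ConcreteCategory.congr_hom (NatTrans.congr_app
    (Injective.comp_factorThru (𝟙 I) (toCoindInj I)) (op W.unop.left)) s

/-- Restriction of abelian sheaves to a slice. -/
noncomputable abbrev restrU : Sheaf J AddCommGrpCat.{u} ⥤ Sheaf (J.over U) AddCommGrpCat.{u} :=
  (Over.forget U).sheafPushforwardContinuous AddCommGrpCat.{u} (J.over U) J

instance : (restrU J U).Additive where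

instance restrU_injective (I : Sheaf J AddCommGrpCat.{u}) [Injective I] : Injective ((restrU J U).obj I) where
  factors {A B} g f hf := by
    have : Injective I.obj := Injective.injective_of_adjoint (sheafificationAdjunction J AddCommGrpCat.{u}) I
    have : Injective ((restrU J U).obj I).obj := injective_restrict_presheaf U I.obj
    have : Mono f.hom := inferInstanceAs (Mono ((sheafToPresheaf _ _).map f))
    exact ⟨⟨Injective.factorThru g.hom f.hom⟩, Sheaf.hom_ext (Injective.comp_factorThru g.hom f.hom)⟩

instance restrU_preservesEpimorphisms : (restrU J U).PreservesEpimorphisms where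
  preserves {F G} f hf := by
    have hl : Sheaf.IsLocallySurjective f := (Sheaf.isLocallySurjective_iff_epi' _ _).mpr hf
    refine (Sheaf.isLocallySurjective_iff_epi' _ _).mp ⟨fun {W} s => ?_⟩
    have h := Presheaf.imageSieve_mem J f.hom (U := op W.left) s
    refine (J.over U).superset_covering ?_ (J.overEquiv_symm_mem_over W _ h)
    intro Z g hg
    exact hg

instance : (restrU J U).PreservesZeroMorphisms := inferInstance

lemma restrU_shortExact {S : ShortComplex (Sheaf J AddCommGrpCat.{u})} (hS : S.ShortExact) :
    (S.map (restrU J U)).ShortExact := by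
  have := hS.mono_f
  have := hS.epi_g
  have : (restrU J U).IsRightAdjoint := inferInstance
  exact { exact := ShortComplex.exact_of_f_is_kernel _ (KernelFork.mapIsLimit _ hS.fIsKernel (restrU J U))
          mono_f := inferInstanceAs (Mono ((restrU J U).map S.f))
          epi_g := inferInstanceAs (Epi ((restrU J U).map S.g)) }

instance restrU_preservesFiniteColimits : PreservesFiniteColimits (restrU J U) := by
  have : PreservesLimitsOfSize.{0, 0} (restrU J U) := inferInstance
  have : PreservesFiniteLimits (restrU J U) := inferInstance
  have := Functor.preservesHomology_of_preservesEpis_and_kernels (restrU J U)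
  exact Functor.preservesFiniteColimits_of_preservesHomology (restrU J U)

/-- The left adjoint of restriction preserves monomorphisms. -/
instance restrU_leftAdjoint_preservesMonomorphisms :
    ((Over.forget U).sheafPullback AddCommGrpCat.{u} (J.over U) J).PreservesMonomorphisms where
  preserves {A B} f hf := by
    let adj := (Over.forget U).sheafAdjunctionContinuous AddCommGrpCat.{u} (J.over U) J
    let L := (Over.forget U).sheafPullback AddCommGrpCat.{u} (J.over U) J
    let ψ := Injective.factorThru (adj.homEquiv _ _ (Injective.ι (L.obj A))) f
    have h : L.map f ≫ (adj.homEquiv _ _).symm ψ = Injective.ι (L.obj A) := by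
      rw [← Adjunction.homEquiv_naturality_left_symm, Injective.comp_factorThru, Equiv.symm_apply_apply]
    have : Mono (L.map f ≫ (adj.homEquiv _ _).symm ψ) := h ▸ inferInstance
    exact mono_of_mono (L.map f) ((adj.homEquiv _ _).symm ψ)

/-- The terminal object of the slice. -/
noncomputable def overTop : IsTerminal (Over.mk (𝟙 U)) := Over.mkIdTerminal

end Groth.Agent.SiteCoh
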