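import Groth.Agent.SiteCoh.PullbackExact
import Groth.Agent.SiteCoh.Basic
import Mathlib.CategoryTheory.Preadditive.Injective.Basic

/-!
Direct images along continuous functors and acyclicity.
-/

universe u

open CategoryTheory Category Limits Opposite Abelian

namespace Groth.Agent.SiteCoh

variable {C D : Type u} [SmallCategory C] [SmallCategory D] {J : GrothendieckTopology C}
  {K : GrothendieckTopology D} (u : D ⥤ C) [u.IsContinuous K J]

/-- A short exact sequence which is exact on sections stays short exact after direct image. -/
lemma push_shortExact {S : ShortComplex (Sheaf J AddCommGrpCat.{u})} (hS : S.ShortExact)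
    (h : ∀ U, Function.Surjective (S.g.hom.app (op U))) : (S.map (CohSite.push J K u)).ShortExact := by
  have := hS.mono_f
  have : (CohSite.push J K u).IsRightAdjoint := inferInstance
  have hg : Epi (S.map (CohSite.push J K u)).g := by
    refine (sheafToPresheaf K AddCommGrpCat.{u}).epi_of_epi_map (f := (CohSite.push J K u).map S.g) ?_
    have : ∀ V, Epi (((sheafToPresheaf K _).map ((CohSite.push J K u).map S.g)).app V) := fun V =>
      (AddCommGrpCat.epi_iff_surjective _).mpr (h (u.obj V.unop))
    exact NatTrans.epi_of_epi_app _
  exact { exact := ShortComplex.exact_of_f_is_kernel _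
            (KernelFork.mapIsLimit _ hS.fIsKernel (CohSite.push J K u))
          mono_f := inferInstanceAs (Mono ((CohSite.push J K u).map S.f)), epi_g := hg }

variable [PreservesFiniteLimits (u.sheafPullback (Type u) K J)]

instance push_injective (I : Sheaf J AddCommGrpCat.{u}) [Injective I] : Injective ((CohSite.push J K u).obj I) :=
  Injective.injective_of_adjoint (u.sheafAdjunctionContinuous AddCommGrpCat.{u} K J) I

theorem push_acyclic (q : ℕ) : ∀ (F : Sheaf J AddCommGrpCat.{u}),
    (∀ (U : C) (p : ℕ), Subsingleton (CohSite.HU F (p + 1) U)) →
    ∀ V : D, Subsingleton (CohSite.HU ((CohSite.push J K u).obj F) (q + 1) V) := by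
  induction q with
  | zero =>
    intro F hF V
    have hsurj : ∀ U, Function.Surjective ((embedSeq F).g.hom.app (op U)) := fun U =>
      have : Subsingleton (CohSite.HU (embedSeq F).X₁ 1 U) := hF U 0
      sections_surjective (embedSeq_shortExact F) U
    have hE := push_shortExact u (embedSeq_shortExact F) hsurj (K := K)
    have : Injective ((embedSeq F).map (CohSite.push J K u)).X₂ :=
      inferInstanceAs (Injective ((CohSite.push J K u).obj (Injective.under F)))
    exact subsingleton_ext_one_of_lift hE (CohCx.freeSheaf K V)
      ((exists_lift_iff_surjective V).mpr (hsurj (u.obj V)))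
  | succ q ih =>
    intro F hF V
    have hsurj : ∀ U, Function.Surjective ((embedSeq F).g.hom.app (op U)) := fun U =>
      have : Subsingleton (CohSite.HU (embedSeq F).X₁ 1 U) := hF U 0
      sections_surjective (embedSeq_shortExact F) U
    have hE := push_shortExact u (embedSeq_shortExact F) hsurj (K := K)
    have : Injective ((embedSeq F).map (CohSite.push J K u)).X₂ :=
      inferInstanceAs (Injective ((CohSite.push J K u).obj (Injective.under F)))
    have : Subsingleton (Ext (CohCx.freeSheaf K V) ((embedSeq F).map (CohSite.push J K u)).X₃ (q + 1)) :=
      ih _ (fun U p => acyclic_quotient U (hF U) p) V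
    exact subsingleton_ext_succ hE (CohCx.freeSheaf K V) (q + 1)

end Groth.Agent.SiteCoh
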