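import Groth.Agent.SiteCoh.TotAcyclic
import Groth.Agent.SiteCoh.PushAcyclic
import Groth.Agent.SiteCoh.Over
import Mathlib.CategoryTheory.Limits.Shapes.Pullback.HasPullback
import Mathlib.CategoryTheory.Functor.Flat
import Mathlib.Algebra.FreeAbelianGroup.Finsupp

/-!
Totally acyclic sheaves: flasqueness and stability under direct images.
-/

universe u

open CategoryTheory Category Limits Opposite Abelian

namespace Groth.Agent.SiteCoh

variable {C : Type u} [SmallCategory C] {J : GrothendieckTopology C}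

lemma freeMap_injective {α β : Type u} {f : α → β} (hf : Function.Injective f) :
    Function.Injective (FreeAbelianGroup.map f) := by
  intro x y h
  have key : ∀ z, FreeAbelianGroup.toFinsupp (FreeAbelianGroup.map f z) =
      Finsupp.mapDomain f (FreeAbelianGroup.toFinsupp z) := by
    intro z
    induction z using FreeAbelianGroup.induction_on with
    | zero => simp
    | of a => simp [FreeAbelianGroup.map_of_apply]
    | neg a h => simp [FreeAbelianGroup.map_of_apply, ← Finsupp.single_neg]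
    | add a b ha hb => simp [map_add, ha, hb, Finsupp.mapDomain_add]
  have h' := congr_arg FreeAbelianGroup.toFinsupp h
  rw [key, key] at h'
  exact (FreeAbelianGroup.equivFinsupp α).injective (Finsupp.mapDomain_injective hf h')

/-- The free abelian sheaf on a sheaf of sets. -/
noncomputable abbrev FR (J : GrothendieckTopology C) : Sheaf J (Type u) ⥤ Sheaf J AddCommGrpCat.{u} :=
  sheafToPresheaf J (Type u) ⋙ (Functor.whiskeringRight _ _ _).obj AddCommGrpCat.free.{u} ⋙
    presheafToSheaf J AddCommGrpCat.{u}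

/-- Underlying sheaf of sets. -/
noncomputable abbrev uSet (J : GrothendieckTopology C) : Sheaf J AddCommGrpCat.{u} ⥤ Sheaf J (Type u) :=
  sheafCompose J (forget AddCommGrpCat.{u})

/-- Maps out of free sheaves. -/
noncomputable def frHom (K : Sheaf J (Type u)) (G : Sheaf J AddCommGrpCat.{u}) :
    ((FR J).obj K ⟶ G) ≃ (K ⟶ (uSet J).obj G) :=
  (freeHom J K.obj G).trans ((fullyFaithfulSheafToPresheaf J (Type u)).homEquiv (X := K) (Y := (uSet J).obj G)).symm

lemma frHom_comp {K : Sheaf J (Type u)} {G G' : Sheaf J AddCommGrpCat.{u}} (φ : (FR J).obj K ⟶ G) (g : G ⟶ G') :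
    frHom K G' (φ ≫ g) = frHom K G φ ≫ (uSet J).map g :=
  Sheaf.hom_ext (freeHom_comp K.obj φ g)

lemma frHom_natK {K K' : Sheaf J (Type u)} (t : K ⟶ K') {G : Sheaf J AddCommGrpCat.{u}} (φ : (FR J).obj K' ⟶ G) :
    frHom K G ((FR J).map t ≫ φ) = t ≫ frHom K' G φ :=
  Sheaf.hom_ext (freeHom_natK t.hom φ)

instance mono_FR {K K' : Sheaf J (Type u)} (t : K ⟶ K') [Mono t] : Mono ((FR J).map t) := by
  have h1 : Mono t.hom := inferInstanceAs (Mono ((sheafToPresheaf J (Type u)).map t))
  have : ∀ U, Mono ((Functor.whiskerRight t.hom AddCommGrpCat.free.{u}).app U) := fun U => by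
    have h2 : Function.Injective (t.hom.app U) := (CategoryTheory.mono_iff_injective _).mp inferInstance
    refine (AddCommGrpCat.mono_iff_injective _).mpr ?_
    exact freeMap_injective h2
  have : Mono (Functor.whiskerRight t.hom AddCommGrpCat.free.{u}) := NatTrans.mono_of_mono_app _
  exact inferInstanceAs (Mono ((presheafToSheaf J AddCommGrpCat.{u}).map _))

theorem hk0_surjective {F : Sheaf J AddCommGrpCat.{u}} (hF : CohCx.IsTotallyAcyclic F) {Y X : Sheaf J (Type u)}
    (ι : Y ⟶ X) [Mono ι] (s : (FR J).obj Y ⟶ F) : ∃ t : (FR J).obj X ⟶ F, (FR J).map ι ≫ t = s := by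
  have hS := embedSeq_shortExact F
  let i := (embedSeq F).f
  let q := (embedSeq F).g
  let t₀ : (FR J).obj X ⟶ (embedSeq F).X₂ := Injective.factorThru (s ≫ i) ((FR J).map ι)
  have ht₀ : (FR J).map ι ≫ t₀ = s ≫ i := Injective.comp_factorThru _ _
  let P := pushout ι (terminal.from Y)
  let γ₀ : P ⟶ (uSet J).obj (embedSeq F).X₃ :=
    pushout.desc (frHom X _ (t₀ ≫ q)) (frHom (⊤_ Sheaf J (Type u)) (embedSeq F).X₃ 0) (by
      rw [← frHom_natK, ← frHom_natK, ← Category.assoc, ht₀, Category.assoc, (embedSeq F).zero, comp_zero, comp_zero])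
  have : Subsingleton (Ext ((FR J).obj P) (embedSeq F).X₁ 1) := hF P 0
  obtain ⟨γ, hγ⟩ := exists_lift_of_subsingleton_ext_one hS ((FR J).obj P) ((frHom P _).symm γ₀)
  have hl : ((FR J).map (pushout.inl ι (terminal.from Y)) ≫ γ) ≫ q = t₀ ≫ q := by
    apply (frHom X _).injective
    rw [Category.assoc, hγ, frHom_natK, Equiv.apply_symm_apply]
    exact pushout.inl_desc _ _ _
  have hr : ((FR J).map (pushout.inr ι (terminal.from Y)) ≫ γ) ≫ q = 0 := by
    apply (frHom (⊤_ Sheaf J (Type u)) (embedSeq F).X₃).injective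
    rw [Category.assoc, hγ, frHom_natK, Equiv.apply_symm_apply]
    exact pushout.inr_desc _ _ _
  let w : (FR J).obj X ⟶ (embedSeq F).X₂ := t₀ - (FR J).map (pushout.inl ι (terminal.from Y)) ≫ γ +
    (FR J).map (terminal.from X) ≫ (FR J).map (pushout.inr ι (terminal.from Y)) ≫ γ
  have hw : w ≫ q = 0 := by
    simp only [w, Preadditive.add_comp, Preadditive.sub_comp, hl, sub_self, zero_add]
    rw [Category.assoc, hr, comp_zero]
  have := hS.mono_f
  obtain ⟨t, ht⟩ := KernelFork.IsLimit.lift' hS.fIsKernel w hw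
  refine ⟨t, (cancel_mono i).mp ?_⟩
  have ht' : t ≫ i = w := ht
  rw [Category.assoc, ht']
  simp only [w, Preadditive.comp_add, Preadditive.comp_sub, ht₀]
  have hsq : (FR J).map ι ≫ (FR J).map (terminal.from X) ≫ (FR J).map (pushout.inr ι (terminal.from Y)) ≫ γ =
      (FR J).map ι ≫ (FR J).map (pushout.inl ι (terminal.from Y)) ≫ γ := by
    simp only [← Category.assoc, ← Functor.map_comp]
    rw [pushout.condition, show ι ≫ terminal.from X = terminal.from Y from terminalIsTerminal.hom_ext _ _]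
  rw [hsq]
  abel

variable {C' : Type u} [SmallCategory C'] {J' : GrothendieckTopology C'}
  (R : Sheaf J AddCommGrpCat.{u} ⥤ Sheaf J' AddCommGrpCat.{u}) [R.PreservesZeroMorphisms]

theorem totallyAcyclic_transfer
    (hS : ∀ F, CohCx.IsTotallyAcyclic F → ((embedSeq F).map R).ShortExact)
    (hI : ∀ I : Sheaf J AddCommGrpCat.{u}, Injective I → Injective (R.obj I))
    (hK : ∀ K' : Sheaf J' (Type u), ∃ (K : Sheaf J (Type u))
      (e : ∀ G : Sheaf J AddCommGrpCat.{u}, (K ⟶ (uSet J).obj G) ≃ (K' ⟶ (uSet J').obj (R.obj G))),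
      ∀ (G G' : Sheaf J AddCommGrpCat.{u}) (g : G ⟶ G') (φ : K ⟶ (uSet J).obj G),
        e G' (φ ≫ (uSet J).map g) = e G φ ≫ (uSet J').map (R.map g))
    (p : ℕ) : ∀ F, CohCx.IsTotallyAcyclic F → ∀ K' : Sheaf J' (Type u),
      Subsingleton (CohCx.HK K' (R.obj F) (p + 1)) := by
  induction p with
  | zero =>
    intro F hF K'
    have : Injective ((embedSeq F).map R).X₂ := hI _ (embedSeq_injective F)
    refine subsingleton_ext_one_of_lift (hS F hF) _ fun φ => ?_
    obtain ⟨K, e, he⟩ := hK K'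
    have : Subsingleton (Ext ((FR J).obj K) (embedSeq F).X₁ 1) := hF K 0
    obtain ⟨ψ, hψ⟩ := exists_lift_of_subsingleton_ext_one (embedSeq_shortExact F) ((FR J).obj K)
      ((frHom K _).symm ((e _).symm (frHom K' _ φ)))
    refine ⟨(frHom K' _).symm (e _ (frHom K _ ψ)), (frHom K' _).injective ?_⟩
    refine (frHom_comp _ (R.map (embedSeq F).g)).trans ?_
    refine (congr_arg (· ≫ (uSet J').map (R.map (embedSeq F).g)) (Equiv.apply_symm_apply (frHom K' _) _)).trans ?_
    refine (he _ _ _ _).symm.trans ?_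
    rw [← frHom_comp, hψ, Equiv.apply_symm_apply, Equiv.apply_symm_apply]
    rfl
  | succ p ih =>
    intro F hF K'
    have : Injective ((embedSeq F).map R).X₂ := hI _ (embedSeq_injective F)
    have hQ : CohCx.IsTotallyAcyclic (embedSeq F).X₃ := fun K q => by
      have : Subsingleton (Ext ((FR J).obj K) (embedSeq F).X₁ (q + 1 + 1)) := hF K (q + 1)
      exact subsingleton_ext_quotient (embedSeq_shortExact F) ((FR J).obj K) (q + 1)
    have : Subsingleton (Ext ((FR J').obj K') ((embedSeq F).map R).X₃ (p + 1)) := ih _ hQ K'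
    exact subsingleton_ext_succ (hS F hF) ((FR J').obj K') (p + 1)

theorem totallyAcyclic_push {D : Type u} [SmallCategory D] {K : GrothendieckTopology D} (u : D ⥤ C)
    [u.IsContinuous K J] [PreservesFiniteLimits (u.sheafPullback (Type u) K J)]
    {F : Sheaf J AddCommGrpCat.{u}} (hF : CohCx.IsTotallyAcyclic F) :
    CohCx.IsTotallyAcyclic ((CohSite.push J K u).obj F) := fun K' p =>
  totallyAcyclic_transfer (CohSite.push J K u)
    (fun G hG => push_shortExact u (embedSeq_shortExact G) (fun V =>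
      have : Subsingleton (CohSite.HU (embedSeq G).X₁ 1 V) := hu_of_totallyAcyclic hG V 0
      sections_surjective (embedSeq_shortExact G) V))
    (fun I hI => @push_injective _ _ _ _ J K u _ _ I hI)
    (fun L => ⟨(u.sheafPullback (Type u) K J).obj L,
      fun G => (u.sheafAdjunctionContinuous (Type u) K J).homEquiv L ((uSet J).obj G),
      fun G G' g φ => (u.sheafAdjunctionContinuous (Type u) K J).homEquiv_naturality_right φ _⟩)
    p F hF K'

variable (J)

/-- The sum over the structure maps, a presheaf on the base. -/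
def sigmaPre (U : C) (L : (Over U)ᵒᵖ ⥤ Type u) : Cᵒᵖ ⥤ Type u where
  obj V := Σ f : V.unop ⟶ U, L.obj (op (Over.mk f))
  map {V W} g := ↾fun x => ⟨g.unop ≫ x.1, L.map (Over.homMk g.unop rfl : Over.mk (g.unop ≫ x.1) ⟶ Over.mk x.1).op x.2⟩
  map_id V := ConcreteCategory.hom_ext _ _ fun y => by
    obtain ⟨f, x⟩ := y
    have key : ∀ (f' : V.unop ⟶ U) (h : f' = f) (m : Over.mk f' ⟶ Over.mk f), m.left = 𝟙 _ →
        (⟨f', L.map m.op x⟩ : Σ f : V.unop ⟶ U, L.obj (op (Over.mk f))) = ⟨f, x⟩ := by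
      rintro f' rfl m hm
      obtain rfl : m = 𝟙 _ := Over.OverMorphism.ext hm
      simp
    exact key _ (Category.id_comp f) (Over.homMk (𝟙 V.unop) rfl : Over.mk (𝟙 V.unop ≫ f) ⟶ Over.mk f) rfl
  map_comp {V W Z} g h := ConcreteCategory.hom_ext _ _ fun y => by
    obtain ⟨f, x⟩ := y
    have key : ∀ (f₁ f₂ : Z.unop ⟶ U) (_ : f₁ = f₂) (m₁ : Over.mk f₁ ⟶ Over.mk f) (m₂ : Over.mk f₂ ⟶ Over.mk f),
        m₁.left = m₂.left →
        (⟨f₁, L.map m₁.op x⟩ : Σ f : Z.unop ⟶ U, L.obj (op (Over.mk f))) = ⟨f₂, L.map m₂.op x⟩ := by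
      rintro f₁ _ rfl m₁ m₂ hm
      rw [Over.OverMorphism.ext hm]
    refine (key _ _ (Category.assoc _ _ _)
      (Over.homMk (h.unop ≫ g.unop) rfl : Over.mk ((h.unop ≫ g.unop) ≫ f) ⟶ Over.mk f)
      ((Over.homMk h.unop rfl : Over.mk (h.unop ≫ g.unop ≫ f) ⟶ Over.mk (g.unop ≫ f)) ≫ Over.homMk g.unop rfl) rfl).trans ?_
    refine Sigma.ext rfl (heq_of_eq ?_)
    exact ConcreteCategory.congr_hom (L.map_comp _ _) x

/-- Maps out of the sum are maps to the restriction. -/
def sigmaHom (U : C) (L : (Over U)ᵒᵖ ⥤ Type u) (G : Cᵒᵖ ⥤ Type u) :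
    (sigmaPre U L ⟶ G) ≃ (L ⟶ (Over.forget U).op ⋙ G) where
  toFun φ :=
    { app := fun W => ↾fun x => φ.app (op W.unop.left) ⟨W.unop.hom, x⟩
      naturality := fun W W' m => by
        ext x
        refine Eq.trans ?_ (NatTrans.naturality_apply φ m.unop.left.op _)
        refine congr_arg (φ.app (op W'.unop.left)) ?_
        have key : ∀ (h' : W'.unop.left ⟶ U) (_ : W'.unop.hom = h') (m' : Over.mk h' ⟶ W.unop) (_ : m'.left = m.unop.left),
            (⟨W'.unop.hom, L.map m x⟩ : Σ f : W'.unop.left ⟶ U, L.obj (op (Over.mk f))) = ⟨h', L.map m'.op x⟩ := by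
          rintro _ rfl m' hm'
          obtain rfl : m' = m.unop := Over.OverMorphism.ext hm'
          rfl
        exact key _ (Over.w m.unop).symm _ rfl }
  invFun ψ :=
    { app := fun V => ↾fun x => ψ.app (op (Over.mk x.1)) x.2
      naturality := fun V V' g => by
        ext ⟨f, x⟩
        exact NatTrans.naturality_apply ψ (Over.homMk g.unop rfl : Over.mk (g.unop ≫ f) ⟶ Over.mk f).op x }
  left_inv φ := rfl
  right_inv ψ := rfl

theorem totallyAcyclic_restrict (U : C) {F : Sheaf J AddCommGrpCat.{u}} (hF : CohCx.IsTotallyAcyclic F) :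
    CohCx.IsTotallyAcyclic ((restrU J U).obj F) := fun K' p =>
  totallyAcyclic_transfer (restrU J U)
    (fun G _ => restrU_shortExact J U (embedSeq_shortExact G))
    (fun I hI => @restrU_injective _ _ J U I hI)
    (fun L => ⟨(presheafToSheaf J (Type u)).obj (sigmaPre U L.obj),
      fun G => (((sheafificationAdjunction J (Type u)).homEquiv _ _).trans
        (sigmaHom U L.obj ((uSet J).obj G).obj)).trans
          ((fullyFaithfulSheafToPresheaf (J.over U) (Type u)).homEquiv (X := L) (Y := (uSet (J.over U)).obj ((restrU J U).obj G))).symm,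
      fun G G' g φ => by
        refine Sheaf.hom_ext ?_
        change (sigmaHom U L.obj _) ((sheafificationAdjunction J (Type u)).homEquiv _ _ (φ ≫ (uSet J).map g)) = _
        rw [Adjunction.homEquiv_naturality_right]
        rfl⟩)
    p F hF K'

end Groth.Agent.SiteCoh
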