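import Groth.Agent.SiteCoh.Basic
import Mathlib.CategoryTheory.Sites.EpiMono

/-!
Cohomology classes of positive degree die locally.
-/

universe u

open CategoryTheory Category Limits Opposite Abelian

namespace Groth.Agent.SiteCoh

variable {C : Type u} [SmallCategory C] {J : GrothendieckTopology C}

lemma res_eq (F : Sheaf J AddCommGrpCat.{u}) (n : ℕ) {U V : C} (f : V ⟶ U) (ξ : CohSite.HU F n U) :
    CohSite.res F n f ξ = (Ext.mk₀ (CohCx.freeSheafMap J f)).comp ξ (zero_add n) := rfl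

lemma exists_sieve_comp_eq_zero : ∀ (n : ℕ) (F : Sheaf J AddCommGrpCat.{u}) {U : C}
    (ξ : Ext (CohCx.freeSheaf J U) F (n + 1)),
    ∃ S ∈ J U, ∀ ⦃V : C⦄ (f : V ⟶ U), S.arrows f →
      (Ext.mk₀ (CohCx.freeSheafMap J f)).comp ξ (zero_add _) = 0 := by
  intro n
  induction n with
  | zero =>
    intro F U ξ
    have hS := embedSeq_shortExact F
    obtain ⟨x₃, rfl⟩ := Ext.covariant_sequence_exact₁ (CohCx.freeSheaf J U) hS ξ
      (Subsingleton.elim _ _) (zero_add 1)
    obtain ⟨φ, rfl⟩ := (Ext.mk₀_bijective _ _).2 x₃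
    have := hS.epi_g
    have : Sheaf.IsLocallySurjective (embedSeq F).g :=
      (Sheaf.isLocallySurjective_iff_epi' _ _).mpr inferInstance
    refine ⟨_, Presheaf.imageSieve_mem J (embedSeq F).g.hom (secEquiv U _ φ), ?_⟩
    rintro V f ⟨t, ht⟩
    have h : CohCx.freeSheafMap J f ≫ φ = (secEquiv V _).symm t ≫ (embedSeq F).g := by
      apply (secEquiv V _).injective
      rw [secEquiv_freeSheafMap, secEquiv_comp, AddEquiv.apply_symm_apply]
      exact ht.symm
    rw [← Ext.comp_assoc _ _ _ (zero_add 0) (zero_add 1) (by omega), Ext.mk₀_comp_mk₀, h,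
      ← Ext.mk₀_comp_mk₀, Ext.comp_assoc _ _ _ (zero_add 0) (zero_add 1) (by omega), hS.comp_extClass,
      Ext.comp_zero]
  | succ n ih =>
    intro F U ξ
    have hS := embedSeq_shortExact F
    obtain ⟨x₃, rfl⟩ := Ext.covariant_sequence_exact₁ (CohCx.freeSheaf J U) hS ξ
      (Subsingleton.elim _ _) rfl
    obtain ⟨T, hT, h⟩ := ih (embedSeq F).X₃ x₃
    refine ⟨T, hT, fun V f hf => ?_⟩
    have h0 := h f hf
    rw [← Ext.comp_assoc _ _ _ (zero_add (n + 1)) rfl (by omega), h0, Ext.zero_comp]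

lemma exists_sieve_res_eq_zero (n : ℕ) (F : Sheaf J AddCommGrpCat.{u}) {U : C} (ξ : CohSite.HU F (n + 1) U) :
    ∃ S ∈ J U, ∀ ⦃V : C⦄ (f : V ⟶ U), S.arrows f → CohSite.res F (n + 1) f ξ = 0 :=
  exists_sieve_comp_eq_zero n F ξ

end Groth.Agent.SiteCoh
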