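import Groth.Agent.SiteCoh.RestrOpen
import Mathlib.Algebra.Homology.ShortComplex.ExactFunctor

/-!
Right adjoints of exact functors preserve K-injective complexes.
-/

universe v v' u u'

open CategoryTheory Category Limits

namespace Groth.Agent.SiteCoh

variable {A : Type u} [Category.{v} A] [Abelian A] {B : Type u'} [Category.{v'} B] [Abelian B]
  {L : A ⥤ B} {R : B ⥤ A}

theorem isKInjective_of_adjunction (adj : L ⊣ R) [R.Additive] [L.PreservesMonomorphisms]
    (I : CochainComplex B ℤ) [I.IsKInjective] :
    CochainComplex.IsKInjective ((R.mapHomologicalComplex (ComplexShape.up ℤ)).obj I) := by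
  have := adj.isLeftAdjoint
  have : L.Additive := adj.left_adjoint_additive
  have : L.PreservesHomology := by
    have : PreservesColimitsOfSize.{0, 0} L := adj.leftAdjoint_preservesColimits
    exact Functor.preservesHomology_of_preservesMonos_and_cokernels L
  constructor
  intro K f hK
  let LK := (L.mapHomologicalComplex (ComplexShape.up ℤ)).obj K
  let f' : LK ⟶ I := (L.mapHomologicalComplex _).map f ≫ (NatTrans.mapHomologicalComplex adj.counit _).app I
  have hLK : LK.Acyclic := fun i => (hK i).map L
  let uK : K ⟶ (R.mapHomologicalComplex _).obj LK :=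
    { f := fun i => adj.unit.app (K.X i)
      comm' := fun i j _ => (adj.unit.naturality (K.d i j)).symm }
  have hf : f = uK ≫ (R.mapHomologicalComplex _).map f' := by
    ext i
    have key : ∀ (M : A) (N : B) (g : M ⟶ R.obj N), g = adj.unit.app M ≫ R.map (L.map g ≫ adj.counit.app N) := by
      intros; simp
    exact key _ _ (f.f i)
  exact ⟨(Homotopy.ofEq hf).trans (((R.mapHomotopy
    ((CochainComplex.IsKInjective.homotopyZero f' hLK))).compLeft uK).trans (Homotopy.ofEq (by simp)))⟩

universe w

open TopologicalSpace in
theorem kInjective_restrOpen {X : TopCat.{w}} (U : Opens X) (I : CochainComplex (CohTop.Ab X) ℤ)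
    [I.IsKInjective] :
    CochainComplex.IsKInjective (((CohTop.restrFunctor U).mapHomologicalComplex (ComplexShape.up ℤ)).obj I) :=
  have : ((Over.forget U).sheafPushforwardContinuous AddCommGrpCat.{w} ((Opens.grothendieckTopology X).over U)
      (Opens.grothendieckTopology X) ⋙ (U.sheafEquivOver (A := AddCommGrpCat.{w})).symm.inverse).Additive :=
    inferInstanceAs ((CohTop.restrFunctor U).Additive)
  isKInjective_of_adjunction
    ((U.sheafEquivOver (A := AddCommGrpCat.{w})).symm.toAdjunction.comp
      ((Over.forget U).sheafAdjunctionContinuous AddCommGrpCat.{w} ((Opens.grothendieckTopology X).over U)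
        (Opens.grothendieckTopology X))) I

theorem kInjective_restrOver {C : Type w} [SmallCategory C] (J : GrothendieckTopology C) (U : C)
    (I : CochainComplex (Sheaf J AddCommGrpCat.{w}) ℤ) [I.IsKInjective] :
    CochainComplex.IsKInjective (((restrU J U).mapHomologicalComplex (ComplexShape.up ℤ)).obj I) :=
  isKInjective_of_adjunction
    ((Over.forget U).sheafAdjunctionContinuous AddCommGrpCat.{w} (J.over U) J) I

end Groth.Agent.SiteCoh
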