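import Groth.Prelude.Def_CohSite
import Mathlib.CategoryTheory.Sites.Pullback
import Mathlib.CategoryTheory.Sites.EpiMono
import Mathlib.CategoryTheory.Limits.Types.Products
import Mathlib.CategoryTheory.Abelian.Exact
import Mathlib.Algebra.Homology.ShortComplex.ExactFunctor

/-!
If the pullback of sheaves of sets along a continuous functor is left exact, so is the pullback of
abelian sheaves: the pullback of the underlying sheaf of sets carries the group structure.
-/

universe u

open CategoryTheory Category Limits Opposite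

namespace Groth.Agent.SiteCoh

variable {C D : Type u} [SmallCategory C] [SmallCategory D] {J : GrothendieckTopology C}
  {K : GrothendieckTopology D} (u : D ⥤ C) [u.IsContinuous K J]

section SectionsOfSets

variable {E : Type u} [SmallCategory E] {M : GrothendieckTopology E}

/-- Sections over an object. -/
abbrev ev (V : E) : Sheaf M (Type u) ⥤ Type u :=
  sheafToPresheaf M (Type u) ⋙ (evaluation Eᵒᵖ (Type u)).obj (op V)

lemma bijective_sections_prod {X Y Z : Sheaf M (Type u)} (p : Z ⟶ X) (q : Z ⟶ Y)
    (h : IsLimit (BinaryFan.mk p q)) (V : E) :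
    Function.Bijective (fun z : Z.obj.obj (op V) => (p.hom.app (op V) z, q.hom.app (op V) z)) := by
  have h' : IsLimit (BinaryFan.mk ((ev V).map p) ((ev V).map q)) :=
    mapIsLimitOfPreservesOfIsLimit (ev V) p q h
  exact (h'.conePointUniqueUpToIso (Types.binaryProductLimit _ _)).toEquiv.bijective

/-- Sections of a terminal sheaf of sets. -/
noncomputable def uniqueSectionsOfIsTerminal {T : Sheaf M (Type u)} (h : IsTerminal T) (V : E) :
    Unique (T.obj.obj (op V)) :=
  Types.isTerminalEquivUnique _ (h.isTerminalObj (ev V) T)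

/-- The sheaf of sets underlying an abelian sheaf. -/
noncomputable abbrev sets (M : GrothendieckTopology E) : Sheaf M AddCommGrpCat.{u} ⥤ Sheaf M (Type u) :=
  sheafCompose M (forget AddCommGrpCat.{u})

variable (G : Sheaf M AddCommGrpCat.{u})

noncomputable instance setsAddCommGroup (V : Eᵒᵖ) : AddCommGroup (((sets M).obj G).obj.obj V) :=
  inferInstanceAs (AddCommGroup (G.obj.obj V))

lemma sets_map_add {V W : Eᵒᵖ} (f : V ⟶ W) (a b : ((sets M).obj G).obj.obj V) :
    ((sets M).obj G).obj.map f (a + b) = ((sets M).obj G).obj.map f a + ((sets M).obj G).obj.map f b :=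
  map_add (G.obj.map f).hom a b

/-- The sections of a product, as a pair. -/
noncomputable def addMap : ((sets M).obj G ⨯ (sets M).obj G) ⟶ (sets M).obj G :=
  ⟨{ app := fun V => ↾fun p =>
      (prod.fst (X := (sets M).obj G) (Y := (sets M).obj G)).hom.app V p +
        (prod.snd (X := (sets M).obj G) (Y := (sets M).obj G)).hom.app V p
     naturality := fun V W f => by
      ext p
      refine Eq.trans ?_ (sets_map_add G f _ _).symm
      exact congr_arg₂ (· + ·) (NatTrans.naturality_apply (prod.fst (X := (sets M).obj G) (Y := (sets M).obj G)).hom f p)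
        (NatTrans.naturality_apply (prod.snd (X := (sets M).obj G) (Y := (sets M).obj G)).hom f p) }⟩

/-- The negation. -/
noncomputable def negMap : (sets M).obj G ⟶ (sets M).obj G :=
  ⟨{ app := fun V => ↾fun (x : ((sets M).obj G).obj.obj V) => -x
     naturality := fun V W f => by ext x; exact (map_neg (G.obj.map f).hom x).symm }⟩

/-- The zero section. -/
noncomputable def zeroMap : ⊤_ Sheaf M (Type u) ⟶ (sets M).obj G :=
  ⟨{ app := fun V => ↾fun _ => (0 : ((sets M).obj G).obj.obj V)
     naturality := fun V W f => by ext x; exact (map_zero (G.obj.map f).hom).symm }⟩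

lemma addMap_app (V : Eᵒᵖ) (p : ((sets M).obj G ⨯ (sets M).obj G).obj.obj V) :
    (addMap G).hom.app V p =
      (prod.fst (X := (sets M).obj G) (Y := (sets M).obj G)).hom.app V p +
        (prod.snd (X := (sets M).obj G) (Y := (sets M).obj G)).hom.app V p := rfl

lemma comp_app_apply {X Y Z : Sheaf M (Type u)} (f : X ⟶ Y) (g : Y ⟶ Z) (V : Eᵒᵖ) (x : X.obj.obj V) :
    (f ≫ g).hom.app V x = g.hom.app V (f.hom.app V x) := rfl

lemma lift_fst_apply {X Y Z : Sheaf M (Type u)} (f : Z ⟶ X) (g : Z ⟶ Y) (V : Eᵒᵖ) (z : Z.obj.obj V) :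
    (prod.fst (X := X) (Y := Y)).hom.app V ((prod.lift f g).hom.app V z) = f.hom.app V z := by
  rw [← comp_app_apply, prod.lift_fst]

lemma lift_snd_apply {X Y Z : Sheaf M (Type u)} (f : Z ⟶ X) (g : Z ⟶ Y) (V : Eᵒᵖ) (z : Z.obj.obj V) :
    (prod.snd (X := X) (Y := Y)).hom.app V ((prod.lift f g).hom.app V z) = g.hom.app V z := by
  rw [← comp_app_apply, prod.lift_snd]

lemma sets_ext {Z : Sheaf M (Type u)} {X : Sheaf M (Type u)} {f g : Z ⟶ X}
    (h : ∀ V z, f.hom.app V z = g.hom.app V z) : f = g := by
  ext V z
  exact h V z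

end SectionsOfSets

variable [PreservesFiniteLimits (u.sheafPullback (Type u) K J)]

/-- The pullback of sheaves of sets. -/
noncomputable abbrev Lset : Sheaf K (Type u) ⥤ Sheaf J (Type u) := u.sheafPullback (Type u) K J

variable {u}

/-- Pairs of sections of the pullback are sections of the pullback of the product. -/
noncomputable def pairEquiv (X Y : Sheaf K (Type u)) (V : C) :
    ((Lset (J := J) u).obj (X ⨯ Y)).obj.obj (op V) ≃
      ((Lset (J := J) u).obj X).obj.obj (op V) × ((Lset (J := J) u).obj Y).obj.obj (op V) :=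
  Equiv.ofBijective _ (bijective_sections_prod ((Lset (J := J) u).map prod.fst) ((Lset (J := J) u).map prod.snd)
    (isLimitOfHasBinaryProductOfPreservesLimit (Lset u) X Y) V)

variable (u) (G : Sheaf K AddCommGrpCat.{u})

/-- Sections of the pullback of the underlying sheaf of sets. -/
abbrev W (V : Cᵒᵖ) : Type u := ((Lset (J := J) u).obj ((sets K).obj G)).obj.obj V

noncomputable instance (V : Cᵒᵖ) : Zero (W (J := J) u G V) :=
  ⟨((Lset (J := J) u).map (zeroMap G)).hom.app V
    (uniqueSectionsOfIsTerminal (terminalIsTerminal.isTerminalObj (Lset (J := J) u) _) V.unop).default⟩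

noncomputable instance (V : Cᵒᵖ) : Add (W (J := J) u G V) :=
  ⟨fun a b => ((Lset (J := J) u).map (addMap G)).hom.app V ((pairEquiv _ _ V.unop).symm (a, b))⟩

noncomputable instance (V : Cᵒᵖ) : Neg (W (J := J) u G V) :=
  ⟨fun a => ((Lset (J := J) u).map (negMap G)).hom.app V a⟩

lemma map_apply_comp {X Y Z : Sheaf K (Type u)} (f : X ⟶ Y) (g : Y ⟶ Z) (V : Cᵒᵖ)
    (x : ((Lset (J := J) u).obj X).obj.obj V) :
    ((Lset (J := J) u).map g).hom.app V (((Lset (J := J) u).map f).hom.app V x) =
      ((Lset (J := J) u).map (f ≫ g)).hom.app V x := by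
  rw [Functor.map_comp]; rfl

lemma map_congr {X Y : Sheaf K (Type u)} {f g : X ⟶ Y} (h : f = g) (V : Cᵒᵖ)
    (x : ((Lset (J := J) u).obj X).obj.obj V) :
    ((Lset (J := J) u).map f).hom.app V x = ((Lset (J := J) u).map g).hom.app V x := by
  rw [h]

/-- The sum of two maps. -/
lemma add_apply {X : Sheaf K (Type u)} (f g : X ⟶ (sets K).obj G) (V : Cᵒᵖ)
    (x : ((Lset (J := J) u).obj X).obj.obj V) :
    (((Lset (J := J) u).map f).hom.app V x : W u G V) + ((Lset (J := J) u).map g).hom.app V x =
      ((Lset (J := J) u).map (prod.lift f g ≫ addMap G)).hom.app V x := by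
  rw [← map_apply_comp]
  refine congr_arg (((Lset (J := J) u).map (addMap G)).hom.app V) ?_
  rw [Equiv.symm_apply_eq]
  refine Prod.ext ?_ ?_
  · change _ = ((Lset (J := J) u).map prod.fst).hom.app V _
    rw [map_apply_comp, prod.lift_fst]
  · change _ = ((Lset (J := J) u).map prod.snd).hom.app V _
    rw [map_apply_comp, prod.lift_snd]

lemma zero_apply {X : Sheaf K (Type u)} (f : X ⟶ ⊤_ Sheaf K (Type u)) (V : Cᵒᵖ)
    (x : ((Lset (J := J) u).obj X).obj.obj V) :
    (0 : W u G V) = ((Lset (J := J) u).map (f ≫ zeroMap G)).hom.app V x := by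
  rw [← map_apply_comp]
  exact congr_arg (((Lset (J := J) u).map (zeroMap G)).hom.app V)
    ((uniqueSectionsOfIsTerminal (terminalIsTerminal.isTerminalObj (Lset (J := J) u) _) V.unop).uniq _).symm

lemma neg_apply {X : Sheaf K (Type u)} (f : X ⟶ (sets K).obj G) (V : Cᵒᵖ)
    (x : ((Lset (J := J) u).obj X).obj.obj V) :
    -(((Lset (J := J) u).map f).hom.app V x : W u G V) = ((Lset (J := J) u).map (f ≫ negMap G)).hom.app V x :=
  map_apply_comp u f _ V x

noncomputable instance (V : Cᵒᵖ) : AddCommGroup (W (J := J) u G V) where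
  add_assoc a b c := by
    obtain ⟨t, ht⟩ := (pairEquiv (J := J) _ _ V.unop).surjective ((pairEquiv (J := J) _ _ V.unop).symm (a, b), c)
    obtain ⟨h₁, h₂⟩ := Prod.ext_iff.mp ht
    have hab := (pairEquiv (J := J) ((sets K).obj G) ((sets K).obj G) V.unop).apply_symm_apply (a, b)
    obtain ⟨ha, hb⟩ := Prod.ext_iff.mp hab
    have h₁' : ((Lset (J := J) u).map prod.fst).hom.app V t = _ := h₁
    rw [show a = ((Lset (J := J) u).map (prod.fst ≫ prod.fst)).hom.app V t by
        rw [← map_apply_comp, h₁']; exact ha.symm,
      show b = ((Lset (J := J) u).map (prod.fst ≫ prod.snd)).hom.app V t by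
        rw [← map_apply_comp, h₁']; exact hb.symm,
      show c = ((Lset (J := J) u).map prod.snd).hom.app V t from h₂.symm]
    simp only [add_apply]
    refine map_congr u ?_ V _
    refine sets_ext fun V z => ?_
    simp only [comp_app_apply, addMap_app, lift_fst_apply, lift_snd_apply]
    exact add_assoc _ _ _
  zero_add a := by
    conv_rhs => rw [show a = ((Lset (J := J) u).map (𝟙 _)).hom.app V a by simp]
    rw [show (0 : W u G V) + a = _ + ((Lset (J := J) u).map (𝟙 _)).hom.app V a from
      congr_arg₂ (· + ·) (zero_apply u G (terminal.from _) V a) (by simp), add_apply]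
    refine map_congr u ?_ V _
    refine sets_ext fun V z => ?_
    simp only [comp_app_apply, addMap_app, lift_fst_apply, lift_snd_apply]
    exact zero_add _
  add_zero a := by
    conv_rhs => rw [show a = ((Lset (J := J) u).map (𝟙 _)).hom.app V a by simp]
    rw [show a + (0 : W u G V) = ((Lset (J := J) u).map (𝟙 _)).hom.app V a + _ from
      congr_arg₂ (· + ·) (by simp) (zero_apply u G (terminal.from _) V a), add_apply]
    refine map_congr u ?_ V _
    refine sets_ext fun V z => ?_
    simp only [comp_app_apply, addMap_app, lift_fst_apply, lift_snd_apply]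
    exact add_zero _
  nsmul := nsmulRec
  zsmul := zsmulRec
  neg_add_cancel a := by
    rw [show -a + a = -((Lset (J := J) u).map (𝟙 _)).hom.app V a + ((Lset (J := J) u).map (𝟙 _)).hom.app V a by simp,
      neg_apply, add_apply, zero_apply u G (terminal.from _) V a]
    refine map_congr u ?_ V _
    refine sets_ext fun V z => ?_
    simp only [comp_app_apply, addMap_app, lift_fst_apply, lift_snd_apply]
    exact neg_add_cancel _
  add_comm a b := by
    obtain ⟨t, ht⟩ := (pairEquiv (J := J) _ _ V.unop).surjective (a, b)
    obtain ⟨h₁, h₂⟩ := Prod.ext_iff.mp ht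
    rw [show a = ((Lset (J := J) u).map prod.fst).hom.app V t from h₁.symm,
      show b = ((Lset (J := J) u).map prod.snd).hom.app V t from h₂.symm, add_apply, add_apply]
    refine map_congr u ?_ V _
    refine sets_ext fun V z => ?_
    simp only [comp_app_apply, addMap_app, lift_fst_apply, lift_snd_apply]
    exact add_comm _ _

/-- The pullback of an abelian sheaf, built on the pullback of its underlying sheaf of sets. -/
noncomputable def pullAb : Sheaf J AddCommGrpCat.{u} where
  obj :=
    { obj := fun V => AddCommGrpCat.of (W (J := J) u G V)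
      map := fun {V V'} f => AddCommGrpCat.ofHom
        (AddMonoidHom.mk' (fun x => ((Lset (J := J) u).obj ((sets K).obj G)).obj.map f x) (fun a b => by
          obtain ⟨t, ht⟩ := (pairEquiv (J := J) _ _ V.unop).surjective (a, b)
          obtain ⟨h₁, h₂⟩ := Prod.ext_iff.mp ht
          rw [show a = ((Lset (J := J) u).map prod.fst).hom.app V t from h₁.symm,
            show b = ((Lset (J := J) u).map prod.snd).hom.app V t from h₂.symm, add_apply,
            ← NatTrans.naturality_apply, ← NatTrans.naturality_apply, ← NatTrans.naturality_apply,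
            add_apply]))
      map_id := fun V => by ext x; simp
      map_comp := fun f g => by ext x; simp }
  property := by
    rw [Presheaf.isSheaf_iff_isSheaf_forget (s := forget AddCommGrpCat.{u})]
    exact ((Lset (J := J) u).obj ((sets K).obj G)).property

/-- The adjunction for sheaves of sets. -/
noncomputable abbrev adjSet : Lset (J := J) u ⊣ u.sheafPushforwardContinuous (Type u) K J :=
  u.sheafAdjunctionContinuous (Type u) K J

lemma unit_naturality_apply {X Y : Sheaf K (Type u)} (f : X ⟶ Y) (V : Dᵒᵖ) (x : X.obj.obj V) :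
    ((adjSet (J := J) u).unit.app Y).hom.app V (f.hom.app V x) =
      ((Lset (J := J) u).map f).hom.app (op (u.obj V.unop)) (((adjSet (J := J) u).unit.app X).hom.app V x) :=
  ConcreteCategory.congr_hom
    (NatTrans.congr_app (congr_arg (fun m => m.hom) ((adjSet (J := J) u).unit.naturality f)) V) x

/-- The unit, as a map of abelian sheaves. -/
noncomputable def pullAbUnit : G ⟶ (CohSite.push J K u).obj (pullAb u G) :=
  ⟨{ app := fun V => AddCommGrpCat.ofHom (AddMonoidHom.mk'
      (fun x => (((adjSet (J := J) u).unit.app ((sets K).obj G)).hom.app V x : W (J := J) u G (op (u.obj V.unop))))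
      (fun a b => by
        obtain ⟨p, hp⟩ := (bijective_sections_prod (prod.fst (X := (sets K).obj G) (Y := (sets K).obj G)) prod.snd
          (prodIsProd _ _) V.unop).2 (a, b)
        obtain ⟨h₁, h₂⟩ := Prod.ext_iff.mp hp
        rw [show a + b = (addMap G).hom.app V p by rw [addMap_app]; exact congr_arg₂ (· + ·) h₁.symm h₂.symm,
          show a = (prod.fst (X := (sets K).obj G) (Y := (sets K).obj G)).hom.app V p from h₁.symm,
          show b = (prod.snd (X := (sets K).obj G) (Y := (sets K).obj G)).hom.app V p from h₂.symm,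
          unit_naturality_apply, unit_naturality_apply, unit_naturality_apply]
        refine Eq.trans ?_ (add_apply u G prod.fst prod.snd _ _).symm
        refine map_congr u ?_ _ _
        rw [prod.lift_fst_snd, Category.id_comp]))
     naturality := fun V V' f => by
      ext x
      exact NatTrans.naturality_apply ((adjSet (J := J) u).unit.app ((sets K).obj G)).hom f x }⟩

variable {G}

/-- A map to a direct image, on underlying sheaves of sets. -/
noncomputable abbrev setsMap {H : Sheaf J AddCommGrpCat.{u}} (f : G ⟶ (CohSite.push J K u).obj H) :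
    (sets K).obj G ⟶ (u.sheafPushforwardContinuous (Type u) K J).obj ((sets J).obj H) :=
  (sets K).map f

lemma homEquiv_apply_app {X : Sheaf K (Type u)} {Y : Sheaf J (Type u)} (φ : (Lset (J := J) u).obj X ⟶ Y)
    (V : Dᵒᵖ) (x : X.obj.obj V) :
    ((adjSet (J := J) u).homEquiv X Y φ).hom.app V x =
      φ.hom.app (op (u.obj V.unop)) (((adjSet (J := J) u).unit.app X).hom.app V x) := by
  rw [Adjunction.homEquiv_unit]; rfl

lemma transpose_app {X : Sheaf K (Type u)} {Y : Sheaf J (Type u)}
    (m : X ⟶ (u.sheafPushforwardContinuous (Type u) K J).obj Y) (V : Dᵒᵖ) (x : X.obj.obj V) :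
    (((adjSet (J := J) u).homEquiv X Y).symm m).hom.app (op (u.obj V.unop))
      (((adjSet (J := J) u).unit.app X).hom.app V x) = m.hom.app V x := by
  rw [← homEquiv_apply_app, Equiv.apply_symm_apply]

/-- Transpose of a map to a direct image. -/
noncomputable def pullAbDesc {H : Sheaf J AddCommGrpCat.{u}} (f : G ⟶ (CohSite.push J K u).obj H) :
    pullAb (J := J) u G ⟶ H := by
  let ψ : (Lset (J := J) u).obj ((sets K).obj G) ⟶ (sets J).obj H :=
    ((adjSet (J := J) u).homEquiv _ _).symm (setsMap u f)
  have hψ : ∀ (V : Dᵒᵖ) (x : G.obj.obj V),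
      ψ.hom.app (op (u.obj V.unop)) (((adjSet (J := J) u).unit.app ((sets K).obj G)).hom.app V x) = f.hom.app V x :=
    fun V x => transpose_app u (setsMap u f) V x
  refine ⟨{ app := fun V => AddCommGrpCat.ofHom (AddMonoidHom.mk'
    (fun (x : W (J := J) u G V) => (ψ.hom.app V x : H.obj.obj V)) ?_)
            naturality := fun V V' g => by ext x; exact NatTrans.naturality_apply ψ.hom g x }⟩
  intro a b
  obtain ⟨t, ht⟩ := (pairEquiv (J := J) _ _ V.unop).surjective (a, b)
  obtain ⟨h₁, h₂⟩ := Prod.ext_iff.mp ht
  let l := (Lset (J := J) u).map (addMap G) ≫ ψ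
  let r := prod.lift ((Lset (J := J) u).map prod.fst ≫ ψ) ((Lset (J := J) u).map prod.snd ≫ ψ) ≫ addMap H
  have hlr : l = r := by
    apply ((adjSet (J := J) u).homEquiv _ _).injective
    refine sets_ext fun V p => ?_
    rw [homEquiv_apply_app, homEquiv_apply_app]
    have e : ∀ q : ((sets K).obj G ⨯ (sets K).obj G) ⟶ (sets K).obj G,
        ψ.hom.app (op (u.obj V.unop)) (((Lset (J := J) u).map q).hom.app (op (u.obj V.unop))
          (((adjSet (J := J) u).unit.app _).hom.app V p)) = f.hom.app V (q.hom.app V p) := fun q =>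
      (congr_arg (ψ.hom.app (op (u.obj V.unop))) (unit_naturality_apply u q V p).symm).trans (hψ _ _)
    refine (e (addMap G)).trans ?_
    refine (map_add (f.hom.app V).hom _ _).trans ?_
    refine Eq.trans ?_ (addMap_app H (op (u.obj V.unop)) _).symm
    exact congr_arg₂ (· + ·)
      (((lift_fst_apply ((Lset (J := J) u).map prod.fst ≫ ψ) ((Lset (J := J) u).map prod.snd ≫ ψ) _ _).trans (e prod.fst)).symm)
      (((lift_snd_apply ((Lset (J := J) u).map prod.fst ≫ ψ) ((Lset (J := J) u).map prod.snd ≫ ψ) _ _).trans (e prod.snd)).symm)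
  have := ConcreteCategory.congr_hom (NatTrans.congr_app (congr_arg (fun m => m.hom) hlr) V) t
  rw [show a = ((Lset (J := J) u).map prod.fst).hom.app V t from h₁.symm,
    show b = ((Lset (J := J) u).map prod.snd).hom.app V t from h₂.symm, add_apply, prod.lift_fst_snd, Category.id_comp]
  refine this.trans ?_
  simp only [r, comp_app_apply, addMap_app, lift_fst_apply, lift_snd_apply]
  rfl

lemma pullAbUnit_desc {H : Sheaf J AddCommGrpCat.{u}} (f : G ⟶ (CohSite.push J K u).obj H) :
    pullAbUnit u G ≫ (CohSite.push J K u).map (pullAbDesc u f) = f := by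
  ext V x
  exact transpose_app u (setsMap u f) V x

lemma pullAb_hom_ext {H : Sheaf J AddCommGrpCat.{u}} {f g : pullAb (J := J) u G ⟶ H}
    (h : pullAbUnit u G ≫ (CohSite.push J K u).map f = pullAbUnit u G ≫ (CohSite.push J K u).map g) : f = g := by
  apply (sets J).map_injective
  apply ((adjSet (J := J) u).homEquiv _ _).injective
  refine sets_ext fun V x => ?_
  refine (homEquiv_apply_app u ((sets J).map f) V x).trans (Eq.trans ?_ (homEquiv_apply_app u ((sets J).map g) V x).symm)
  exact ConcreteCategory.congr_hom (NatTrans.congr_app (congr_arg (fun m => m.hom) h) V) x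

variable (G) in
/-- The pullback of abelian sheaves computed on underlying sheaves of sets. -/
noncomputable def pullAbIso : (u.sheafPullback AddCommGrpCat.{u} K J).obj G ≅ pullAb (J := J) u G where
  hom := ((u.sheafAdjunctionContinuous AddCommGrpCat.{u} K J).homEquiv _ _).symm (pullAbUnit u G)
  inv := pullAbDesc u ((u.sheafAdjunctionContinuous AddCommGrpCat.{u} K J).unit.app G)
  hom_inv_id := by
    apply ((u.sheafAdjunctionContinuous AddCommGrpCat.{u} K J).homEquiv _ _).injective
    rw [Adjunction.homEquiv_naturality_right, Equiv.apply_symm_apply, Adjunction.homEquiv_id]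
    exact pullAbUnit_desc u _
  inv_hom_id := by
    apply pullAb_hom_ext
    rw [Functor.map_comp, CategoryTheory.Functor.map_id, Category.comp_id, ← Category.assoc, pullAbUnit_desc]
    exact (Adjunction.homEquiv_unit _ _ _ _).symm.trans (Equiv.apply_symm_apply _ _)

instance pullback_preservesMonomorphisms :
    (u.sheafPullback AddCommGrpCat.{u} K J).PreservesMonomorphisms where
  preserves {G H} m _ := by
    let g : pullAb (J := J) u G ⟶ pullAb u H := pullAbDesc u (m ≫ pullAbUnit u H)
    have hg : (sets J).map g = (Lset (J := J) u).map ((sets K).map m) := by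
      apply ((adjSet (J := J) u).homEquiv _ _).injective
      refine (((adjSet (J := J) u).homEquiv _ _).apply_symm_apply _).trans ?_
      refine Eq.trans ?_ (Adjunction.homEquiv_unit (adjSet (J := J) u) _ _ _).symm
      exact ((adjSet (J := J) u).unit.naturality ((sets K).map m))
    have : Mono m.hom := inferInstanceAs (Mono ((sheafToPresheaf K _).map m))
    have : Mono ((sets K).map m) :=
      (sheafToPresheaf K (Type u)).mono_of_mono_map (inferInstanceAs (Mono (Functor.whiskerRight m.hom (forget AddCommGrpCat.{u}))))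
    have : (Lset (J := J) (K := K) u).PreservesMonomorphisms := preservesMonomorphisms_of_preservesLimitsOfShape _
    have hLm : Mono ((Lset (J := J) (K := K) u).map ((sets K).map m)) := Functor.map_mono _ _
    have : Mono ((sets J).map g) := by rw [hg]; exact hLm
    have : Mono g := (sets J).mono_of_mono_map this
    have e : (u.sheafPullback AddCommGrpCat.{u} K J).map m = (pullAbIso u G).hom ≫ g ≫ (pullAbIso u H).inv := by
      apply ((u.sheafAdjunctionContinuous AddCommGrpCat.{u} K J).homEquiv _ _).injective
      simp only [pullAbIso, Adjunction.homEquiv_naturality_right, Equiv.apply_symm_apply, Functor.map_comp, g]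
      rw [← Category.assoc, pullAbUnit_desc, Category.assoc, pullAbUnit_desc, Adjunction.homEquiv_unit]
      exact ((u.sheafAdjunctionContinuous AddCommGrpCat.{u} K J).unit.naturality m).symm
    rw [e]; infer_instance

theorem pullback_preservesFiniteLimits : PreservesFiniteLimits (u.sheafPullback AddCommGrpCat.{u} K J) := by
  have := (u.sheafAdjunctionContinuous AddCommGrpCat.{u} K J).leftAdjoint_preservesColimits
  have : (u.sheafPullback AddCommGrpCat.{u} K J).Additive :=
    (u.sheafAdjunctionContinuous AddCommGrpCat.{u} K J).left_adjoint_additive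
  have := Functor.preservesHomology_of_preservesMonos_and_cokernels (u.sheafPullback AddCommGrpCat.{u} K J)
  exact Functor.preservesFiniteLimits_of_preservesHomology _

end Groth.Agent.SiteCoh
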