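import Groth.Agent.SiteCoh.Compare
import Mathlib.Algebra.Homology.HomologicalComplexAbelian

/-!
Sections of the homology of a complex of acyclic sheaves with acyclic homology.
-/

universe u

open CategoryTheory Category Limits Opposite Abelian

namespace Groth.Agent.SiteCoh

variable {C : Type u} [SmallCategory C] {J : GrothendieckTopology C}

/-- Acyclicity over an object. -/
def Acyc (U : C) (G : Sheaf J AddCommGrpCat.{u}) : Prop := ∀ p : ℕ, Subsingleton (CohSite.HU G (p + 1) U)

variable {U : C} {S : ShortComplex (Sheaf J AddCommGrpCat.{u})}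

lemma acyc_right (hS : S.ShortExact) (h₁ : Acyc U S.X₁) (h₂ : Acyc U S.X₂) : Acyc U S.X₃ := fun p =>
  have : Subsingleton (Ext (CohCx.freeSheaf J U) S.X₂ (p + 1)) := h₂ p
  have : Subsingleton (Ext (CohCx.freeSheaf J U) S.X₁ (p + 1 + 1)) := h₁ (p + 1)
  subsingleton_ext_quotient hS (CohCx.freeSheaf J U) (p + 1)

lemma acyc_middle (hS : S.ShortExact) (h₁ : Acyc U S.X₁) (h₃ : Acyc U S.X₃) : Acyc U S.X₂ := fun p => by
  refine subsingleton_of_forall_eq 0 fun x => ?_
  have : Subsingleton (Ext (CohCx.freeSheaf J U) S.X₁ (p + 1)) := h₁ p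
  have : Subsingleton (Ext (CohCx.freeSheaf J U) S.X₃ (p + 1)) := h₃ p
  obtain ⟨y, rfl⟩ := Ext.covariant_sequence_exact₂ (CohCx.freeSheaf J U) hS x (Subsingleton.elim _ _)
  rw [Subsingleton.elim y 0, Ext.zero_comp]
  rfl

lemma acyc_of_iso {G G' : Sheaf J AddCommGrpCat.{u}} (e : G ≅ G') (h : Acyc U G) : Acyc U G' := fun p =>
  (((extFunctor (p + 1)).obj (op (CohCx.freeSheaf J U))).mapIso e).addCommGroupIsoToAddEquiv.toEquiv.subsingleton_congr.mp
    (h p)

variable (K : CochainComplex (Sheaf J AddCommGrpCat.{u}) ℕ)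

/-- Boundaries, as a quotient. -/
noncomputable abbrev bdCoker (n : ℕ) : Sheaf J AddCommGrpCat.{u} := cokernel (K.iCycles n)

/-- Boundaries map to cycles. -/
noncomputable def bdToCycles (n : ℕ) : bdCoker K n ⟶ K.cycles (n + 1) :=
  cokernel.desc _ (K.toCycles n (n + 1)) (by
    rw [← cancel_mono (K.iCycles (n + 1)), Category.assoc, HomologicalComplex.toCycles_i,
      HomologicalComplex.iCycles_d, zero_comp])

instance mono_bdToCycles (n : ℕ) : Mono (bdToCycles K n) := by
  have h := ShortComplex.exact_of_f_is_kernel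
    (ShortComplex.mk (K.iCycles n) (K.toCycles n (n + 1)) (by
      rw [← cancel_mono (K.iCycles (n + 1)), Category.assoc, HomologicalComplex.toCycles_i,
        HomologicalComplex.iCycles_d, zero_comp]))
    (KernelFork.IsLimit.ofι' _ _ fun {W} k hk => ⟨K.liftCycles k (n + 1) (by simp) (by
        rw [← HomologicalComplex.toCycles_i, ← Category.assoc]
        exact (congr_arg (· ≫ K.iCycles (n + 1)) hk).trans zero_comp),
      K.liftCycles_i _ _ _ _⟩)
  exact h.mono_cokernelDesc

/-- The sequence of cycles, terms and boundaries. -/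
noncomputable abbrev seqZ (n : ℕ) : ShortComplex (Sheaf J AddCommGrpCat.{u}) :=
  ShortComplex.mk (K.iCycles n) (cokernel.π (K.iCycles n)) (cokernel.condition _)

lemma seqZ_shortExact (n : ℕ) : (seqZ K n).ShortExact :=
  { exact := ShortComplex.exact_of_g_is_cokernel _ (cokernelIsCokernel _) }

/-- The sequence of boundaries, cycles and homology. -/
noncomputable abbrev seqH (n : ℕ) : ShortComplex (Sheaf J AddCommGrpCat.{u}) :=
  ShortComplex.mk (bdToCycles K n) (K.homologyπ (n + 1)) (by
    rw [← cancel_epi (cokernel.π (K.iCycles n)), bdToCycles, cokernel.π_desc_assoc,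
      HomologicalComplex.toCycles_comp_homologyπ, comp_zero])

lemma seqH_shortExact (n : ℕ) : (seqH K n).ShortExact := by
  refine { exact := ShortComplex.exact_of_g_is_cokernel _ (CokernelCofork.IsColimit.ofπ' _ _ fun {W} k hk => ?_) }
  have hk' : K.toCycles n (n + 1) ≫ k = 0 := by
    rw [show K.toCycles n (n + 1) = cokernel.π (K.iCycles n) ≫ bdToCycles K n by simp [bdToCycles],
      Category.assoc]
    exact (congr_arg (cokernel.π (K.iCycles n) ≫ ·) hk).trans comp_zero
  exact ⟨(K.homologyIsCokernel n (n + 1) (by simp)).desc (CokernelCofork.ofπ k hk'),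
    (K.homologyIsCokernel n (n + 1) (by simp)).fac _ WalkingParallelPair.one⟩

variable (hK : ∀ n, Acyc U (K.X n)) (hH : ∀ n, Acyc U (K.homology n))

instance isIso_homologyπ_zero : IsIso (K.homologyπ 0) :=
  K.isIso_homologyπ _ 0 rfl (K.shape _ _ (by simp))

include hK hH in
lemma acyc_cycles : ∀ n, Acyc U (K.cycles n)
  | 0 => acyc_of_iso (asIso (K.homologyπ 0)).symm (hH 0)
  | n + 1 => acyc_middle (seqH_shortExact K n)
      (acyc_right (seqZ_shortExact K n) (acyc_cycles n) (hK n)) (hH (n + 1))

lemma exists_cycle_section (n : ℕ) (s : (K.X n).obj.obj (op U)) (hs : (K.d n (n + 1)).hom.app (op U) s = 0) :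
    ∃ z, (K.iCycles n).hom.app (op U) z = s := by
  let φ := (secEquiv U (K.X n)).symm s
  have h : φ ≫ K.d n (n + 1) = 0 := (secEquiv U _).injective ((secEquiv_comp _ _).trans
    (((congr_arg ((K.d n (n + 1)).hom.app (op U)) ((secEquiv U _).apply_symm_apply s)).trans hs).trans
      (map_zero _).symm))
  refine ⟨secEquiv U _ (K.liftCycles φ (n + 1) (by simp) h), ?_⟩
  rw [← secEquiv_comp, K.liftCycles_i]
  exact (secEquiv U _).apply_symm_apply s

include hK hH in
lemma homologyπ_surjective (n : ℕ) : Function.Surjective ((K.homologyπ n).hom.app (op U)) := by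
  rcases n with _ | n
  · intro x
    refine ⟨(inv (K.homologyπ 0)).hom.app (op U) x, ?_⟩
    exact ConcreteCategory.congr_hom
      (NatTrans.congr_app (congr_arg (fun m => m.hom) (IsIso.inv_hom_id (K.homologyπ 0))) (op U)) x
  · have : Subsingleton (CohSite.HU (seqH K n).X₁ 1 U) :=
      acyc_right (seqZ_shortExact K n) (acyc_cycles K hK hH n) (hK n) 0
    exact sections_surjective (seqH_shortExact K n) U

include hK hH in
lemma homologyπ_eq_zero (n : ℕ) (z : (K.cycles (n + 1)).obj.obj (op U))
    (hz : (K.homologyπ (n + 1)).hom.app (op U) z = 0) : ∃ k, (K.toCycles n (n + 1)).hom.app (op U) k = z := by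
  obtain ⟨c, rfl⟩ := sections_exact (seqH_shortExact K n) U z hz
  have : Subsingleton (CohSite.HU (seqZ K n).X₁ 1 U) := acyc_cycles K hK hH n 0
  obtain ⟨k, rfl⟩ := sections_surjective (seqZ_shortExact K n) U c
  have e : K.toCycles n (n + 1) = cokernel.π (K.iCycles n) ≫ bdToCycles K n := (cokernel.π_desc _ _ _).symm
  exact ⟨k, ConcreteCategory.congr_hom
    (NatTrans.congr_app (congr_arg (fun (m : K.X n ⟶ K.cycles (n + 1)) => m.hom) e) (op U)) k⟩

end Groth.Agent.SiteCoh
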