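import Groth.Agent.SiteCoh.Basic
import Mathlib.CategoryTheory.Limits.Shapes.ConcreteCategory
import Mathlib.Algebra.Homology.ShortComplex.Ab
import Mathlib.Algebra.Homology.HomologySequence
import Mathlib.CategoryTheory.Preadditive.Injective.Basic

/-!
Čech complexes, described elementwise; coinduced presheaves have no higher Čech cohomology.
-/

universe u v

open CategoryTheory Category Limits Opposite

namespace Groth.Agent.SiteCoh

variable {D : Type u} [Category.{v} D] [HasFiniteProducts D]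

/-- The Čech complex of a family of objects. -/
noncomputable abbrev cechCx {ι : Type u} (Y : ι → D) (P : Dᵒᵖ ⥤ AddCommGrpCat.{u}) :
    CochainComplex AddCommGrpCat.{u} ℕ :=
  (cechComplexFunctor Y).obj P

variable {ι : Type u} (Y : ι → D)

/-- The product attached to a tuple of indices. -/
noncomputable abbrev tupleProd {n : ℕ} (a : Fin (n + 1) → ι) : D := ∏ᶜ (Y ∘ a)

/-- The projection forgetting one factor. -/
noncomputable abbrev tupleDrop {n : ℕ} (a : Fin (n + 2) → ι) (k : Fin (n + 2)) :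
    tupleProd Y a ⟶ tupleProd Y (a ∘ k.succAbove) :=
  Pi.lift fun i => Pi.π (Y ∘ a) (k.succAbove i)

/-- Cochains as functions on tuples. -/
abbrev Cochain (P : Dᵒᵖ ⥤ AddCommGrpCat.{u}) (n : ℕ) : Type u :=
  ∀ a : Fin (n + 1) → ι, P.obj (op (tupleProd Y a))

variable (P : Dᵒᵖ ⥤ AddCommGrpCat.{u})

/-- Degree `n` of the Čech complex as a group of functions on tuples. -/
noncomputable def cochainEquiv (n : ℕ) : (cechCx Y P).X n ≃+ Cochain Y P n :=
  { Concrete.productEquiv (fun a : Fin (n + 1) → ι => P.obj (op (tupleProd Y a))) with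
    map_add' := fun x y => funext fun a =>
      (Concrete.productEquiv_apply_apply (fun a : Fin (n + 1) → ι => P.obj (op (tupleProd Y a))) (x + y) a).trans
        ((map_add _ _ _).trans (congr_arg₂ (· + ·)
          (Concrete.productEquiv_apply_apply (fun a : Fin (n + 1) → ι => P.obj (op (tupleProd Y a))) x a).symm
          (Concrete.productEquiv_apply_apply (fun a : Fin (n + 1) → ι => P.obj (op (tupleProd Y a))) y a).symm)) }

lemma cochainEquiv_apply (n : ℕ) (x : (cechCx Y P).X n) (a : Fin (n + 1) → ι) :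
    cochainEquiv Y P n x a = Pi.π (fun a : Fin (n + 1) → ι => P.obj (op (tupleProd Y a))) a x :=
  Concrete.productEquiv_apply_apply (fun a : Fin (n + 1) → ι => P.obj (op (tupleProd Y a))) x a

lemma coface_d (X : CosimplicialObject AddCommGrpCat.{u}) (n : ℕ) :
    ((AlgebraicTopology.alternatingCofaceMapComplex AddCommGrpCat.{u}).obj X).d n (n + 1) =
      AlgebraicTopology.AlternatingCofaceMapComplex.objD X n :=
  CochainComplex.of_d (fun m => X.obj (SimplexCategory.mk m)) (AlgebraicTopology.AlternatingCofaceMapComplex.objD X) n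

/-- The Čech differential on functions. -/
noncomputable def cd {n : ℕ} (x : Cochain Y P n) : Cochain Y P (n + 1) :=
  fun a => ∑ k : Fin (n + 2), (-1 : ℤ) ^ (k : ℕ) • P.map (tupleDrop Y a k).op (x (a ∘ k.succAbove))

lemma cd_sum {n : ℕ} (x : Cochain Y P n) (a : Fin (n + 2) → ι) :
    cd Y P x a = ∑ k : Fin (n + 2), (-1 : ℤ) ^ (k : ℕ) • P.map (tupleDrop Y a k).op (x (a ∘ k.succAbove)) := rfl

lemma cochainEquiv_d (n : ℕ) (x : (cechCx Y P).X n) :
    cochainEquiv Y P (n + 1) ((cechCx Y P).d n (n + 1) x) = cd Y P (cochainEquiv Y P n x) := by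
  funext a
  let F := fun a : Fin (n + 1) → ι => P.obj (op (tupleProd Y a))
  let F' := fun a : Fin (n + 2) → ι => P.obj (op (tupleProd Y a))
  rw [cochainEquiv_apply]
  have hd : (cechCx Y P).d n (n + 1) ≫ Pi.π F' a =
      ∑ k : Fin (n + 2), (-1 : ℤ) ^ (k : ℕ) • (Pi.π F (a ∘ k.succAbove) ≫ P.map (tupleDrop Y a k).op) := by
    refine (congr_arg (· ≫ Pi.π F' a)
      (coface_d ((FormalCoproduct.cosimplicialObjectFunctor (FormalCoproduct.mk _ Y).cech).obj P) n)).trans ?_
    refine (Preadditive.sum_comp _ _ _).trans ?_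
    refine Finset.sum_congr rfl fun k _ => ?_
    refine (Preadditive.zsmul_comp _ _ _).trans ?_
    refine congr_arg _ ?_
    exact Pi.lift_π _ _
  refine (ConcreteCategory.congr_hom hd x).trans ?_
  simp only [cd_sum, cochainEquiv_apply]
  let ev : (((cechCx Y P).X n) ⟶ F' a) →+ F' a :=
    AddMonoidHom.mk' (fun f => f x) (fun _ _ => rfl)
  refine (map_sum ev _ _).trans (Finset.sum_congr rfl fun k _ => ?_)
  exact (map_zsmul ev _ _).trans rfl

lemma d_eq_zero_iff (n : ℕ) (x : (cechCx Y P).X n) :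
    (cechCx Y P).d n (n + 1) x = 0 ↔ cd Y P (cochainEquiv Y P n x) = 0 := by
  rw [← cochainEquiv_d, AddEquiv.map_eq_zero_iff]

/-- Vanishing of Čech cohomology in a positive degree, elementwise. -/
def CechExact (n : ℕ) : Prop :=
  ∀ x : Cochain Y P (n + 1), cd Y P x = 0 → ∃ y : Cochain Y P n, cd Y P y = x

lemma isZero_cech_iff (n : ℕ) : IsZero ((cechCx Y P).homology (n + 1)) ↔ CechExact Y P n := by
  rw [← HomologicalComplex.exactAt_iff_isZero_homology,
    HomologicalComplex.exactAt_iff' (cechCx Y P) n (n + 1) (n + 1 + 1) (by simp) (by simp),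
    ShortComplex.ab_exact_iff]
  constructor
  · intro h x hx
    obtain ⟨y, hy⟩ := h ((cochainEquiv Y P (n + 1)).symm x)
      ((d_eq_zero_iff Y P _ _).mpr (by rwa [AddEquiv.apply_symm_apply]))
    refine ⟨cochainEquiv Y P n y, (cochainEquiv_d Y P n y).symm.trans ?_⟩
    exact (congr_arg (cochainEquiv Y P (n + 1)) hy).trans (AddEquiv.apply_symm_apply _ _)
  · intro h x hx
    obtain ⟨y, hy⟩ := h (cochainEquiv Y P (n + 1) x) ((d_eq_zero_iff Y P _ _).mp hx)
    refine ⟨(cochainEquiv Y P n).symm y, (cochainEquiv Y P (n + 1)).injective ?_⟩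
    exact (cochainEquiv_d Y P n _).trans (by rw [AddEquiv.apply_symm_apply, hy])

section Functoriality

variable {Y P} {Q : Dᵒᵖ ⥤ AddCommGrpCat.{u}}

/-- A map of presheaves applied to a cochain. -/
noncomputable def cmap (f : P ⟶ Q) {n : ℕ} (x : Cochain Y P n) : Cochain Y Q n := fun a => f.app _ (x a)

lemma cmap_cd (f : P ⟶ Q) {n : ℕ} (x : Cochain Y P n) : cmap f (cd Y P x) = cd Y Q (cmap f x) := by
  funext a
  simp only [cmap, cd_sum, map_sum, map_zsmul, NatTrans.naturality_apply]

lemma cmap_zero (f : P ⟶ Q) (n : ℕ) : cmap f (0 : Cochain Y P n) = 0 := funext fun _ => map_zero _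

lemma cmap_add (f : P ⟶ Q) {n : ℕ} (x y : Cochain Y P n) : cmap f (x + y) = cmap f x + cmap f y :=
  funext fun _ => map_add _ _ _

lemma cmap_sub (f : P ⟶ Q) {n : ℕ} (x y : Cochain Y P n) : cmap f (x - y) = cmap f x - cmap f y :=
  funext fun _ => map_sub _ _ _

lemma cd_sub {n : ℕ} (x y : Cochain Y P n) : cd Y P (x - y) = cd Y P x - cd Y P y := by
  funext a
  simp only [cd_sum, Pi.sub_apply, map_sub, smul_sub, Finset.sum_sub_distrib]

lemma cd_zero (n : ℕ) : cd Y P (0 : Cochain Y P n) = 0 := by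
  funext a
  simp [cd_sum]

lemma cechExact_of_retract (i : P ⟶ Q) (r : Q ⟶ P) (h : i ≫ r = 𝟙 P) {n : ℕ} (hQ : CechExact Y Q n) :
    CechExact Y P n := by
  intro x hx
  obtain ⟨y, hy⟩ := hQ (cmap i x) (by rw [← cmap_cd, hx, cmap_zero])
  refine ⟨cmap r y, ?_⟩
  rw [← cmap_cd, hy]
  funext a
  exact ConcreteCategory.congr_hom (NatTrans.congr_app h _) (x a)

lemma cd_cd {n : ℕ} (x : Cochain Y P n) : cd Y P (cd Y P x) = 0 := by
  obtain ⟨x, rfl⟩ := (cochainEquiv Y P n).surjective x
  rw [← cochainEquiv_d, ← cochainEquiv_d, ← ConcreteCategory.comp_apply, HomologicalComplex.d_comp_d]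
  exact map_zero _

end Functoriality

section Coinduced

variable {E : Type u} [Category.{u} E]

/-- The coinduced presheaf of a family of abelian groups. -/
def coind (A : E → AddCommGrpCat.{u}) : Eᵒᵖ ⥤ AddCommGrpCat.{u} where
  obj W := AddCommGrpCat.of (∀ V : E, (V ⟶ W.unop) → A V)
  map g := AddCommGrpCat.ofHom (AddMonoidHom.mk' (fun φ V f => φ V (f ≫ g.unop)) (fun _ _ => rfl))
  map_id W := by ext φ V f; change φ V (f ≫ 𝟙 _) = φ V f; rw [Category.comp_id]
  map_comp g h := by
    ext φ V f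
    change φ V (f ≫ h.unop ≫ g.unop) = φ V ((f ≫ h.unop) ≫ g.unop)
    rw [Category.assoc]

/-- The canonical map to the coinduced presheaf. -/
def toCoind (Q : Eᵒᵖ ⥤ AddCommGrpCat.{u}) : Q ⟶ coind fun V => Q.obj (op V) where
  app W := AddCommGrpCat.ofHom (AddMonoidHom.mk' (fun s V f => Q.map f.op s)
    (fun a b => funext fun V => funext fun f => map_add _ a b))
  naturality W W' g := by
    ext s; funext V f
    change Q.map f.op (Q.map g s) = Q.map (f ≫ g.unop).op s
    rw [← ConcreteCategory.comp_apply, ← Functor.map_comp]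
    rfl

instance mono_toCoind (Q : Eᵒᵖ ⥤ AddCommGrpCat.{u}) : Mono (toCoind Q) := by
  have : ∀ W, Mono ((toCoind Q).app W) := fun W => (AddCommGrpCat.mono_iff_injective _).mpr fun a b h => by
    have h' : Q.map (𝟙 W.unop).op a = Q.map (𝟙 W.unop).op b := congr_fun (congr_fun h W.unop) (𝟙 _)
    simpa using h'
  exact NatTrans.mono_of_mono_app _

variable [HasFiniteProducts E] {κ : Type u} (Z : κ → E)

theorem cechExact_coind (A : E → AddCommGrpCat.{u}) (n : ℕ) : CechExact Z (coind A) n := by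
  intro x hx
  let φ : ∀ V : E, (Fin (n + 2) → Σ i : κ, (V ⟶ Z i)) → A V :=
    fun V e => x (fun k => (e k).1) V (Pi.lift fun k => (e k).2)
  let extra : ∀ V : E, Nonempty (Σ i : κ, (V ⟶ Z i)) → (Σ i : κ, (V ⟶ Z i)) := fun V h => h.some
  let ofHom : ∀ {m : ℕ} (a : Fin (m + 1) → κ) (V : E), (V ⟶ tupleProd Z a) → Fin (m + 1) → Σ i : κ, (V ⟶ Z i) :=
    fun a V f k => ⟨a k, f ≫ Pi.π (Z ∘ a) k⟩
  have hφ : ∀ (a : Fin (n + 2) → κ) (V : E) (f : V ⟶ tupleProd Z a), φ V (ofHom a V f) = x a V f := by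
    intro a V f
    refine congr_arg (x a V) ?_
    exact Pi.hom_ext _ _ fun k => by simp [ofHom]
  let y : Cochain Z (coind A) n := fun a V f =>
    φ V (Fin.cons (α := fun _ => Σ i : κ, (V ⟶ Z i)) (extra V ⟨ofHom a V f 0⟩) (ofHom a V f))
  refine ⟨y, funext fun a => funext fun V => funext fun f => ?_⟩
  have hsum : ∀ {m : ℕ} (z : Cochain Z (coind A) m) (b : Fin (m + 2) → κ) (g : V ⟶ tupleProd Z b),
      (cd Z (coind A) z b : ∀ W : E, (W ⟶ tupleProd Z b) → A W) V g =
        ∑ k : Fin (m + 2), (-1 : ℤ) ^ (k : ℕ) • z (b ∘ k.succAbove) V (g ≫ tupleDrop Z b k) := by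
    intro m z b g
    let evh : ((coind A).obj (op (tupleProd Z b))) →+ A V := AddMonoidHom.mk' (fun w => w V g) (fun _ _ => rfl)
    show evh (cd Z (coind A) z b) = _
    rw [cd_sum, map_sum]
    exact Finset.sum_congr rfl fun k _ => map_zsmul evh _ _
  have hdrop : ∀ {m : ℕ} (b : Fin (m + 2) → κ) (g : V ⟶ tupleProd Z b) (k : Fin (m + 2)),
      ofHom (b ∘ k.succAbove) V (g ≫ tupleDrop Z b k) = ofHom b V g ∘ k.succAbove := by
    intro m b g k
    funext i
    simp only [ofHom, Function.comp_apply, Category.assoc]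
    congr 2
    exact Pi.lift_π _ _
  set es := extra V ⟨ofHom a V f 0⟩
  let e' : Fin (n + 3) → Σ i : κ, (V ⟶ Z i) := Fin.cons es (ofHom a V f)
  let b : Fin (n + 3) → κ := fun k => (e' k).1
  let g : V ⟶ tupleProd Z b := Pi.lift fun k => (e' k).2
  have he' : ofHom b V g = e' := by
    funext k
    change (⟨(e' k).1, g ≫ Pi.π (Z ∘ b) k⟩ : Σ i : κ, (V ⟶ Z i)) = _
    rw [show g ≫ Pi.π (Z ∘ b) k = (e' k).2 from Pi.lift_π _ _]
  have h0 := hsum x b g
  rw [hx] at h0
  change (0 : A V) = _ at h0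
  have hterm : ∀ k : Fin (n + 3), x (b ∘ k.succAbove) V (g ≫ tupleDrop Z b k) = φ V (e' ∘ k.succAbove) := by
    intro k
    rw [← hφ, hdrop, he']
  simp only [hterm] at h0
  rw [Fin.sum_univ_succ] at h0
  rw [hsum]
  have hy : ∀ k : Fin (n + 2), y (a ∘ k.succAbove) V (f ≫ tupleDrop Z a k) =
      φ V (e' ∘ k.succ.succAbove) := by
    intro k
    simp only [y, hdrop]
    congr 1
    funext i
    refine Fin.cases ?_ (fun i => ?_) i
    · simp [e', es, Function.comp]
    · simp [e', Function.comp, Fin.succ_succAbove_succ]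
  have h00 : e' ∘ (0 : Fin (n + 3)).succAbove = ofHom a V f := by funext i; simp [e']
  simp only [hy]
  simp only [h00, hφ, Fin.val_zero, pow_zero, one_zsmul, Fin.val_succ, pow_succ, mul_neg, mul_one,
    neg_smul, Finset.sum_neg_distrib] at h0
  exact (sub_eq_zero.mp (by rw [sub_eq_add_neg]; exact h0.symm)).symm

end Coinduced

/-- The restriction of a coinduced presheaf to a slice receives the coinduced presheaf of the slice. -/
noncomputable def coindOverTo {C : Type u} [SmallCategory C] (A : C → AddCommGrpCat.{u}) (U : C) :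
    coind (fun W : Over U => A W.left) ⟶ (Over.forget U).op ⋙ coind A where
  app W := AddCommGrpCat.ofHom (AddMonoidHom.mk'
    (fun ψ V g => ψ (Over.mk (g ≫ W.unop.hom)) (Over.homMk g)) (fun _ _ => rfl))
  naturality W W' h := by
    ext ψ; funext V g
    change ψ (Over.mk (g ≫ W'.unop.hom)) (Over.homMk g ≫ h.unop) =
      ψ (Over.mk ((g ≫ h.unop.left) ≫ W.unop.hom)) (Over.homMk (g ≫ h.unop.left))
    have key : ∀ (q q' : V ⟶ U), q = q' → ∀ (m : Over.mk q ⟶ W.unop) (m' : Over.mk q' ⟶ W.unop),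
        m.left = m'.left → ψ (Over.mk q) m = ψ (Over.mk q') m' := by
      intro q q' hq m m' hm
      subst hq
      rw [Over.OverMorphism.ext hm]
    refine key _ _ ?_ _ _ rfl
    erw [Category.assoc, Over.w h.unop]

lemma cechExact_sheaf_injective {E : Type u} [SmallCategory E] [HasFiniteProducts E]
    (J : GrothendieckTopology E) (I : Sheaf J AddCommGrpCat.{u}) [Injective I] {κ : Type u} (Z : κ → E) (n : ℕ) :
    CechExact Z I.obj n := by
  have : Injective I.obj :=
    Injective.injective_of_adjoint (sheafificationAdjunction J AddCommGrpCat.{u}) I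
  exact cechExact_of_retract (toCoind I.obj) (Injective.factorThru (𝟙 _) (toCoind I.obj))
    (Injective.comp_factorThru _ _) (cechExact_coind Z _ n)

lemma cechExact_sheaf_injective_over {C : Type u} [SmallCategory C] [HasPullbacks C] (J : GrothendieckTopology C)
    (I : Sheaf J AddCommGrpCat.{u}) [Injective I] {U : C} {κ : Type u} (Z : κ → Over U) (n : ℕ) :
    CechExact Z ((Over.forget U).op ⋙ I.obj) n := by
  have : Injective I.obj :=
    Injective.injective_of_adjoint (sheafificationAdjunction J AddCommGrpCat.{u}) I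
  refine cechExact_of_retract (toCoind _)
    (coindOverTo (fun V => I.obj.obj (op V)) U ≫
      Functor.whiskerLeft (Over.forget U).op (Injective.factorThru (𝟙 I.obj) (toCoind I.obj))) ?_
    (cechExact_coind Z _ n)
  ext W s
  exact (ConcreteCategory.congr_hom (NatTrans.congr_app
    (Injective.comp_factorThru (𝟙 I.obj) (toCoind I.obj)) (op W.unop.left)) s)

end Groth.Agent.SiteCoh
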