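import Groth.Agent.SiteCoh.Derived
import Groth.Agent.SiteCoh.Kill
import Groth.Agent.SiteCoh.PushAcyclic
import Mathlib.CategoryTheory.Sites.LocallyInjective

/-!
Sheaves with vanishing higher direct images.
-/

universe u

open CategoryTheory Category Limits Opposite Abelian

namespace Groth.Agent.SiteCoh

variable {C D : Type u} [SmallCategory C] [SmallCategory D] {J : GrothendieckTopology C}
  {K : GrothendieckTopology D} (u : D ⥤ C) [u.IsContinuous K J]

variable (K) in
/-- Classes of degree `q` are killed locally on the base. -/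
def LocKilled (F : Sheaf J AddCommGrpCat.{u}) (q : ℕ) : Prop :=
  ∀ (V : D) (ξ : Ext (CohCx.freeSheaf J (u.obj V)) F q), ∃ S ∈ K V, ∀ ⦃W : D⦄ (g : W ⟶ V), S.arrows g →
    (Ext.mk₀ (CohCx.freeSheafMap J (u.map g))).comp ξ (zero_add q) = 0

lemma locKilled_of_isZero {F : Sheaf J AddCommGrpCat.{u}} {q : ℕ}
    (h : IsZero ((CohSite.Rpush J K u q).obj F)) : LocKilled K u F q := by
  intro V ξ
  have hz : IsZero ((presheafToSheaf K AddCommGrpCat.{u}).obj (u.op ⋙ hPre F q)) :=
    h.of_iso (rpushIso u F q).symm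
  have hzero : toSheafify K (u.op ⋙ hPre F q) = 0 :=
    ((sheafToPresheaf K AddCommGrpCat.{u}).map_isZero hz).eq_of_tgt _ _
  let x : (u.op ⋙ hPre F q).obj (op V) := (ξ : (hPre F q).obj (op (u.obj V)))
  have hx : (toSheafify K (u.op ⋙ hPre F q)).app (op V) x =
      (toSheafify K (u.op ⋙ hPre F q)).app (op V) 0 := by rw [hzero]; rfl
  refine ⟨_, Presheaf.equalizerSieve_mem K (toSheafify K (u.op ⋙ hPre F q)) x 0 hx, fun W g hg => ?_⟩
  exact hg.trans (map_zero ((u.op ⋙ hPre F q).map g.op).hom)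

lemma push_epi_of_locKilled {S : ShortComplex (Sheaf J AddCommGrpCat.{u})} (hS : S.ShortExact)
    (h : LocKilled K u S.X₁ 1) : Epi ((CohSite.push J K u).map S.g) := by
  refine (Sheaf.isLocallySurjective_iff_epi' AddCommGrpCat.{u} _).mp ⟨fun {V} s => ?_⟩
  let φ := (secEquiv (u.obj V) S.X₃).symm s
  obtain ⟨T, hT, hk⟩ := h V ((Ext.mk₀ φ).comp hS.extClass (zero_add 1))
  refine K.superset_covering ?_ hT
  intro W g hg
  have h0 := hk g hg
  rw [← Ext.comp_assoc _ _ _ (zero_add 0) (zero_add 1) (by omega), Ext.mk₀_comp_mk₀] at h0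
  obtain ⟨x₂, hx₂⟩ := Ext.covariant_sequence_exact₃ _ hS _ (zero_add 1) h0
  obtain ⟨ψ, rfl⟩ := (Ext.mk₀_bijective _ _).2 x₂
  refine ⟨secEquiv _ S.X₂ ψ, ?_⟩
  change S.g.hom.app (op (u.obj W)) (secEquiv _ S.X₂ ψ) = S.X₃.obj.map (u.map g).op s
  rw [← secEquiv_comp, (Ext.mk₀_bijective _ _).1 ((Ext.mk₀_comp_mk₀ ψ S.g).symm.trans hx₂),
    secEquiv_freeSheafMap]
  exact congr_arg _ ((secEquiv (u.obj V) S.X₃).apply_symm_apply s)

lemma push_shortExact_of_epi {S : ShortComplex (Sheaf J AddCommGrpCat.{u})} (hS : S.ShortExact)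
    (h : Epi ((CohSite.push J K u).map S.g)) : (S.map (CohSite.push J K u)).ShortExact := by
  have := hS.mono_f
  have : (CohSite.push J K u).IsRightAdjoint := inferInstance
  exact { exact := ShortComplex.exact_of_f_is_kernel _
            (KernelFork.mapIsLimit _ hS.fIsKernel (CohSite.push J K u))
          mono_f := inferInstanceAs (Mono ((CohSite.push J K u).map S.f)), epi_g := h }

variable (K) in
/-- All higher direct images vanish, elementwise. -/
def DirectAcyclic (F : Sheaf J AddCommGrpCat.{u}) : Prop := ∀ q : ℕ, LocKilled K u F (q + 1)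

lemma directAcyclic_quotient {F : Sheaf J AddCommGrpCat.{u}} (hF : DirectAcyclic K u F) :
    DirectAcyclic K u (embedSeq F).X₃ := by
  intro q V η
  have hS := embedSeq_shortExact F
  obtain ⟨T, hT, hk⟩ := hF (q + 1) V (η.comp hS.extClass rfl)
  refine ⟨T, hT, fun W g hg => ?_⟩
  apply (shiftEquiv hS (CohCx.freeSheaf J (u.obj W)) (q + 1)).injective
  rw [map_zero]
  refine Eq.trans ?_ (hk g hg)
  exact Ext.comp_assoc _ _ _ (zero_add (q + 1)) rfl (by omega)

lemma directAcyclic_shortExact {F : Sheaf J AddCommGrpCat.{u}} (hF : DirectAcyclic K u F) :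
    ((embedSeq F).map (CohSite.push J K u)).ShortExact :=
  push_shortExact_of_epi u (embedSeq_shortExact F) (push_epi_of_locKilled u (embedSeq_shortExact F) (hF 0))

end Groth.Agent.SiteCoh
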