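import Groth.Agent.W7TotAcyc.Basic
import Mathlib.CategoryTheory.Limits.Preserves.Shapes.Over
import Mathlib.CategoryTheory.Limits.Constructions.FiniteProductsOfBinaryProducts
import Mathlib.CategoryTheory.Limits.Constructions.Over.Products
import Mathlib.CategoryTheory.Sites.Pullback

/-!
Inverse images along continuous functors whose left Kan extension to sheaves of sets preserves fibre
products keep totally acyclic sheaves totally acyclic.
-/

set_option autoImplicit false
set_option linter.style.haveILetI false
set_option backward.isDefEq.respectTransparency false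
set_option backward.isDefEq.respectTransparency.types false

universe u

open CategoryTheory Category Limits Opposite AlgebraicTopology Simplicial

noncomputable section

namespace Groth.Agent.SiteCoh

section Wide

variable {A : Type*} [Category A] {B : Type*} [Category B] (F : A ⥤ B)

theorem preservesFiniteProducts_post [HasPullbacks A] [PreservesLimitsOfShape WalkingCospan F] (U : A) :
    PreservesFiniteProducts (Over.post F (X := U)) := by
  haveI : PreservesLimitsOfShape (Discrete WalkingPair) (Over.post F (X := U)) := by
    haveI : PreservesLimitsOfShape (WidePullbackShape WalkingPair) F :=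
      inferInstanceAs (PreservesLimitsOfShape WalkingCospan F)
    infer_instance
  haveI : PreservesLimit (Functor.empty.{0} (Over U)) (Over.post F (X := U)) :=
    preservesLimit_of_preserves_limit_cone Over.mkIdTerminal
      ((isLimitMapConeEmptyConeEquiv (Over.post F) (Over.mk (𝟙 U))).symm
        (Over.mkIdTerminal.ofIso (Over.isoMk (Iso.refl (F.obj U)) ((Category.id_comp _).trans (F.map_id U)))))
  haveI : PreservesLimitsOfShape (Discrete PEmpty.{1}) (Over.post F (X := U)) :=
    preservesLimitsOfShape_pempty_of_preservesTerminal _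
  haveI : HasBinaryProducts (Over U) := Over.ConstructProducts.over_binaryProduct_of_pullback
  haveI : HasFiniteProducts (Over U) := hasFiniteProducts_of_has_binary_and_terminal
  exact Limits.PreservesFiniteProducts.of_preserves_binary_and_terminal _

variable {T : A} {n : ℕ} (Y : Fin n → A) (g : ∀ i, Y i ⟶ T) [HasWidePullback T Y g]

/-- the fan of a wide pullback -/
abbrev overFan : Fan (fun i => Over.mk (g i)) :=
  Fan.mk (Over.mk (WidePullback.base g)) fun i => Over.homMk (WidePullback.π g i) (WidePullback.π_arrow g i)

/-- a wide pullback is a product over the base -/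
def overFanIsLimit : IsLimit (overFan Y g) :=
  Fan.IsLimit.mk _
    (fun s => Over.homMk (WidePullback.lift s.pt.hom (fun i => (s.proj i).left) (fun i => Over.w (s.proj i)))
      (WidePullback.lift_base _ _ _ _))
    (fun s i => Over.OverMorphism.ext (WidePullback.lift_π _ _ _ _ i))
    (fun s m hm => Over.OverMorphism.ext (WidePullback.hom_ext _ _ _
      (fun i => (congrArg CommaMorphism.left (hm i)).trans (WidePullback.lift_π (fun i => g i) _ _ (fun i => Over.w (s.proj i)) i).symm)
      ((Over.w m).trans (WidePullback.lift_base _ _ _ _).symm)))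

variable [HasPullbacks A] [PreservesLimitsOfShape WalkingCospan F]
  [HasWidePullback (F.obj T) (fun i => F.obj (Y i)) fun i => F.map (g i)]

/-- the comparison map of wide pullbacks -/
abbrev wideCmp : F.obj (widePullback T Y g) ⟶ widePullback (F.obj T) (fun i => F.obj (Y i)) fun i => F.map (g i) :=
  WidePullback.lift (F.map (WidePullback.base g)) (fun i => F.map (WidePullback.π g i))
    (fun i => by rw [← F.map_comp, WidePullback.π_arrow])

theorem isIso_wideCmp : IsIso (wideCmp F Y g) := by
  haveI := preservesFiniteProducts_post F T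
  let h := isLimitFanMkObjOfIsLimit (Over.post F (X := T)) _ _ (overFanIsLimit Y g)
  let v := h.lift (Fan.mk (Over.mk (WidePullback.base fun i => F.map (g i))) fun i =>
    Over.homMk (WidePullback.π (fun i => F.map (g i)) i) (WidePullback.π_arrow _ i))
  have hv : ∀ i, v.left ≫ F.map (WidePullback.π g i) = WidePullback.π (fun i => F.map (g i)) i := fun i =>
    congrArg CommaMorphism.left (h.fac (Fan.mk (Over.mk (WidePullback.base fun i => F.map (g i))) fun i =>
      Over.homMk (WidePullback.π (fun i => F.map (g i)) i) (WidePullback.π_arrow _ i)) ⟨i⟩)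
  have hv0 : v.left ≫ F.map (WidePullback.base g) = WidePullback.base fun i => F.map (g i) := Over.w v
  refine ⟨v.left, ?_, WidePullback.hom_ext _ _ _ (fun i => ?_) ?_⟩
  · let w : Over.mk (F.map (WidePullback.base g)) ⟶ Over.mk (F.map (WidePullback.base g)) :=
      (Over.homMk (wideCmp F Y g ≫ v.left) ((Category.assoc _ _ _).trans
        ((congrArg (wideCmp F Y g ≫ ·) hv0).trans (WidePullback.lift_base _ _ _ _))))
    have hw : w = 𝟙 _ := by
      refine h.hom_ext fun i => Over.OverMorphism.ext ?_
      show (wideCmp F Y g ≫ v.left) ≫ F.map (WidePullback.π g i.as) = 𝟙 _ ≫ F.map (WidePullback.π g i.as)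
      rw [Category.assoc, hv, WidePullback.lift_π, Category.id_comp]
    exact congrArg CommaMorphism.left hw
  · rw [Category.assoc, WidePullback.lift_π, hv, Category.id_comp]
  · rw [Category.assoc, WidePullback.lift_base, hv0, Category.id_comp]

end Wide

section Nerve

variable {A : Type*} [Category A] {B : Type*} [Category B] (F : A ⥤ B) [HasPullbacks A]
  [PreservesLimitsOfShape WalkingCospan F] (f : Arrow A)
  [∀ n : ℕ, HasWidePullback f.right (fun _ : Fin (n + 1) => f.left) fun _ => f.hom]
  [∀ n : ℕ, HasWidePullback (F.obj f.right) (fun _ : Fin (n + 1) => F.obj f.left) fun _ => F.map f.hom]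

/-- pullback preserving functors commute with Čech nerves -/
def nerveIso :
    haveI : ∀ n : ℕ, HasWidePullback (Arrow.mk (F.map f.hom)).right
        (fun _ : Fin (n + 1) => (Arrow.mk (F.map f.hom)).left) fun _ => (Arrow.mk (F.map f.hom)).hom :=
      fun n => inferInstanceAs (HasWidePullback (F.obj f.right) (fun _ : Fin (n + 1) => F.obj f.left) fun _ => F.map f.hom)
    f.cechNerve ⋙ F ≅ (Arrow.mk (F.map f.hom)).cechNerve :=
  NatIso.ofComponents
    (fun m => @asIso _ _ _ _ (wideCmp F (fun _ : Fin (m.unop.len + 1) => f.left) fun _ => f.hom)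
      (isIso_wideCmp F _ _))
    fun {m m'} s => by
      haveI : ∀ n : ℕ, HasWidePullback (Arrow.mk (F.map f.hom)).right
          (fun _ : Fin (n + 1) => (Arrow.mk (F.map f.hom)).left) fun _ => (Arrow.mk (F.map f.hom)).hom :=
        fun n => inferInstanceAs (HasWidePullback (F.obj f.right) (fun _ : Fin (n + 1) => F.obj f.left) fun _ => F.map f.hom)
      refine WidePullback.hom_ext _ _ _ (fun i => ?_) ?_
      · simp [wideCmp, Arrow.cechNerve, ← F.map_comp]
      · simp [wideCmp, Arrow.cechNerve, ← F.map_comp]

end Nerve

variable {C : Type u} [SmallCategory C] {J : GrothendieckTopology C} {D : Type u} [SmallCategory D]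
  {K : GrothendieckTopology D}

/-- free abelian sheaves are left adjoint to the underlying sheaf of sets -/
def frAdj : FR J ⊣ uSet J :=
  Adjunction.mkOfHomEquiv
    { homEquiv := fun L G => frHom L G
      homEquiv_naturality_left_symm := fun {L' L G} t φ => by
        apply (frHom L' G).injective
        rw [Equiv.apply_symm_apply, frHom_natK, Equiv.apply_symm_apply]
      homEquiv_naturality_right := fun φ g => frHom_comp φ g }

variable (u : C ⥤ D) [u.IsContinuous J K]

/-- inverse image of free sheaves -/
def frPullIso : FR J ⋙ u.sheafPullback AddCommGrpCat.{u} J K ≅ u.sheafPullback (Type u) J K ⋙ FR K :=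
  ((frAdj (J := J)).comp (u.sheafAdjunctionContinuous AddCommGrpCat.{u} J K)).leftAdjointUniq
    (((u.sheafAdjunctionContinuous (Type u) J K).comp (frAdj (J := K))).ofNatIsoRight
      (NatIso.ofComponents (fun _ => Iso.refl _) (fun _ => by simp; rfl)))

variable [PreservesLimitsOfShape WalkingCospan (u.sheafPullback (Type u) J K)]

open W7TotAcyc in
/-- inverse image of the free nerve -/
def nerveCxIso {L' L : Sheaf J (Type u)} (t : L' ⟶ L)
    [(u.sheafPullback AddCommGrpCat.{u} J K).Additive] :
    ((u.sheafPullback AddCommGrpCat.{u} J K).mapHomologicalComplex (ComplexShape.down ℕ)).obj (cP t) ≅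
      cP ((u.sheafPullback (Type u) J K).map t) :=
  afmIso (u.sheafPullback AddCommGrpCat.{u} J K) (freeNerve t) ≪≫
    (alternatingFaceMapComplex (Sheaf K AddCommGrpCat.{u})).mapIso
      (Functor.associator _ _ _ ≪≫ Functor.isoWhiskerLeft (Arrow.mk t).cechNerve (frPullIso u) ≪≫
        (Functor.associator _ _ _).symm ≪≫
        Functor.isoWhiskerRight (nerveIso (u.sheafPullback (Type u) J K) (Arrow.mk t)) (FR K))

open W7TotAcyc in
theorem totallyAcyclic_pushforward_of_pullbacks {F : Sheaf K AddCommGrpCat.{u}} (hF : CohCx.IsTotallyAcyclic F) :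
    CohCx.IsTotallyAcyclic ((u.sheafPushforwardContinuous AddCommGrpCat.{u} J K).obj F) := by
  refine totallyAcyclic_of_vanish fun L' L t ht n x hx => ?_
  let adj := u.sheafAdjunctionContinuous AddCommGrpCat.{u} J K
  haveI : (u.sheafPushforwardContinuous AddCommGrpCat.{u} J K).Additive :=
    { map_add := fun {M N f g} => Sheaf.hom_ext rfl }
  haveI := adj.left_adjoint_additive
  haveI : Epi ((u.sheafPullback (Type u) J K).map t) :=
    haveI := (u.sheafAdjunctionContinuous (Type u) J K).isLeftAdjoint
    inferInstance
  let e := nerveCxIso (K := K) u t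
  obtain ⟨y, hy⟩ := cex_of_totallyAcyclic ((u.sheafPullback (Type u) J K).map t) n F hF
    (e.inv.f (n + 1) ≫ (adj.homEquiv _ _).symm x) (by
      rw [← HomologicalComplex.Hom.comm_assoc]
      simp only [Functor.mapHomologicalComplex_obj_d]
      rw [← adj.homEquiv_naturality_left_symm, hx, adj.homEquiv_counit, Functor.map_zero, zero_comp, comp_zero])
  refine ⟨adj.homEquiv _ _ (e.hom.f n ≫ y), ?_⟩
  rw [← adj.homEquiv_naturality_left]
  apply (adj.homEquiv _ _).symm.injective
  rw [Equiv.symm_apply_apply]
  have hc : e.hom.f (n + 1) ≫ (cP ((u.sheafPullback (Type u) J K).map t)).d (n + 1) n =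
      (u.sheafPullback AddCommGrpCat.{u} J K).map ((cP t).d (n + 1) n) ≫ e.hom.f n := e.hom.comm (n + 1) n
  rw [← Category.assoc, ← hc, Category.assoc, hy, ← Category.assoc, ← HomologicalComplex.comp_f,
    e.hom_inv_id, HomologicalComplex.id_f]
  exact Category.id_comp _

end Groth.Agent.SiteCoh
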