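import Groth.Agent.SiteCoh.NerveExtra
import Groth.Agent.SiteCoh.TotAcyclic
import Mathlib.CategoryTheory.Sites.PreservesSheafification
import Mathlib.CategoryTheory.Sites.EpiMono
import Mathlib.Algebra.Homology.QuasiIso
import Mathlib.AlgebraicTopology.AlternatingFaceMapComplex
import Mathlib.CategoryTheory.Sites.LocallyBijective

/-!
The free abelian Čech nerve of an epimorphism of sheaves of sets is a resolution.
-/

universe u

open CategoryTheory Category Limits Opposite AlgebraicTopology Simplicial

namespace Groth.Agent.SiteCoh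

section Additive

variable {A : Type*} [Category A] [Abelian A] {B : Type*} [Category B] [Abelian B] (G : A ⥤ B) [G.Additive]

/-- An additive functor commutes with alternating face map complexes. -/
noncomputable def afmIso (X : SimplicialObject.Augmented A) :
    (G.mapHomologicalComplex (ComplexShape.down ℕ)).obj
        (AlternatingFaceMapComplex.obj (SimplicialObject.Augmented.drop.obj X)) ≅
      AlternatingFaceMapComplex.obj
        (SimplicialObject.Augmented.drop.obj (((SimplicialObject.Augmented.whiskering A B).obj G).obj X)) :=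
  HomologicalComplex.Hom.isoOfComponents (fun _ => Iso.refl _) (by
    intro i j hij
    obtain rfl : j + 1 = i := hij
    simp [AlternatingFaceMapComplex.obj, AlternatingFaceMapComplex.objD, G.map_sum, G.map_zsmul,
      SimplicialObject.δ]
    exact (Category.id_comp _).trans (Category.comp_id _).symm)

lemma eps_map (X : SimplicialObject.Augmented A) :
    (afmIso G X).hom ≫ (AlternatingFaceMapComplex.ε (C := B)).app
        (((SimplicialObject.Augmented.whiskering A B).obj G).obj X) =
      (G.mapHomologicalComplex _).map ((AlternatingFaceMapComplex.ε (C := A)).app X) ≫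
        (HomologicalComplex.singleMapHomologicalComplex G (ComplexShape.down ℕ) 0).hom.app
          (SimplicialObject.Augmented.point.obj X) := by
  refine HomologicalComplex.to_single_hom_ext ?_
  simp [afmIso, HomologicalComplex.singleMapHomologicalComplex_hom_app_self]
  refine (Category.id_comp _).trans ?_
  simp [SimplicialObject.Augmented.whiskering, SimplicialObject.Augmented.whiskeringObj]
  exact (Category.comp_id _).symm

lemma quasiIso_eps_iff (X : SimplicialObject.Augmented A) :
    QuasiIso ((AlternatingFaceMapComplex.ε (C := B)).app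
        (((SimplicialObject.Augmented.whiskering A B).obj G).obj X)) ↔
      QuasiIso ((G.mapHomologicalComplex _).map ((AlternatingFaceMapComplex.ε (C := A)).app X)) := by
  rw [← quasiIso_iff_comp_left (afmIso G X).hom, eps_map]
  exact quasiIso_iff_comp_right ((G.mapHomologicalComplex _).map ((AlternatingFaceMapComplex.ε (C := A)).app X))
    ((HomologicalComplex.singleMapHomologicalComplex G (ComplexShape.down ℕ) 0).hom.app
          (SimplicialObject.Augmented.point.obj X))

end Additive

lemma quasiIso_of_evaluation {D : Type*} [Category D] {B : Type*} [Category B] [Abelian B]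
    {ι : Type*} {c : ComplexShape ι} {K L : HomologicalComplex (D ⥤ B) c} (φ : K ⟶ L)
    (h : ∀ U, QuasiIso ((((evaluation D B).obj U).mapHomologicalComplex c).map φ)) : QuasiIso φ := by
  rw [quasiIso_iff]
  intro i
  rw [quasiIsoAt_iff, ShortComplex.quasiIso_iff]
  let ψ := (HomologicalComplex.shortComplexFunctor (D ⥤ B) c i).map φ
  have : ∀ U, IsIso ((ShortComplex.homologyMap ψ).app U) := fun U => by
    let ev := (evaluation D B).obj U
    have h' := (h U).quasiIsoAt i
    rw [quasiIsoAt_iff, ShortComplex.quasiIso_iff] at h'
    have e := ShortComplex.mapHomologyIso_hom_naturality (φ := ψ) (F := ev)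
    have : IsIso (ShortComplex.homologyMap (ev.mapShortComplex.map ψ)) := h'
    have : IsIso ((((HomologicalComplex.shortComplexFunctor (D ⥤ B) c i).obj K).mapHomologyIso ev).hom ≫
        ev.map (ShortComplex.homologyMap ψ)) := by
      rw [← e]
      exact IsIso.comp_isIso' this inferInstance
    exact IsIso.of_isIso_comp_left
      (((HomologicalComplex.shortComplexFunctor (D ⥤ B) c i).obj K).mapHomologyIso ev).hom (ev.map (ShortComplex.homologyMap ψ))
  exact NatIso.isIso_of_isIso_app (ShortComplex.homologyMap ψ)

variable {C : Type u} [SmallCategory C] {J : GrothendieckTopology C} (f : Arrow (Sheaf J (Type u)))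

/-- The image presheaf. -/
def imgPre : Cᵒᵖ ⥤ Type u where
  obj U := {b : f.right.obj.obj U // ∃ x, f.hom.hom.app U x = b}
  map g := ↾fun b => ⟨f.right.obj.map g b.1, f.left.obj.map g b.2.choose, by
    rw [NatTrans.naturality_apply, b.2.choose_spec]⟩

/-- The inclusion of the image. -/
def imgIncl : imgPre f ⟶ f.right.obj where
  app U := ↾fun b => b.1

/-- The Čech nerve in presheaves, augmented to the image. -/
noncomputable def setAug : SimplicialObject.Augmented (Cᵒᵖ ⥤ Type u) where
  left := f.cechNerve ⋙ sheafToPresheaf J (Type u)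
  right := imgPre f
  hom :=
    { app := fun n =>
        { app := fun U => ↾fun z => (⟨(WidePullback.base (fun _ : Fin (n.unop.len + 1) => f.hom)).hom.app U z,
            (WidePullback.π (fun _ : Fin (n.unop.len + 1) => f.hom) 0).hom.app U z,
            ConcreteCategory.congr_hom (NatTrans.congr_app (congr_arg (fun m => m.hom)
              (WidePullback.π_arrow (fun _ : Fin (n.unop.len + 1) => f.hom) 0)) U) z⟩ : (imgPre f).obj U)
          naturality := fun U V g => by
            ext z
            refine Subtype.ext ?_
            exact NatTrans.naturality_apply (φ := (WidePullback.base (fun _ : Fin (n.unop.len + 1) => f.hom)).hom) g z }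
      naturality := fun m n g => by
        ext U z
        exact Subtype.ext (ConcreteCategory.congr_hom (NatTrans.congr_app (congr_arg (fun m => m.hom)
          (WidePullback.lift_base (arrows := fun _ : Fin (n.unop.len + 1) => f.hom) (WidePullback.base _)
            (fun i => WidePullback.π _ (g.unop.toOrderHom i)) (by simp))) U) z) }

/-- The sheaf represented by an object. -/
noncomputable abbrev repSheaf (J : GrothendieckTopology C) (U : C) : Sheaf J (Type u) :=
  (presheafToSheaf J (Type u)).obj (yoneda.obj U)

/-- Maps out of the represented sheaf are sections. -/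
noncomputable def repEquiv (U : C) (F : Sheaf J (Type u)) : (repSheaf J U ⟶ F) ≃ F.obj.obj (op U) :=
  ((sheafificationAdjunction J (Type u)).homEquiv (yoneda.obj U) F).trans yonedaEquiv

lemma repEquiv_comp (U : C) {F G : Sheaf J (Type u)} (φ : repSheaf J U ⟶ F) (g : F ⟶ G) :
    repEquiv U G (φ ≫ g) = g.hom.app (op U) (repEquiv U F φ) :=
  (congr_arg yonedaEquiv ((sheafificationAdjunction J (Type u)).homEquiv_naturality_right φ g)).trans
    (yonedaEquiv_comp _ _)

/-- Maps out of the represented sheaf are sections, naturally. -/
noncomputable def repIso (U : C) :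
    coyoneda.obj (op (repSheaf J U)) ≅ sheafToPresheaf J (Type u) ⋙ (evaluation Cᵒᵖ (Type u)).obj (op U) :=
  NatIso.ofComponents (fun F => (repEquiv U F).toIso) (fun {F G} g => by
    ext φ
    exact repEquiv_comp U φ g)

/-- Points of the image. -/
noncomputable def imgPoint (U : C) :
    {b : repSheaf J U ⟶ f.right // ∃ x, x ≫ f.hom = b} ≃ (imgPre f).obj (op U) :=
  Equiv.subtypeEquiv (repEquiv U f.right) fun b => by
    constructor
    · rintro ⟨x, rfl⟩
      exact ⟨repEquiv U _ x, (repEquiv_comp U x f.hom).symm⟩
    · rintro ⟨x, hx⟩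
      obtain ⟨φ, rfl⟩ := (repEquiv U f.left).surjective x
      exact ⟨φ, (repEquiv U f.right).injective ((repEquiv_comp U φ f.hom).trans hx)⟩

/-- Points of the presheaf nerve. -/
noncomputable def setAugPoints (U : C) :
    imgAug f (repSheaf J U) ≅
      ((SimplicialObject.Augmented.whiskering _ _).obj ((evaluation Cᵒᵖ (Type u)).obj (op U))).obj (setAug f) :=
  Comma.isoMk (Functor.isoWhiskerLeft f.cechNerve (repIso U)) (imgPoint f U).toIso (by
    ext n z
    exact Subtype.ext (repEquiv_comp U z (WidePullback.base (fun _ : Fin (n.unop.len + 1) => f.hom))).symm)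

/-- The free Čech nerve in presheaves, augmented to the free presheaf on the image. -/
noncomputable abbrev freeAug : SimplicialObject.Augmented (Cᵒᵖ ⥤ AddCommGrpCat.{u}) :=
  ((SimplicialObject.Augmented.whiskering _ _).obj
    ((Functor.whiskeringRight Cᵒᵖ (Type u) AddCommGrpCat.{u}).obj AddCommGrpCat.free.{u})).obj (setAug f)

lemma quasiIso_eps_freeAug :
    QuasiIso ((AlternatingFaceMapComplex.ε (C := Cᵒᵖ ⥤ AddCommGrpCat.{u})).app (freeAug f)) := by
  refine quasiIso_of_evaluation _ fun U => ?_
  rw [← quasiIso_eps_iff]
  let ed : SimplicialObject.Augmented.ExtraDegeneracy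
      (((SimplicialObject.Augmented.whiskering _ _).obj ((evaluation Cᵒᵖ AddCommGrpCat.{u}).obj U)).obj (freeAug f)) :=
    ((imgAugExtra f (repSheaf J U.unop)).ofIso (setAugPoints f U.unop)).map AddCommGrpCat.free.{u}
  exact inferInstanceAs (QuasiIso ed.homotopyEquiv.hom)

lemma bijective_precomp_imgIncl [Epi f.hom] (G : Sheaf J AddCommGrpCat.{u}) :
    Function.Bijective fun t : f.right.obj ⟶ G.obj ⋙ forget AddCommGrpCat.{u} => imgIncl f ≫ t := by
  have hl : Sheaf.IsLocallySurjective f.hom := (Sheaf.isLocallySurjective_iff_epi f.hom).mpr inferInstance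
  have : Presheaf.IsLocallyInjective J (imgIncl f) :=
    ⟨fun {U} a b h => by
      obtain rfl : a = b := Subtype.ext h
      rw [Presheaf.equalizerSieve_self_eq_top]
      exact J.top_mem _⟩
  have : Presheaf.IsLocallySurjective J (imgIncl f) :=
    ⟨fun {U} s => J.superset_covering
      (fun W g hg => by obtain ⟨x, hx⟩ := hg; exact ⟨⟨_, x, hx⟩, rfl⟩) (Presheaf.imageSieve_mem J f.hom.hom (U := op U) s)⟩
  exact J.W_of_isLocallyBijective (imgIncl f) _ ((sheafCompose J (forget AddCommGrpCat.{u})).obj G).property

lemma isIso_free_of_bijective {P Q : Cᵒᵖ ⥤ Type u} (t : P ⟶ Q)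
    (ht : ∀ G : Sheaf J AddCommGrpCat.{u}, Function.Bijective fun s : Q ⟶ G.obj ⋙ forget AddCommGrpCat.{u} => t ≫ s) :
    IsIso ((presheafToSheaf J AddCommGrpCat.{u}).map (Functor.whiskerRight t AddCommGrpCat.free.{u})) := by
  refine isIso_of_coyoneda_map_bijective _ fun G => ?_
  refine ((Equiv.comp_bijective _ (freeHom J P G)).mp ?_)
  refine ((Equiv.bijective_comp (freeHom J Q G).symm _).mp ?_)
  convert ht G using 1
  funext s
  simp only [Function.comp_apply]
  rw [freeHom_natK, Equiv.apply_symm_apply]

theorem quasiIso_freeNerve {K' K : Sheaf J (Type u)} (f : K' ⟶ K) [Epi f] :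
    QuasiIso ((AlternatingFaceMapComplex.ε (C := Sheaf J AddCommGrpCat.{u})).app
      (((SimplicialObject.Augmented.whiskering _ _).obj (Sheaf.composeAndSheafify J AddCommGrpCat.free.{u})).obj
        (Arrow.mk f).augmentedCechNerve)) := by
  let G := presheafToSheaf J AddCommGrpCat.{u}
  let T := ((SimplicialObject.Augmented.whiskering _ _).obj (Sheaf.composeAndSheafify J AddCommGrpCat.free.{u})).obj
    (Arrow.mk f).augmentedCechNerve
  let S := ((SimplicialObject.Augmented.whiskering _ _).obj G).obj (freeAug (Arrow.mk f))
  have : Epi (Arrow.mk f).hom := ‹Epi f›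
  have hr := isIso_free_of_bijective (imgIncl (Arrow.mk f)) (bijective_precomp_imgIncl (Arrow.mk f))
  let m : S ≅ T := Comma.isoMk (Iso.refl _)
    (@asIso _ _ _ _ (G.map (Functor.whiskerRight (imgIncl (Arrow.mk f)) AddCommGrpCat.free.{u})) hr) (by
      ext n : 2
      refine congr_arg (fun m => m.hom) (Eq.trans ?_ (G.map_comp _ _))
      have he : (setAug (Arrow.mk f)).hom.app n ≫ imgIncl (Arrow.mk f) =
          ((Arrow.mk f).augmentedCechNerve.hom.app n).hom := by
        ext U z
        rfl
      refine Eq.trans ?_ (congr_arg G.map ((congr_arg (fun t => Functor.whiskerRight t AddCommGrpCat.free.{u}) he).symm.trans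
        ((Functor.whiskerRight_comp _ _ _).trans rfl)))
      simp
      rfl)
  have hS : QuasiIso ((AlternatingFaceMapComplex.ε (C := Sheaf J AddCommGrpCat.{u})).app S) := by
    rw [quasiIso_eps_iff]
    have := quasiIso_eps_freeAug (Arrow.mk f)
    infer_instance
  have hn := (AlternatingFaceMapComplex.ε (C := Sheaf J AddCommGrpCat.{u})).naturality m.hom
  have : QuasiIso ((SimplicialObject.Augmented.drop ⋙ alternatingFaceMapComplex (Sheaf J AddCommGrpCat.{u})).map m.hom ≫
      (AlternatingFaceMapComplex.ε (C := Sheaf J AddCommGrpCat.{u})).app T) := by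
    rw [hn]; infer_instance
  exact quasiIso_of_comp_left ((SimplicialObject.Augmented.drop ⋙ alternatingFaceMapComplex (Sheaf J AddCommGrpCat.{u})).map m.hom) _

end Groth.Agent.SiteCoh
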