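import Groth.Agent.SiteCoh.Basic
import Mathlib.CategoryTheory.Sites.EpiMono
import Mathlib.CategoryTheory.Abelian.Exact
import Mathlib.CategoryTheory.Limits.Preserves.FunctorCategory
import Mathlib.Algebra.Homology.ShortComplex.ExactFunctor

/-!
Weakly contractible objects.
-/

universe u

open CategoryTheory Category Limits Opposite

namespace Groth.Agent.SiteCoh

variable {C : Type u} [SmallCategory C] {J : GrothendieckTopology C} {U : C}

lemma surjective_of_weaklyContractible (hU : CohSite.IsWeaklyContractible J U) {F G : Sheaf J AddCommGrpCat.{u}}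
    (g : F ⟶ G) [Epi g] : Function.Surjective (g.hom.app (op U)) := by
  have : Sheaf.IsLocallySurjective g := (Sheaf.isLocallySurjective_iff_epi' _ g).mpr inferInstance
  have h : Presheaf.IsLocallySurjective J (Functor.whiskerRight g.hom (forget AddCommGrpCat.{u})) :=
    (Presheaf.isLocallySurjective_iff_whisker_forget J g.hom).1 this
  have : Epi ((sheafCompose J (forget AddCommGrpCat.{u})).map g) :=
    (Sheaf.isLocallySurjective_iff_epi _).mp h
  exact hU _ _ _ this

theorem preservesFiniteColimits_sections (hU : CohSite.IsWeaklyContractible J U) :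
    PreservesFiniteColimits
      (sheafToPresheaf J AddCommGrpCat.{u} ⋙ (evaluation Cᵒᵖ AddCommGrpCat.{u}).obj (op U)) := by
  let R := sheafToPresheaf J AddCommGrpCat.{u} ⋙ (evaluation Cᵒᵖ AddCommGrpCat.{u}).obj (op U)
  have : R.Additive := { }
  have : PreservesFiniteLimits R := inferInstance
  have : R.PreservesEpimorphisms := ⟨fun {F G} g _ =>
    (AddCommGrpCat.epi_iff_surjective _).mpr (surjective_of_weaklyContractible hU g)⟩
  have := Functor.preservesHomology_of_preservesEpis_and_kernels R
  exact Functor.preservesFiniteColimits_of_preservesHomology R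

theorem acyclic_of_weaklyContractible (hU : CohSite.IsWeaklyContractible J U) (F : Sheaf J AddCommGrpCat.{u})
    (p : ℕ) : Subsingleton (CohSite.HU F (p + 1) U) :=
  acyclic_of_class {U} (fun _ => True)
    (fun G _ V hV => by
      obtain rfl : V = U := hV
      have := (embedSeq_shortExact G).epi_g
      exact surjective_of_weaklyContractible hU (embedSeq G).g)
    (fun _ _ => trivial) F trivial U rfl p

end Groth.Agent.SiteCoh
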