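import Groth.Agent.SiteCoh.Basic
import Mathlib.Algebra.Homology.DerivedCategory.Ext.ExtClass

/-!
First Ext groups into a product.
-/

universe w v u

open CategoryTheory Category Limits Opposite Abelian

namespace Groth.Agent.SiteCoh

variable {A : Type u} [Category.{v} A] [Abelian A] [HasExt.{w} A] [EnoughInjectives A]

lemma injective_h1_pi {I : Type*} (F : I → A) [HasProduct F]
    [HasProduct fun i => Injective.under (F i)] [HasProduct fun i => cokernel (Injective.ι (F i))] (P : A) :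
    Function.Injective (fun (x : Ext P (∏ᶜ F) 1) (i : I) => x.comp (Ext.mk₀ (Pi.π F i)) (add_zero 1)) := by
  intro x x' hxx
  rw [← sub_eq_zero]
  have hz : ∀ i, (x - x').comp (Ext.mk₀ (Pi.π F i)) (add_zero 1) = 0 := fun i => by
    rw [sub_eq_add_neg, Ext.add_comp, Ext.neg_comp, ← sub_eq_add_neg, sub_eq_zero]
    exact congr_fun hxx i
  generalize x - x' = y at hz ⊢
  let f : ∏ᶜ F ⟶ ∏ᶜ fun i => Injective.under (F i) := Limits.Pi.map fun i => Injective.ι (F i)
  let q : (∏ᶜ fun i => Injective.under (F i)) ⟶ ∏ᶜ fun i => cokernel (Injective.ι (F i)) :=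
    Limits.Pi.map fun i => cokernel.π (Injective.ι (F i))
  have hfq : f ≫ q = 0 := Pi.hom_ext _ _ fun i => by simp [f, q]
  have : Mono f := Limits.Pi.map_mono _
  have hK : IsLimit (KernelFork.ofι f hfq) := by
    refine KernelFork.IsLimit.ofι' _ _ fun {W} k hk => ⟨Pi.lift fun i =>
      (embedSeq_shortExact (F i)).fIsKernel.lift (KernelFork.ofι (k ≫ Pi.π _ i) ?_), ?_⟩
    · have h := hk =≫ Pi.π _ i
      simp only [q, Category.assoc, Pi.map_π, zero_comp] at h
      simpa using h
    · refine Pi.hom_ext _ _ fun i => ?_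
      simp only [f, Category.assoc, Pi.map_π, Pi.lift_π_assoc]
      exact (embedSeq_shortExact (F i)).fIsKernel.fac _ WalkingParallelPair.zero
  have hex : (ShortComplex.mk f q hfq).Exact := ShortComplex.exact_of_f_is_kernel _ hK
  let T : ShortComplex A := ShortComplex.mk f (cokernel.π f) (cokernel.condition f)
  have hT : T.ShortExact := { exact := ShortComplex.exact_of_g_is_cokernel _ (cokernelIsCokernel _) }
  have hm : Mono (cokernel.desc f q hfq) := (ShortComplex.mk f q hfq).exact_iff_mono_cokernel_desc.mp hex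
  have : Injective T.X₂ := inferInstanceAs (Injective (∏ᶜ fun i => Injective.under (F i)))
  obtain ⟨x₃, rfl⟩ := Ext.covariant_sequence_exact₁ P hT y (Subsingleton.elim _ _) (zero_add 1)
  obtain ⟨φ, rfl⟩ := (Ext.mk₀_bijective _ _).2 x₃
  let τ : ∀ i, T ⟶ embedSeq (F i) := fun i =>
    { τ₁ := Pi.π F i
      τ₂ := Pi.π _ i
      τ₃ := cokernel.desc f q hfq ≫ Pi.π _ i
      comm₁₂ := by simp [T, f]
      comm₂₃ := by
        change Pi.π _ i ≫ cokernel.π _ = cokernel.π f ≫ cokernel.desc f q hfq ≫ Pi.π _ i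
        rw [cokernel.π_desc_assoc]; simp [q] }
  have hlift : ∀ i, ∃ ψ : P ⟶ Injective.under (F i), ψ ≫ (embedSeq (F i)).g = φ ≫ (τ i).τ₃ := by
    intro i
    have h := hz i
    rw [Ext.comp_assoc _ _ _ (zero_add 1) (add_zero 1) (by omega),
      show hT.extClass.comp (Ext.mk₀ (Pi.π F i)) (add_zero 1) = _ from
        ShortComplex.ShortExact.extClass_naturality hT (embedSeq_shortExact (F i)) (τ i),
      ← Ext.comp_assoc _ _ _ (zero_add 0) (zero_add 1) (by omega), Ext.mk₀_comp_mk₀] at h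
    obtain ⟨x₂, hx₂⟩ := Ext.covariant_sequence_exact₃ P (embedSeq_shortExact (F i)) _ (zero_add 1) h
    obtain ⟨ψ, rfl⟩ := (Ext.mk₀_bijective _ _).2 x₂
    exact ⟨ψ, (Ext.mk₀_bijective _ _).1 (by rw [← hx₂, Ext.mk₀_comp_mk₀])⟩
  choose ψ hψ using hlift
  have hφ : φ = Pi.lift ψ ≫ T.g := by
    rw [← cancel_mono (cokernel.desc f q hfq)]
    refine Pi.hom_ext _ _ fun i => ?_
    simp only [T, Category.assoc, cokernel.π_desc_assoc, q, Pi.map_π, Pi.lift_π_assoc]
    exact (hψ i).symm
  rw [hφ, ← Ext.mk₀_comp_mk₀, Ext.comp_assoc _ _ _ (zero_add 0) (zero_add 1) (by omega),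
    hT.comp_extClass, Ext.comp_zero]

end Groth.Agent.SiteCoh
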