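import Groth.Agent.SiteCoh.Basic
import Mathlib.Algebra.Group.Subgroup.Lattice
import Mathlib.Order.Zorn
import Mathlib.CategoryTheory.Preadditive.Injective.Basic

/-!
A Baer criterion for injective abelian sheaves.
-/

universe u

open CategoryTheory Category Limits Opposite

namespace Groth.Agent.SiteCoh

variable {C : Type u} [SmallCategory C] {J : GrothendieckTopology C}

/-- The values of a subpresheaf of groups as a presheaf. -/
def subPre (P : Cᵒᵖ ⥤ AddCommGrpCat.{u}) (T : ∀ U, AddSubgroup (P.obj U))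
    (hT : ∀ {U V : Cᵒᵖ} (g : U ⟶ V) (x : P.obj U), x ∈ T U → P.map g x ∈ T V) :
    Cᵒᵖ ⥤ AddCommGrpCat.{u} where
  obj U := AddCommGrpCat.of (T U)
  map g := AddCommGrpCat.ofHom (AddMonoidHom.mk' (fun x => ⟨P.map g x.1, hT g x.1 x.2⟩)
    fun x y => Subtype.ext (map_add (P.map g).hom x.1 y.1))
  map_id U := by ext x; exact ConcreteCategory.congr_hom (P.map_id U) x.1
  map_comp f g := by ext x; exact ConcreteCategory.congr_hom (P.map_comp f g) x.1

/-- A partially defined map between sheaves, extending a given one along a given map. -/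
structure PartMap {A B : Sheaf J AddCommGrpCat.{u}} (m : A ⟶ B) {I : Sheaf J AddCommGrpCat.{u}} (φ : A ⟶ I) where
  /-- the graph -/
  graph : ∀ U, AddSubgroup (B.obj.obj U × I.obj.obj U)
  stable : ∀ {U V : Cᵒᵖ} (g : U ⟶ V) (b : B.obj.obj U) (c : I.obj.obj U), (b, c) ∈ graph U →
    (B.obj.map g b, I.obj.map g c) ∈ graph V
  functional : ∀ (U : Cᵒᵖ) (c : I.obj.obj U), ((0 : B.obj.obj U), c) ∈ graph U → c = 0
  base : ∀ (U : Cᵒᵖ) (a : A.obj.obj U), (m.hom.app U a, φ.hom.app U a) ∈ graph U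

variable {A B : Sheaf J AddCommGrpCat.{u}} {m : A ⟶ B} {I : Sheaf J AddCommGrpCat.{u}} {φ : A ⟶ I}

instance : Preorder (PartMap m φ) := Preorder.lift fun P => P.graph

variable [Mono m]

/-- The initial partial map. -/
noncomputable def PartMap.init : PartMap m φ where
  graph U := ((m.hom.app U).hom.prod (φ.hom.app U).hom).range
  stable g b c h := by
    obtain ⟨a, ha⟩ := h
    refine ⟨A.obj.map g a, ?_⟩
    obtain ⟨rfl, rfl⟩ := Prod.mk.inj ha
    exact Prod.ext (NatTrans.naturality_apply m.hom g a) (NatTrans.naturality_apply φ.hom g a)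
  functional U c h := by
    obtain ⟨a, ha⟩ := h
    obtain ⟨ha1, rfl⟩ := Prod.mk.inj ha
    have : Mono m.hom := inferInstanceAs (Mono ((sheafToPresheaf J AddCommGrpCat.{u}).map m))
    have h0 : a = 0 := (AddCommGrpCat.mono_iff_injective (m.hom.app U)).mp inferInstance (ha1.trans (map_zero _).symm)
    rw [h0]; exact map_zero _
  base U a := ⟨a, rfl⟩

omit [Mono m] in
/-- The upper bound of a chain of partial maps. -/
lemma PartMap.chain_bound (c : Set (PartMap m φ)) (hc : IsChain (· ≤ ·) c) (hne : c.Nonempty) :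
    BddAbove c := by
  have : Nonempty c := hne.to_subtype
  have hd : ∀ U, Directed (· ≤ ·) fun P : c => P.1.graph U := fun U P Q => by
    rcases hc.total P.2 Q.2 with h | h
    · exact ⟨Q, h U, le_rfl⟩
    · exact ⟨P, le_rfl, h U⟩
  refine ⟨{ graph := fun U => ⨆ P : c, P.1.graph U, stable := ?_, functional := ?_, base := ?_ },
    fun P hP U => le_iSup (fun P : c => P.1.graph U) ⟨P, hP⟩⟩
  · intro U V g b x h
    obtain ⟨P, hP⟩ := (AddSubgroup.mem_iSup_of_directed (hd U)).mp h
    exact (AddSubgroup.mem_iSup_of_directed (hd V)).mpr ⟨P, P.1.stable g b x hP⟩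
  · intro U x h
    obtain ⟨P, hP⟩ := (AddSubgroup.mem_iSup_of_directed (hd U)).mp h
    exact P.1.functional U x hP
  · intro U a
    exact (AddSubgroup.mem_iSup_of_directed (hd U)).mpr ⟨⟨_, hne.some_mem⟩, hne.some.base U a⟩

omit [Mono m] in
lemma PartMap.unique (P : PartMap m φ) {U : Cᵒᵖ} {b : B.obj.obj U} {c c' : I.obj.obj U}
    (h : (b, c) ∈ P.graph U) (h' : (b, c') ∈ P.graph U) : c = c' :=
  sub_eq_zero.mp (P.functional U _ (by simpa using (P.graph U).sub_mem h h'))

omit [Mono m] in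
lemma PartMap.exists_larger (P : PartMap m φ)
    (h : ∀ (X : C) (S : Sheaf J AddCommGrpCat.{u}) (i : S ⟶ CohCx.freeSheaf J X) [Mono i] (φ : S ⟶ I),
      ∃ ψ : CohCx.freeSheaf J X ⟶ I, i ≫ ψ = φ)
    (X : C) (b : B.obj.obj (op X)) : ∃ Q : PartMap m φ, P ≤ Q ∧ ∃ c, (b, c) ∈ Q.graph (op X) := by
  let s := (secEquiv X B).symm b
  let W := (CohCx.freeSheaf J X).obj
  let T : ∀ U, AddSubgroup (W.obj U) := fun U =>
    ((P.graph U).map (AddMonoidHom.fst _ _)).comap (s.hom.app U).hom
  let S₀ := subPre W T (fun {U V} g x hx => by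
    obtain ⟨⟨b', c'⟩, hb, he⟩ := hx
    exact ⟨(B.obj.map g b', I.obj.map g c'), P.stable g b' c' hb,
      (congr_arg (B.obj.map g) he).trans (NatTrans.naturality_apply s.hom g x).symm⟩)
  have hex : ∀ (U : Cᵒᵖ) (x : T U), ∃ c, (s.hom.app U x.1, c) ∈ P.graph U := fun U x => by
    obtain ⟨⟨b', c'⟩, hb, he⟩ := x.2
    obtain rfl : b' = s.hom.app U x.1 := he
    exact ⟨c', hb⟩
  choose val hval using hex
  let φ₀ : S₀ ⟶ I.obj :=
    { app := fun U => AddCommGrpCat.ofHom (AddMonoidHom.mk' (val U) fun x y => by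
        refine P.unique (hval U (x + y)) ?_
        have e : s.hom.app U (x + y : T U).1 = s.hom.app U x.1 + s.hom.app U y.1 := map_add (s.hom.app U).hom x.1 y.1
        rw [e]; exact (P.graph U).add_mem (hval U x) (hval U y))
      naturality := fun U V g => by
        ext x
        have h1 := P.stable g _ _ (hval U x)
        rw [← NatTrans.naturality_apply s.hom g x.1] at h1
        exact P.unique (hval V _) h1 }
  let ι₀ : S₀ ⟶ W := { app := fun U => AddCommGrpCat.ofHom (T U).subtype }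
  have : Mono ι₀ := by
    have : ∀ U, Mono (ι₀.app U) := fun U => (AddCommGrpCat.mono_iff_injective _).mpr Subtype.val_injective
    exact NatTrans.mono_of_mono_app _
  let i : (presheafToSheaf J AddCommGrpCat.{u}).obj S₀ ⟶ CohCx.freeSheaf J X :=
    (presheafToSheaf J AddCommGrpCat.{u}).map ι₀ ≫
      (sheafificationAdjunction J AddCommGrpCat.{u}).counit.app (CohCx.freeSheaf J X)
  have : Mono i := mono_comp _ _
  obtain ⟨χ, hχ⟩ := h X _ i (((sheafificationAdjunction J AddCommGrpCat.{u}).homEquiv _ _).symm φ₀)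
  have hχ' : ι₀ ≫ χ.hom = φ₀ := by
    have := congr_arg ((sheafificationAdjunction J AddCommGrpCat.{u}).homEquiv _ _) hχ
    rw [Equiv.apply_symm_apply] at this
    refine Eq.trans ?_ this
    apply ((sheafificationAdjunction J AddCommGrpCat.{u}).homEquiv _ _).symm.injective
    rw [Equiv.symm_apply_apply, Adjunction.homEquiv_counit]
    simp only [i, Category.assoc, Functor.map_comp]
    refine congr_arg ((presheafToSheaf J AddCommGrpCat.{u}).map ι₀ ≫ ·) ?_
    exact (sheafificationAdjunction J AddCommGrpCat.{u}).counit.naturality χ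
  refine ⟨{ graph := fun U => P.graph U ⊔ ((s.hom.app U).hom.prod (χ.hom.app U).hom).range
            stable := ?_, functional := ?_, base := fun U a => AddSubgroup.mem_sup_left (P.base U a) },
    fun U => le_sup_left, χ.hom.app (op X) (gen J X), AddSubgroup.mem_sup_right ⟨gen J X, ?_⟩⟩
  · intro U V g b' c' hbc
    obtain ⟨⟨b₁, c₁⟩, h₁, ⟨b₂, c₂⟩, ⟨x, hx⟩, he⟩ := AddSubgroup.mem_sup.mp hbc
    obtain ⟨rfl, rfl⟩ := Prod.mk.inj hx
    obtain ⟨rfl, rfl⟩ := Prod.mk.inj he
    refine AddSubgroup.mem_sup.mpr ⟨_, P.stable g b₁ c₁ h₁, _, ⟨W.map g x, rfl⟩, Prod.ext ?_ ?_⟩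
    · exact ((congr_arg (B.obj.map g b₁ + ·) (NatTrans.naturality_apply s.hom g x)).trans
        (map_add (B.obj.map g).hom b₁ (s.hom.app U x)).symm)
    · exact ((congr_arg (I.obj.map g c₁ + ·) (NatTrans.naturality_apply χ.hom g x)).trans
        (map_add (I.obj.map g).hom c₁ (χ.hom.app U x)).symm)
  · intro U c' hc
    obtain ⟨⟨b₁, c₁⟩, h₁, ⟨b₂, c₂⟩, ⟨x, hx⟩, he⟩ := AddSubgroup.mem_sup.mp hc
    obtain ⟨rfl, rfl⟩ := Prod.mk.inj hx
    obtain ⟨he1, rfl⟩ := Prod.mk.inj he
    obtain rfl : b₁ = -(s.hom.app U x) := eq_neg_of_add_eq_zero_left he1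
    have hneg := (P.graph U).neg_mem h₁
    rw [Prod.neg_mk, neg_neg] at hneg
    have hxT : x ∈ T U := ⟨_, hneg, rfl⟩
    have h2 : χ.hom.app U x = -c₁ :=
      (ConcreteCategory.congr_hom (NatTrans.congr_app hχ' U) ⟨x, hxT⟩).trans (P.unique (hval U ⟨x, hxT⟩) hneg)
    exact (congr_arg (c₁ + ·) h2).trans (add_neg_cancel c₁)
  · exact Prod.ext ((secEquiv X B).apply_symm_apply b) rfl

theorem injective_of_baer (I : Sheaf J AddCommGrpCat.{u})
    (h : ∀ (X : C) (S : Sheaf J AddCommGrpCat.{u}) (i : S ⟶ CohCx.freeSheaf J X) [Mono i] (φ : S ⟶ I),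
      ∃ ψ : CohCx.freeSheaf J X ⟶ I, i ≫ ψ = φ) : Injective I where
  factors {A B} φ m _ := by
    have : Nonempty (PartMap m φ) := ⟨PartMap.init⟩
    obtain ⟨P, hP⟩ := zorn_le_nonempty (α := PartMap m φ) PartMap.chain_bound
    have htot : ∀ (U : Cᵒᵖ) (b : B.obj.obj U), ∃ c, (b, c) ∈ P.graph U := fun U b => by
      obtain ⟨Q, hQ, c, hc⟩ := P.exists_larger h U.unop b
      exact ⟨c, hP hQ U hc⟩
    choose val hval using htot
    refine ⟨⟨{ app := fun U => AddCommGrpCat.ofHom (AddMonoidHom.mk' (val U) fun x y =>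
                P.unique (hval U (x + y)) ((P.graph U).add_mem (hval U x) (hval U y)))
               naturality := fun U V g => ?_ }⟩, ?_⟩
    · ext x
      exact P.unique (hval V _) (P.stable g _ _ (hval U x))
    · ext U a
      exact P.unique (hval U _) (P.base U a)

end Groth.Agent.SiteCoh
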