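import Mathlib.AlgebraicTopology.ExtraDegeneracy
import Mathlib.CategoryTheory.Limits.Shapes.WidePullbacks
import Mathlib.CategoryTheory.Yoneda

/-!
Points of a Čech nerve, augmented to the image, have an extra degeneracy.
-/

universe v u

open CategoryTheory Category Limits Opposite Simplicial

namespace Groth.Agent.SiteCoh

variable {E : Type u} [Category.{v} E] (f : Arrow E)
  [∀ n : ℕ, HasWidePullback f.right (fun _ : Fin (n + 1) => f.left) fun _ => f.hom] (P : E)

/-- The `P`-points of the Čech nerve, augmented to the image of `f` on `P`-points. -/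
noncomputable def imgAug : SimplicialObject.Augmented (Type v) where
  left := f.cechNerve ⋙ coyoneda.obj (op P)
  right := {b : P ⟶ f.right // ∃ x, x ≫ f.hom = b}
  hom :=
    { app := fun n => ↾fun (z : P ⟶ f.cechNerve.obj n) =>
        ⟨z ≫ WidePullback.base _, z ≫ WidePullback.π _ 0, by
          exact (Category.assoc _ _ _).trans (congr_arg (z ≫ ·) (WidePullback.π_arrow _ _))⟩
      naturality := fun m n g => by
        ext z
        apply Subtype.ext
        change (z ≫ WidePullback.lift _ _ _) ≫ WidePullback.base _ = z ≫ WidePullback.base _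
        rw [Category.assoc, WidePullback.lift_base] }

/-- A chosen preimage of a point of the image. -/
noncomputable def imgSec (b : {b : P ⟶ f.right // ∃ x, x ≫ f.hom = b}) : P ⟶ f.left := b.2.choose

/-- The image point under a point of the nerve. -/
noncomputable def imgBase {m : SimplexCategoryᵒᵖ} (z : P ⟶ f.cechNerve.obj m) :
    {b : P ⟶ f.right // ∃ x, x ≫ f.hom = b} :=
  (imgAug f P).hom.app m z

/-- The extra degeneracy on points. -/
noncomputable def imgAugExtra : SimplicialObject.Augmented.ExtraDegeneracy (imgAug f P) where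
  s' := ↾fun (b : {b : P ⟶ f.right // ∃ x, x ≫ f.hom = b}) =>
    (WidePullback.lift (arrows := fun _ : Fin 1 => f.hom) b.1 (fun _ => imgSec f P b) (fun _ => b.2.choose_spec) :
      P ⟶ f.cechNerve.obj (op ⦋0⦌))
  s n := ↾fun (z : P ⟶ f.cechNerve.obj (op ⦋n⦌)) =>
    (WidePullback.lift (arrows := fun _ : Fin (n + 2) => f.hom) (z ≫ WidePullback.base _)
      (Fin.cases (imgSec f P (imgBase f P z))
        fun i => z ≫ WidePullback.π _ i)
      (Fin.cases (imgBase f P z).2.choose_spec
        fun i => by simp) :
      P ⟶ f.cechNerve.obj (op ⦋n + 1⦌))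
  s'_comp_ε := by
    ext b
    exact Subtype.ext (WidePullback.lift_base _ _ _ _)
  s₀_comp_δ₁ := by
    ext z
    refine (?_ : WidePullback.lift (arrows := fun _ : Fin 2 => f.hom) _ _ _ ≫ _ = (_ : P ⟶ f.cechNerve.obj (op ⦋0⦌)))
    refine WidePullback.hom_ext _ _ _ (fun j => ?_) ?_
    · fin_cases j
      erw [Category.assoc, WidePullback.lift_π, WidePullback.lift_π, WidePullback.lift_π]
      rfl
    · erw [Category.assoc, WidePullback.lift_base, WidePullback.lift_base, WidePullback.lift_base]
      rfl
  s_comp_δ₀ n := by
    ext z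
    refine (?_ : WidePullback.lift (arrows := fun _ : Fin (n + 2) => f.hom) _ _ _ ≫ _ = z)
    refine WidePullback.hom_ext _ _ _ (fun j => ?_) ?_
    · erw [Category.assoc, WidePullback.lift_π, WidePullback.lift_π]
      rfl
    · erw [Category.assoc, WidePullback.lift_base, WidePullback.lift_base]
  s_comp_δ n i := by
    ext z
    refine (?_ : WidePullback.lift (arrows := fun _ : Fin (n + 1 + 2) => f.hom) _ _ _ ≫ _ =
      (_ : P ⟶ f.cechNerve.obj (op ⦋n + 1⦌)))
    have hb : imgBase f P z = imgBase f P ((z : P ⟶ f.cechNerve.obj (op ⦋n + 1⦌)) ≫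
        f.cechNerve.map (SimplexCategory.δ i).op) :=
      Subtype.ext (((Category.assoc _ _ _).trans (congr_arg (z ≫ ·) (WidePullback.lift_base _ _ _ _))).symm)
    refine WidePullback.hom_ext _ _ _ (fun j => ?_) ?_
    · erw [Category.assoc, WidePullback.lift_π, WidePullback.lift_π, WidePullback.lift_π]
      induction j using Fin.cases with
      | zero =>
        simp only [SimplexCategory.δ, SimplexCategory.Hom.toOrderHom_mk, SimplexCategory.mkHom, SimplexCategory.len_mk,
          Quiver.Hom.unop_op, OrderEmbedding.toOrderHom_coe, Fin.succAboveOrderEmb_apply, Fin.succ_succAbove_zero,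
          Fin.cases_zero]
        exact congr_arg (imgSec f P) hb
      | succ j =>
        simp only [SimplexCategory.δ, SimplexCategory.Hom.toOrderHom_mk, SimplexCategory.mkHom, SimplexCategory.len_mk,
          Quiver.Hom.unop_op, OrderEmbedding.toOrderHom_coe, Fin.succAboveOrderEmb_apply, Fin.succ_succAbove_succ,
          Fin.cases_succ]
        erw [Category.assoc, WidePullback.lift_π]
        rfl
    · erw [Category.assoc, WidePullback.lift_base, WidePullback.lift_base, WidePullback.lift_base]
      exact congr_arg Subtype.val hb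
  s_comp_σ n i := by
    ext z
    refine (?_ : WidePullback.lift (arrows := fun _ : Fin (n + 2) => f.hom) _ _ _ ≫ _ =
      (_ : P ⟶ f.cechNerve.obj (op ⦋n + 1 + 1⦌)))
    have hb : imgBase f P z = imgBase f P ((z : P ⟶ f.cechNerve.obj (op ⦋n⦌)) ≫
        f.cechNerve.map (SimplexCategory.σ i).op) :=
      Subtype.ext (((Category.assoc _ _ _).trans (congr_arg (z ≫ ·) (WidePullback.lift_base _ _ _ _))).symm)
    refine WidePullback.hom_ext _ _ _ (fun j => ?_) ?_
    · erw [Category.assoc, WidePullback.lift_π, WidePullback.lift_π, WidePullback.lift_π]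
      induction j using Fin.cases with
      | zero =>
        simp only [SimplexCategory.σ, SimplexCategory.Hom.toOrderHom_mk, SimplexCategory.mkHom, SimplexCategory.len_mk,
          Quiver.Hom.unop_op, Fin.predAboveOrderHom_coe, Fin.succ_predAbove_zero,
          Fin.cases_zero]
        exact congr_arg (imgSec f P) hb
      | succ j =>
        simp only [SimplexCategory.σ, SimplexCategory.Hom.toOrderHom_mk, SimplexCategory.mkHom, SimplexCategory.len_mk,
          Quiver.Hom.unop_op, Fin.predAboveOrderHom_coe, Fin.succ_predAbove_succ,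
          Fin.cases_succ]
        erw [Category.assoc, WidePullback.lift_π]
        rfl
    · erw [Category.assoc, WidePullback.lift_base, WidePullback.lift_base, WidePullback.lift_base]
      exact congr_arg Subtype.val hb

end Groth.Agent.SiteCoh
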